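import Cfsg.Agent.Lib.Helper79.Schur
import Mathlib.RingTheory.Norm.Transitivity
import Mathlib.FieldTheory.IntermediateField.Adjoin.Basic
import Mathlib.RingTheory.Polynomial.RationalRoot
import Mathlib.RingTheory.IntegralClosure.IntegrallyClosed
import Mathlib.Analysis.Complex.Norm
import Mathlib.RingTheory.RootsOfUnity.Complex
import Mathlib.Data.Multiset.Fintype

/-!
# Degree divides the group order; Burnside's vanishing lemma (helper79)

* `finrank_dvd_card`: the degree of an irreducible complex representation divides `|G|`.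
* `isIntegral_of_sum_smul_eq_smul`: if `∑ g, c g • ρ g = s • id` with `c g` algebraic integers and
  `ρ` irreducible then `s` is an algebraic integer.
* `avg_roots_of_unity_aux`: an algebraic integer that is an average of roots of unity and has
  absolute value `< 1` is `0`.
* `char_eq_zero_or_norm_eq_of_isIntegral_div`, `burnside_coprime`: Burnside's lemma.
* `Cfsg`-vocabulary versions at the end (`irr_charDegree_dvd_card`, `irr_burnside_coprime`, ...).
-/

open Representation IntermediateField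

namespace Cfsg.Agent.Lib.Helper79

variable {G : Type*} [Group G] {V : Type*} [AddCommGroup V] [Module ℂ V]



/-- `∑ g, χ(g) χ(g⁻¹) = |G|` for an irreducible complex representation. -/
theorem sum_char_mul_char_inv [Fintype G] (ρ : Representation ℂ G V) [FiniteDimensional ℂ V]
    [ρ.IsIrreducible] : ∑ g : G, ρ.character g * ρ.character g⁻¹ = (Fintype.card G : ℂ) := by
  have hG : (Nat.card G : ℂ) ≠ 0 := by
    rw [Nat.card_eq_fintype_card]; exact_mod_cast Fintype.card_ne_zero
  have : Invertible (Nat.card G : ℂ) := invertibleOfNonzero hG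
  have h := Representation.char_orthonormal ρ ρ
  rw [if_pos ⟨Representation.Equiv.refl ρ⟩] at h
  rw [← Nat.card_eq_fintype_card]
  field_simp at h
  simpa using h

/-- The operator `∑ g, χ(g⁻¹) ρ(g)`. -/
noncomputable def charSumOp [Fintype G] (ρ : Representation ℂ G V) : V →ₗ[ℂ] V :=
  ∑ g : G, ρ.character g⁻¹ • ρ g

theorem charSumOp_comm [Fintype G] (ρ : Representation ℂ G V) (h : G) :
    charSumOp ρ ∘ₗ ρ h = ρ h ∘ₗ charSumOp ρ := by
  unfold charSumOp
  rw [← Module.End.mul_eq_comp, ← Module.End.mul_eq_comp, Finset.sum_mul, Finset.mul_sum]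
  rw [← Equiv.sum_comp (Equiv.mulLeft h |>.trans (Equiv.mulRight h⁻¹))]
  apply Finset.sum_congr rfl
  intro g _
  simp only [Equiv.trans_apply, Equiv.coe_mulLeft, Equiv.coe_mulRight]
  rw [smul_mul_assoc, mul_smul_comm, ← map_mul, ← map_mul]
  have e1 : (h * g * h⁻¹)⁻¹ = h * g⁻¹ * h⁻¹ := by group
  rw [e1, ρ.char_conj]
  congr 2
  group

theorem trace_charSumOp [Fintype G] (ρ : Representation ℂ G V) [FiniteDimensional ℂ V]
    [ρ.IsIrreducible] : LinearMap.trace ℂ V (charSumOp ρ) = (Fintype.card G : ℂ) := by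
  unfold charSumOp
  rw [map_sum, ← sum_char_mul_char_inv ρ]
  apply Finset.sum_congr rfl
  intro g _
  rw [map_smul, smul_eq_mul, mul_comm]
  rfl

/-- `∑ g, χ(g⁻¹) ρ(g) = (|G| / χ(1)) • id`. -/
theorem charSumOp_eq_smul [Fintype G] (ρ : Representation ℂ G V) [FiniteDimensional ℂ V]
    [ρ.IsIrreducible] :
    charSumOp ρ = ((Fintype.card G : ℂ) / (Module.finrank ℂ V : ℂ)) • LinearMap.id := by
  rw [← trace_charSumOp ρ]
  exact eq_smul_id_of_comm ρ _ (charSumOp_comm ρ)

/-- The algebra homomorphism `𝔸[G] → End V` induced by a representation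
(`𝔸` the algebraic integers). -/
noncomputable def algIntGroupRingHom (ρ : Representation ℂ G V) :
    MonoidAlgebra Cfsg.AlgInt G →ₐ[Cfsg.AlgInt] Module.End ℂ V :=
  MonoidAlgebra.lift Cfsg.AlgInt (Module.End ℂ V) G ρ

theorem algIntGroupRingHom_single (ρ : Representation ℂ G V) (z : G) (c : Cfsg.AlgInt) :
    algIntGroupRingHom ρ (MonoidAlgebra.single z c) = (c : ℂ) • ρ z := by
  simp [algIntGroupRingHom]
  rfl

/-- If `∑ g, c g • ρ g` is the scalar `s`, with `c g` algebraic integers and `ρ` irreducible,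
then `s` is an algebraic integer. -/
theorem isIntegral_of_sum_smul_eq_smul [Finite G] (ρ : Representation ℂ G V)
    [FiniteDimensional ℂ V] [ρ.IsIrreducible] (c : G → ℂ) (hc : ∀ g, IsIntegral ℤ (c g)) (s : ℂ)
    (hs : haveI := Fintype.ofFinite G; ∑ g : G, c g • ρ g = s • LinearMap.id) :
    IsIntegral ℤ s := by
  classical
  have := Fintype.ofFinite G
  let a : MonoidAlgebra Cfsg.AlgInt G := ∑ g : G, MonoidAlgebra.single g ⟨c g, hc g⟩
  have ha : IsIntegral Cfsg.AlgInt a := IsIntegral.of_finite _ a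
  have hψ : algIntGroupRingHom ρ a = s • LinearMap.id := by
    simp only [a, map_sum, algIntGroupRingHom_single]
    convert hs
  have h1 : IsIntegral Cfsg.AlgInt (s • (LinearMap.id : V →ₗ[ℂ] V)) :=
    hψ ▸ ha.map (algIntGroupRingHom ρ)
  let f : ℂ →ₐ[Cfsg.AlgInt] Module.End ℂ V :=
    (Algebra.ofId ℂ (Module.End ℂ V)).restrictScalars Cfsg.AlgInt
  have hf : Function.Injective f := by
    intro u v huv
    have hV : Nontrivial V := Module.finrank_pos_iff.mp
      (Nat.pos_of_ne_zero (finrank_ne_zero_of_irreducible ρ))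
    exact (algebraMap ℂ (Module.End ℂ V)).injective huv
  have h2 : f s = s • LinearMap.id := by
    simp [f, Algebra.ofId_apply, Algebra.algebraMap_eq_smul_one]
    rfl
  rw [← h2] at h1
  have h3 : IsIntegral Cfsg.AlgInt s := (isIntegral_algHom_iff f hf).mp h1
  exact isIntegral_trans (R := ℤ) (A := Cfsg.AlgInt) s h3

/-- A rational number `a / b` (as a complex number) that is an algebraic integer: `b ∣ a`. -/
theorem dvd_of_isIntegral_div {a b : ℕ} (hb : b ≠ 0) (h : IsIntegral ℤ ((a : ℂ) / (b : ℂ))) :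
    b ∣ a := by
  have h1 : ((a : ℂ) / (b : ℂ)) = algebraMap ℚ ℂ ((a : ℚ) / (b : ℚ)) := by
    simp
  rw [h1] at h
  have h2 : IsIntegral ℤ ((a : ℚ) / (b : ℚ)) :=
    (isIntegral_algebraMap_iff (algebraMap ℚ ℂ).injective).mp h
  obtain ⟨z, hz⟩ := IsIntegrallyClosed.isIntegral_iff.mp h2
  have hbq : (b : ℚ) ≠ 0 := by exact_mod_cast hb
  have h3 : (a : ℚ) = (b : ℚ) * z := by
    field_simp at hz
    simp at hz
    linarith
  have h4 : (a : ℤ) = (b : ℤ) * z := by exact_mod_cast h3
  exact Int.natCast_dvd_natCast.mp ⟨z, h4⟩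

/-- The degree of an irreducible complex representation divides the group order. -/
theorem finrank_dvd_card [Finite G] (ρ : Representation ℂ G V) [FiniteDimensional ℂ V]
    [ρ.IsIrreducible] : Module.finrank ℂ V ∣ Nat.card G := by
  classical
  have := Fintype.ofFinite G
  apply dvd_of_isIntegral_div (finrank_ne_zero_of_irreducible ρ)
  apply isIntegral_of_sum_smul_eq_smul ρ (fun g => ρ.character g⁻¹) (fun g => char_isIntegral ρ g⁻¹)
  have h := charSumOp_eq_smul ρ
  unfold charSumOp at h
  rw [Nat.card_eq_fintype_card]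
  convert h




/-- An algebraic integer which is an average of roots of unity is `0` or has absolute value `1`. -/
theorem avg_roots_of_unity_aux {ι : Type*} [Fintype ι] [Nonempty ι] (ε : ι → ℂ) (m : ℕ)
    (hm : 0 < m) (hε : ∀ i, ε i ^ m = 1)
    (hint : IsIntegral ℤ ((∑ i, ε i) / (Fintype.card ι : ℂ))) (hlt : ‖(∑ i, ε i) / (Fintype.card ι : ℂ)‖ < 1) :
    (∑ i, ε i) / (Fintype.card ι : ℂ) = 0 := by
  classical
  set α := (∑ i, ε i) / (Fintype.card ι : ℂ) with hα
  have hεint : ∀ x ∈ Set.range ε, IsIntegral ℚ x := by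
    rintro x ⟨i, rfl⟩
    apply IsIntegral.of_pow hm
    rw [hε i]; exact isIntegral_one
  let K : IntermediateField ℚ ℂ := adjoin ℚ (Set.range ε)
  have : FiniteDimensional ℚ K := finiteDimensional_adjoin hεint
  let e : ι → K := fun i => ⟨ε i, subset_adjoin ℚ _ (Set.mem_range_self i)⟩
  let a : K := (∑ i, e i) / (Fintype.card ι : K)
  have ha : (a : ℂ) = α := by
    simp [a, e, hα]
  have hcard : (Fintype.card ι : ℂ) ≠ 0 := by exact_mod_cast Fintype.card_ne_zero
  have hcardpos : (0 : ℝ) < Fintype.card ι := by exact_mod_cast Fintype.card_pos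
  -- every embedding sends `a` to something of norm ≤ 1
  have hσ : ∀ σ : K →ₐ[ℚ] ℂ, ‖σ a‖ ≤ 1 := by
    intro σ
    have h1 : σ a = (∑ i, σ (e i)) / (Fintype.card ι : ℂ) := by
      simp [a, map_div₀, map_sum]
    have h2 : ∀ i, ‖σ (e i)‖ = 1 := by
      intro i
      have : (σ (e i)) ^ m = 1 := by
        rw [← map_pow]
        have : (e i) ^ m = 1 := by
          apply Subtype.ext
          simp [e, hε i]
        rw [this, map_one]
      exact Complex.norm_eq_one_of_pow_eq_one this hm.ne'
    rw [h1, norm_div, Complex.norm_natCast, div_le_one hcardpos]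
    calc ‖∑ i, σ (e i)‖ ≤ ∑ i, ‖σ (e i)‖ := norm_sum_le _ _
      _ = Fintype.card ι := by simp [h2]
  -- a is integral over ℤ
  have haint : IsIntegral ℤ a := by
    have : IsIntegral ℤ (algebraMap K ℂ a) := by
      rw [IntermediateField.algebraMap_apply, ha]; exact hint
    exact (isIntegral_algebraMap_iff (algebraMap K ℂ).injective).mp this
  have hnint : IsIntegral ℤ (Algebra.norm ℚ a) := Algebra.isIntegral_norm ℚ haint
  obtain ⟨z, hz⟩ := IsIntegrallyClosed.isIntegral_iff.mp hnint
  have hprod := Algebra.norm_eq_prod_embeddings ℚ ℂ a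
  -- the norm of the product is < 1
  have hlt1 : ‖∏ σ : K →ₐ[ℚ] ℂ, σ a‖ < 1 := by
    rw [norm_prod]
    have hσ0 : ‖(K.val) a‖ < 1 := by
      simpa [ha] using hlt
    calc ∏ σ : K →ₐ[ℚ] ℂ, ‖σ a‖
        = ‖K.val a‖ * ∏ σ ∈ Finset.univ.erase K.val, ‖σ a‖ := by
          exact (Finset.mul_prod_erase Finset.univ (fun σ : K →ₐ[ℚ] ℂ => ‖σ a‖) (Finset.mem_univ _)).symm
      _ ≤ ‖K.val a‖ * 1 := by
          apply mul_le_mul_of_nonneg_left _ (norm_nonneg _)
          apply Finset.prod_le_one
          · intro σ _; exact norm_nonneg _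
          · intro σ _; exact hσ σ
      _ < 1 := by rw [mul_one]; exact hσ0
  rw [← hprod, ← hz] at hlt1
  have hz0 : z = 0 := by
    have : ‖((z : ℤ) : ℂ)‖ < 1 := by simpa using hlt1
    rw [Complex.norm_intCast] at this
    have : |z| < 1 := by exact_mod_cast this
    exact Int.abs_lt_one_iff.mp this
  rw [hz0] at hz
  have hnorm0 : Algebra.norm ℚ a = 0 := by rw [← hz]; simp
  have ha0 : a = 0 := Algebra.norm_eq_zero_iff.mp hnorm0
  rw [← ha, ha0]; simp




/-- The character value as a sum of `dim V` roots of unity (the roots of the characteristic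
polynomial). -/
theorem char_eq_sum_roots [Finite G] (ρ : Representation ℂ G V) [FiniteDimensional ℂ V] (g : G) :
    ρ.character g = ((ρ g).charpoly.roots).sum ∧
      Multiset.card ((ρ g).charpoly.roots) = Module.finrank ℂ V ∧
      ∀ μ ∈ (ρ g).charpoly.roots, μ ^ orderOf g = 1 := by
  refine ⟨?_, ?_, ?_⟩
  · unfold Representation.character
    rw [Module.End.trace_eq_sum_roots_charpoly_of_splits (IsAlgClosed.splits _)]
  · rw [← LinearMap.charpoly_natDegree (ρ g)]
    exact (Polynomial.splits_iff_card_roots.mp (IsAlgClosed.splits _))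
  · intro μ hμ
    have hroot : (ρ g).charpoly.IsRoot μ := (Polynomial.mem_roots'.mp hμ).2
    have hev := (Module.End.hasEigenvalue_iff_isRoot_charpoly (ρ g) μ).mpr hroot
    exact eigenvalue_pow_orderOf ρ g μ hev

theorem norm_char_le [Finite G] (ρ : Representation ℂ G V) [FiniteDimensional ℂ V] (g : G) :
    ‖ρ.character g‖ ≤ Module.finrank ℂ V := by
  obtain ⟨h1, h2, h3⟩ := char_eq_sum_roots ρ g
  rw [h1, ← h2]
  calc ‖((ρ g).charpoly.roots).sum‖ ≤ (((ρ g).charpoly.roots).map (fun x => ‖x‖)).sum :=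
        norm_multiset_sum_le _
    _ = (((ρ g).charpoly.roots).map (fun _ => (1 : ℝ))).sum := by
        congr 1
        apply Multiset.map_congr rfl
        intro μ hμ
        exact Complex.norm_eq_one_of_pow_eq_one (h3 μ hμ) (orderOf_pos g).ne'
    _ = Multiset.card ((ρ g).charpoly.roots) := by simp

/-- If `χ(g)/χ(1)` is an algebraic integer then `χ(g) = 0` or `|χ(g)| = χ(1)`. -/
theorem char_eq_zero_or_norm_eq_of_isIntegral_div [Finite G] (ρ : Representation ℂ G V)
    [FiniteDimensional ℂ V] (g : G)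
    (hint : IsIntegral ℤ (ρ.character g / (Module.finrank ℂ V : ℂ))) :
    ρ.character g = 0 ∨ ‖ρ.character g‖ = Module.finrank ℂ V := by
  classical
  obtain ⟨h1, h2, h3⟩ := char_eq_sum_roots ρ g
  set s := (ρ g).charpoly.roots with hs
  by_cases hn : Module.finrank ℂ V = 0
  · left
    have : s = 0 := Multiset.card_eq_zero.mp (h2.trans hn)
    rw [h1, this]; simp
  have hnpos : 0 < Module.finrank ℂ V := Nat.pos_of_ne_zero hn
  have hcard : Fintype.card s = Module.finrank ℂ V := by rw [Multiset.card_coe, h2]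
  have : Nonempty s := by
    rw [← Fintype.card_pos_iff, hcard]; exact hnpos
  have hsum : ρ.character g = ∑ x : s, (x : ℂ) := by rw [h1, Multiset.sum_eq_sum_coe]
  by_cases hlt : ‖ρ.character g‖ < Module.finrank ℂ V
  · left
    have key := avg_roots_of_unity_aux (fun x : s => (x : ℂ)) (orderOf g) (orderOf_pos g)
      (fun x => h3 x.1 Multiset.coe_mem) (by rw [← hsum, hcard]; exact hint)
      (by
        rw [← hsum, hcard, norm_div, Complex.norm_natCast, div_lt_one (by exact_mod_cast hnpos)]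
        exact hlt)
    rw [← hsum, hcard] at key
    have hne : (Module.finrank ℂ V : ℂ) ≠ 0 := by exact_mod_cast hn
    exact (div_eq_zero_iff.mp key).resolve_right hne
  · right
    exact le_antisymm (norm_char_le ρ g) (not_lt.mp hlt)

/-- Burnside's vanishing lemma: if `χ(1)` is coprime to `|cl(g)|` then `χ(g) = 0` or
`|χ(g)| = χ(1)`. -/
theorem burnside_coprime [Finite G] (ρ : Representation ℂ G V) [FiniteDimensional ℂ V]
    [ρ.IsIrreducible] (g : G)
    (hcop : Nat.Coprime (Module.finrank ℂ V) (Subgroup.centralizer ({g} : Set G)).index) :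
    ρ.character g = 0 ∨ ‖ρ.character g‖ = Module.finrank ℂ V := by
  apply char_eq_zero_or_norm_eq_of_isIntegral_div
  set n := Module.finrank ℂ V with hn
  set k := (Subgroup.centralizer ({g} : Set G)).index with hk
  have hn0 : (n : ℂ) ≠ 0 := by exact_mod_cast finrank_ne_zero_of_irreducible ρ
  have hbez : (n : ℤ) * Nat.gcdA n k + (k : ℤ) * Nat.gcdB n k = 1 := by
    have := Nat.gcd_eq_gcd_ab n k
    rw [hcop.gcd_eq_one] at this
    exact_mod_cast this.symm
  have hbezC : (n : ℂ) * (Nat.gcdA n k : ℂ) + (k : ℂ) * (Nat.gcdB n k : ℂ) = 1 := by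
    exact_mod_cast hbez
  have e : ρ.character g / (n : ℂ) =
      (Nat.gcdA n k : ℂ) * ρ.character g + (Nat.gcdB n k : ℂ) * ((k : ℂ) * ρ.character g / (n : ℂ)) := by
    field_simp
    linear_combination (-(ρ.character g)) * hbezC
  rw [e]
  apply IsIntegral.add
  · exact IsIntegral.mul (by simpa using (isIntegral_algebraMap (R := ℤ) (A := ℂ) (x := Nat.gcdA n k))) (char_isIntegral ρ g)
  · exact IsIntegral.mul (by simpa using (isIntegral_algebraMap (R := ℤ) (A := ℂ) (x := Nat.gcdB n k))) (centralChar_isIntegral ρ g)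


/-! ### `Cfsg` vocabulary -/

/-- For an irreducible character given by `ρ` on `Fin n → ℂ`: `χ 1 = n` and `charDegree χ = n`. -/
theorem charDegree_of_rep {n : ℕ} (ρ : Representation ℂ G (Fin n → ℂ)) :
    Cfsg.charDegree ρ.character = n := by
  unfold Cfsg.charDegree
  rw [Representation.char_one]
  simp

theorem irr_apply_one_eq_charDegree (χ : Cfsg.IrrCharacter G) :
    (χ : G → ℂ) 1 = (Cfsg.charDegree (χ : G → ℂ) : ℂ) := by
  obtain ⟨n, ρ, _, hχ⟩ := χ.2
  rw [← hχ, charDegree_of_rep ρ, Representation.char_one]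
  simp

theorem irr_charDegree_pos (χ : Cfsg.IrrCharacter G) : 0 < Cfsg.charDegree (χ : G → ℂ) := by
  obtain ⟨n, ρ, hirr, hχ⟩ := χ.2
  rw [← hχ, charDegree_of_rep ρ]
  have := finrank_ne_zero_of_irreducible ρ
  simp at this
  omega

/-- The degree of an irreducible character divides the group order. -/
theorem irr_charDegree_dvd_card [Finite G] (χ : Cfsg.IrrCharacter G) :
    Cfsg.charDegree (χ : G → ℂ) ∣ Nat.card G := by
  obtain ⟨n, ρ, hirr, hχ⟩ := χ.2
  rw [← hχ, charDegree_of_rep ρ]
  have := finrank_dvd_card ρ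
  simpa using this

theorem irr_norm_le [Finite G] (χ : Cfsg.IrrCharacter G) (g : G) :
    ‖(χ : G → ℂ) g‖ ≤ Cfsg.charDegree (χ : G → ℂ) := by
  obtain ⟨n, ρ, hirr, hχ⟩ := χ.2
  rw [← hχ, charDegree_of_rep ρ]
  have := norm_char_le ρ g
  simpa using this

theorem isCharacter_norm_le [Finite G] {χ : G → ℂ} (hχ : Cfsg.IsCharacter G χ) (g : G) :
    ‖χ g‖ ≤ Cfsg.charDegree χ := by
  obtain ⟨n, ρ, rfl⟩ := hχ
  rw [charDegree_of_rep ρ]
  have := norm_char_le ρ g
  simpa using this

/-- Burnside's vanishing lemma for `Cfsg.IrrCharacter`. -/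
theorem irr_burnside_coprime [Finite G] (χ : Cfsg.IrrCharacter G) (g : G)
    (hcop : Nat.Coprime (Cfsg.charDegree (χ : G → ℂ))
      (Subgroup.centralizer ({g} : Set G)).index) :
    (χ : G → ℂ) g = 0 ∨ ‖(χ : G → ℂ) g‖ = Cfsg.charDegree (χ : G → ℂ) := by
  obtain ⟨n, ρ, hirr, hχ⟩ := χ.2
  rw [← hχ, charDegree_of_rep ρ] at hcop ⊢
  have := burnside_coprime ρ g (by simpa using hcop)
  simpa using this

end Cfsg.Agent.Lib.Helper79
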