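import Mathlib.RepresentationTheory.Character
import Mathlib.RepresentationTheory.Irreducible
import Mathlib.Analysis.Complex.Polynomial.Basic
import Mathlib.LinearAlgebra.Eigenspace.Charpoly
import Mathlib.GroupTheory.GroupAction.Quotient
import Cfsg.Prelude.Def_Blocks

/-!
# Schur's lemma for class sums, central characters, integrality (helper79)

For an irreducible complex representation `ρ` of a finite group `G` on a finite-dimensional
space `V` (any `V`, in particular `Fin n → ℂ`):

* `eq_smul_id_of_comm`: an endomorphism commuting with `ρ` is the scalar `trace / dim`.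
* `classOp_eq_smul`: `∑_{z ∈ cl(x)} ρ z = (|cl(x)| χ(x) / χ(1)) • id`.
* `classSumOp_eq_smul`: `∑_{a ∈ G} ρ (a x a⁻¹) = (|G| χ(x) / χ(1)) • id`.
* `sum_sum_char_conj_mul_conj`: `∑_{a,b} χ(a x a⁻¹ b y b⁻¹) = |G|² χ(x) χ(y) / χ(1)`.
* `char_isIntegral`: character values (any f.d. representation) are algebraic integers.
* `centralChar_isIntegral`: `|cl(x)| χ(x) / χ(1)` is an algebraic integer.

Then the same in the `Cfsg` vocabulary (`IsCharacter`, `IrrCharacter`, `centralChar`, `AlgInt`).
-/

open Representation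

namespace Cfsg.Agent.Lib.Helper79

variable {G : Type*} [Group G] {V : Type*} [AddCommGroup V] [Module ℂ V]

theorem finrank_ne_zero_of_irreducible (ρ : Representation ℂ G V) [FiniteDimensional ℂ V]
    [ρ.IsIrreducible] : Module.finrank ℂ V ≠ 0 := by
  intro h
  have hsub : Subsingleton V := Module.finrank_zero_iff.mp h
  have : Nontrivial (Subrepresentation ρ) := inferInstance
  obtain ⟨a, b, hab⟩ := this
  apply hab
  apply Subrepresentation.toSubmodule_injective
  exact Subsingleton.elim _ _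

/-- Schur's lemma in the form: an endomorphism commuting with an irreducible complex
representation is a scalar, namely `trace / dim`. -/
theorem eq_smul_id_of_comm (ρ : Representation ℂ G V) [FiniteDimensional ℂ V]
    [ρ.IsIrreducible] (T : V →ₗ[ℂ] V) (hT : ∀ g, T ∘ₗ ρ g = ρ g ∘ₗ T) :
    T = ((LinearMap.trace ℂ V T) / (Module.finrank ℂ V : ℂ)) • LinearMap.id := by
  let T' : IntertwiningMap ρ ρ := ⟨T, hT⟩
  obtain ⟨c, hc⟩ :=
    (IsIrreducible.algebraMap_intertwiningMap_bijective_of_isAlgClosed (ρ := ρ)).2 T'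
  have hTc : T = c • LinearMap.id := by
    have := congrArg IntertwiningMap.toLinearMap hc
    rw [Algebra.algebraMap_eq_smul_one] at this
    exact this.symm
  have hn : (Module.finrank ℂ V : ℂ) ≠ 0 := by
    exact_mod_cast finrank_ne_zero_of_irreducible ρ
  have htr : LinearMap.trace ℂ V T = c * (Module.finrank ℂ V : ℂ) := by
    rw [hTc, map_smul, LinearMap.trace_id, smul_eq_mul]
  rw [htr, mul_div_assoc, div_self hn, mul_one]
  exact hTc

/-- The conjugacy class of `x` as a finset. -/
noncomputable def conjFinset [Fintype G] (x : G) : Finset G := by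
  classical exact Finset.univ.filter (fun z => IsConj x z)

theorem mem_conjFinset [Fintype G] {x z : G} : z ∈ conjFinset x ↔ IsConj x z := by
  classical
  simp [conjFinset]

theorem card_conjFinset [Fintype G] (x : G) :
    (conjFinset x).card = (Subgroup.centralizer ({x} : Set G)).index := by
  classical
  have e : MulAction.orbit (ConjAct G) x ≃ G ⧸ Subgroup.centralizer ({x} : Set G) :=
    (MulAction.orbitEquivQuotientStabilizer (ConjAct G) x).trans
      (Subgroup.quotientEquivOfEq (ConjAct.stabilizer_eq_centralizer x))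
  rw [Subgroup.index, ← Nat.card_congr e, ConjAct.orbit_eq_carrier_conjClasses]
  rw [Nat.card_eq_fintype_card, ← Set.toFinset_card]
  congr 1
  ext z
  rw [Set.mem_toFinset, mem_conjFinset, ConjClasses.mem_carrier_iff_mk_eq,
    ConjClasses.mk_eq_mk_iff_isConj, isConj_comm]

/-- The class-sum operator `∑_{z ∈ cl(x)} ρ z`. -/
noncomputable def classOp [Fintype G] (ρ : Representation ℂ G V) (x : G) : V →ₗ[ℂ] V :=
  ∑ z ∈ conjFinset x, ρ z

theorem classOp_comm [Fintype G] (ρ : Representation ℂ G V) (x g : G) :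
    classOp ρ x ∘ₗ ρ g = ρ g ∘ₗ classOp ρ x := by
  classical
  unfold classOp
  rw [← Module.End.mul_eq_comp, ← Module.End.mul_eq_comp, Finset.sum_mul, Finset.mul_sum]
  refine Finset.sum_bij (fun z _ => g⁻¹ * z * g) ?_ ?_ ?_ ?_
  · intro z hz
    rw [mem_conjFinset] at hz ⊢
    exact hz.trans (isConj_iff.mpr ⟨g⁻¹, by simp⟩)
  · intro a _ b _ h
    simpa using h
  · intro b hb
    refine ⟨g * b * g⁻¹, ?_, by group⟩
    rw [mem_conjFinset] at hb ⊢
    exact hb.trans (isConj_iff.mpr ⟨g, rfl⟩)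
  · intro z _
    rw [← map_mul, ← map_mul]
    congr 1
    group

theorem trace_classOp [Fintype G] (ρ : Representation ℂ G V) (x : G) :
    LinearMap.trace ℂ V (classOp ρ x) =
      ((Subgroup.centralizer ({x} : Set G)).index : ℂ) * ρ.character x := by
  unfold classOp
  rw [map_sum]
  have : ∀ z ∈ conjFinset x, LinearMap.trace ℂ V (ρ z) = ρ.character x := by
    intro z hz
    rw [mem_conjFinset, isConj_iff] at hz
    obtain ⟨c, rfl⟩ := hz
    exact ρ.char_conj x c
  rw [Finset.sum_congr rfl this, Finset.sum_const, card_conjFinset, nsmul_eq_mul]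

/-- Schur: the class sum acts as the scalar `ω_χ(x) = |cl(x)| χ(x) / χ(1)`. -/
theorem classOp_eq_smul [Fintype G] (ρ : Representation ℂ G V) [FiniteDimensional ℂ V]
    [ρ.IsIrreducible] (x : G) :
    classOp ρ x = (((Subgroup.centralizer ({x} : Set G)).index : ℂ) * ρ.character x /
      (Module.finrank ℂ V : ℂ)) • LinearMap.id := by
  rw [← trace_classOp]
  exact eq_smul_id_of_comm ρ _ (classOp_comm ρ x)

/-- The operator `∑_{a ∈ G} ρ (a x a⁻¹)` (each class element counted `|C_G(x)|` times). -/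
noncomputable def classSumOp [Fintype G] (ρ : Representation ℂ G V) (x : G) : V →ₗ[ℂ] V :=
  ∑ a : G, ρ (a * x * a⁻¹)

theorem classSumOp_comm [Fintype G] (ρ : Representation ℂ G V) (x g : G) :
    classSumOp ρ x ∘ₗ ρ g = ρ g ∘ₗ classSumOp ρ x := by
  unfold classSumOp
  rw [← Module.End.mul_eq_comp, ← Module.End.mul_eq_comp, Finset.sum_mul, Finset.mul_sum]
  rw [← Equiv.sum_comp (Equiv.mulLeft g)]
  apply Finset.sum_congr rfl
  intro a _
  simp only [Equiv.coe_mulLeft]
  rw [← map_mul, ← map_mul]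
  congr 1
  group

theorem trace_classSumOp [Fintype G] (ρ : Representation ℂ G V) (x : G) :
    LinearMap.trace ℂ V (classSumOp ρ x) = (Fintype.card G : ℂ) * ρ.character x := by
  unfold classSumOp
  rw [map_sum]
  have : ∀ a : G, LinearMap.trace ℂ V (ρ (a * x * a⁻¹)) = ρ.character x := fun a =>
    ρ.char_conj x a
  simp only [this]
  simp

/-- Schur: `∑_{a ∈ G} ρ (a x a⁻¹) = (|G| χ(x) / χ(1)) • id`. -/
theorem classSumOp_eq_smul [Fintype G] (ρ : Representation ℂ G V) [FiniteDimensional ℂ V]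
    [ρ.IsIrreducible] (x : G) :
    classSumOp ρ x = ((Fintype.card G : ℂ) * ρ.character x / (Module.finrank ℂ V : ℂ)) •
      LinearMap.id := by
  rw [← trace_classSumOp]
  exact eq_smul_id_of_comm ρ _ (classSumOp_comm ρ x)

/-- `∑_{a,b ∈ G} χ(a x a⁻¹ b y b⁻¹) = |G|² χ(x) χ(y) / χ(1)` for `χ` irreducible. -/
theorem sum_sum_char_conj_mul_conj [Fintype G] (ρ : Representation ℂ G V)
    [FiniteDimensional ℂ V] [ρ.IsIrreducible] (x y : G) :
    ∑ a : G, ∑ b : G, ρ.character (a * x * a⁻¹ * (b * y * b⁻¹)) =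
      (Fintype.card G : ℂ) ^ 2 * ρ.character x * ρ.character y / (Module.finrank ℂ V : ℂ) := by
  have hn : (Module.finrank ℂ V : ℂ) ≠ 0 := by
    exact_mod_cast finrank_ne_zero_of_irreducible ρ
  have h1 : LinearMap.trace ℂ V (classSumOp ρ x * classSumOp ρ y) =
      ∑ a : G, ∑ b : G, ρ.character (a * x * a⁻¹ * (b * y * b⁻¹)) := by
    unfold classSumOp Representation.character
    rw [Finset.sum_mul, map_sum]
    apply Finset.sum_congr rfl
    intro a _
    rw [Finset.mul_sum, map_sum]
    apply Finset.sum_congr rfl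
    intro b _
    rw [← map_mul]
  rw [← h1, classSumOp_eq_smul, classSumOp_eq_smul, smul_mul_smul_comm, map_smul,
    Module.End.mul_eq_comp, LinearMap.comp_id, LinearMap.trace_id, smul_eq_mul]
  field_simp

/-- Every eigenvalue of `ρ g` (finite group) is a root of unity. -/
theorem eigenvalue_pow_orderOf (ρ : Representation ℂ G V) (g : G) (μ : ℂ)
    (hμ : Module.End.HasEigenvalue (ρ g) μ) : μ ^ orderOf g = 1 := by
  obtain ⟨v, hv⟩ := hμ.exists_hasEigenvector
  have h1 := hv.pow_apply (orderOf g)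
  rw [← map_pow, pow_orderOf_eq_one, map_one] at h1
  have h2 : (1 - μ ^ orderOf g) • v = 0 := by
    rw [sub_smul, one_smul, ← h1]; simp
  rcases smul_eq_zero.mp h2 with h | h
  · exact (sub_eq_zero.mp h).symm
  · exact absurd h hv.2

/-- Character values of a finite group are algebraic integers. -/
theorem char_isIntegral [Finite G] (ρ : Representation ℂ G V) [FiniteDimensional ℂ V] (g : G) :
    IsIntegral ℤ (ρ.character g) := by
  unfold Representation.character
  rw [Module.End.trace_eq_sum_roots_charpoly_of_splits (IsAlgClosed.splits _)]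
  apply IsIntegral.multiset_sum
  intro μ hμ
  have hroot : (ρ g).charpoly.IsRoot μ := (Polynomial.mem_roots'.mp hμ).2
  have hev := (Module.End.hasEigenvalue_iff_isRoot_charpoly (ρ g) μ).mpr hroot
  have hpow := eigenvalue_pow_orderOf ρ g μ hev
  apply IsIntegral.of_pow (orderOf_pos g)
  rw [hpow]
  exact isIntegral_one

/-- The ring homomorphism `ℤ[G] → End V` induced by a representation. -/
noncomputable def intGroupRingHom (ρ : Representation ℂ G V) :
    MonoidAlgebra ℤ G →ₐ[ℤ] Module.End ℂ V :=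
  MonoidAlgebra.lift ℤ (Module.End ℂ V) G ρ

theorem intGroupRingHom_single (ρ : Representation ℂ G V) (z : G) :
    intGroupRingHom ρ (MonoidAlgebra.single z 1) = ρ z := by
  simp [intGroupRingHom]

/-- `ω_χ(x) = |cl(x)| χ(x) / χ(1)` is an algebraic integer (`χ` irreducible). -/
theorem centralChar_isIntegral [Finite G] (ρ : Representation ℂ G V) [FiniteDimensional ℂ V]
    [ρ.IsIrreducible] (x : G) :
    IsIntegral ℤ (((Subgroup.centralizer ({x} : Set G)).index : ℂ) * ρ.character x /
      (Module.finrank ℂ V : ℂ)) := by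
  classical
  have := Fintype.ofFinite G
  set c := ((Subgroup.centralizer ({x} : Set G)).index : ℂ) * ρ.character x /
      (Module.finrank ℂ V : ℂ) with hc
  let a : MonoidAlgebra ℤ G := ∑ z ∈ conjFinset x, MonoidAlgebra.single z 1
  have ha : IsIntegral ℤ a := IsIntegral.of_finite ℤ a
  have hψ : intGroupRingHom ρ a = classOp ρ x := by
    simp only [a, map_sum, intGroupRingHom_single, classOp]
  have h1 : IsIntegral ℤ (classOp ρ x) := hψ ▸ ha.map (intGroupRingHom ρ)
  rw [classOp_eq_smul] at h1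
  let f : ℂ →ₐ[ℤ] Module.End ℂ V := (Algebra.ofId ℂ (Module.End ℂ V)).restrictScalars ℤ
  have hf : Function.Injective f := by
    intro u v huv
    have hV : Nontrivial V := Module.finrank_pos_iff.mp
      (Nat.pos_of_ne_zero (finrank_ne_zero_of_irreducible ρ))
    exact (algebraMap ℂ (Module.End ℂ V)).injective huv
  have h2 : f c = c • LinearMap.id := by
    simp [f, Algebra.ofId_apply, Algebra.algebraMap_eq_smul_one]
    rfl
  rw [← hc, ← h2] at h1
  exact (isIntegral_algHom_iff f hf).mp h1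

/-! ### The same in the `Cfsg` vocabulary -/

/-- Unpack an irreducible character. -/
theorem exists_rep_of_irr (χ : Cfsg.IrrCharacter G) :
    ∃ (n : ℕ) (ρ : Representation ℂ G (Fin n → ℂ)), ρ.IsIrreducible ∧ ρ.character = (χ : G → ℂ) :=
  χ.2

theorem irr_apply_one_eq_natCast (χ : Cfsg.IrrCharacter G) :
    ∃ n : ℕ, n ≠ 0 ∧ (χ : G → ℂ) 1 = n := by
  obtain ⟨n, ρ, hirr, hχ⟩ := χ.2
  refine ⟨n, ?_, ?_⟩
  · have := finrank_ne_zero_of_irreducible ρ
    simpa using this
  · rw [← hχ, Representation.char_one]; simp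

theorem irr_apply_one_ne_zero (χ : Cfsg.IrrCharacter G) : (χ : G → ℂ) 1 ≠ 0 := by
  obtain ⟨n, hn, h⟩ := irr_apply_one_eq_natCast χ
  rw [h]; exact_mod_cast hn

/-- Values of a `Cfsg.IsCharacter` are algebraic integers. -/
theorem isIntegral_of_isCharacter [Finite G] {χ : G → ℂ} (hχ : Cfsg.IsCharacter G χ) (g : G) :
    IsIntegral ℤ (χ g) := by
  obtain ⟨n, ρ, rfl⟩ := hχ
  exact char_isIntegral ρ g

theorem isIntegral_irr [Finite G] (χ : Cfsg.IrrCharacter G) (g : G) :
    IsIntegral ℤ ((χ : G → ℂ) g) := by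
  obtain ⟨n, ρ, _, hχ⟩ := χ.2
  rw [← hχ]
  exact char_isIntegral ρ g

theorem irr_mem_algInt [Finite G] (χ : Cfsg.IrrCharacter G) (g : G) :
    (χ : G → ℂ) g ∈ Cfsg.AlgInt :=
  isIntegral_irr χ g

/-- `Cfsg.centralChar χ g` is an algebraic integer for `χ` irreducible. -/
theorem isIntegral_centralChar [Finite G] (χ : Cfsg.IrrCharacter G) (g : G) :
    IsIntegral ℤ (Cfsg.centralChar (χ : G → ℂ) g) := by
  obtain ⟨n, ρ, hirr, hχ⟩ := χ.2
  have h := centralChar_isIntegral ρ g
  unfold Cfsg.centralChar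
  rw [← hχ, Representation.char_one]
  exact h

theorem centralChar_mem_algInt [Finite G] (χ : Cfsg.IrrCharacter G) (g : G) :
    Cfsg.centralChar (χ : G → ℂ) g ∈ Cfsg.AlgInt :=
  isIntegral_centralChar χ g

/-- `∑_{a,b ∈ G} χ(a x a⁻¹ b y b⁻¹) = |G|² χ(x) χ(y) / χ(1)` for `χ` irreducible. -/
theorem irr_sum_sum_conj_mul_conj [Fintype G] (χ : Cfsg.IrrCharacter G) (x y : G) :
    ∑ a : G, ∑ b : G, (χ : G → ℂ) (a * x * a⁻¹ * (b * y * b⁻¹)) =
      (Nat.card G : ℂ) ^ 2 * (χ : G → ℂ) x * (χ : G → ℂ) y / (χ : G → ℂ) 1 := by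
  obtain ⟨n, ρ, hirr, hχ⟩ := χ.2
  have h := sum_sum_char_conj_mul_conj ρ x y
  rw [← hχ, Representation.char_one, Nat.card_eq_fintype_card]
  exact h

/-- `∑_{a ∈ G} χ(a x a⁻¹ y) = |G| χ(x) χ(y) / χ(1)` for `χ` irreducible. -/
theorem irr_sum_conj_mul [Fintype G] (χ : Cfsg.IrrCharacter G) (x y : G) :
    ∑ a : G, (χ : G → ℂ) (a * x * a⁻¹ * y) =
      (Nat.card G : ℂ) * (χ : G → ℂ) x * (χ : G → ℂ) y / (χ : G → ℂ) 1 := by
  obtain ⟨n, ρ, hirr, hχ⟩ := χ.2
  have hn : (Module.finrank ℂ (Fin n → ℂ) : ℂ) ≠ 0 := by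
    exact_mod_cast finrank_ne_zero_of_irreducible ρ
  have h1 : LinearMap.trace ℂ _ (classSumOp ρ x * ρ y) =
      ∑ a : G, ρ.character (a * x * a⁻¹ * y) := by
    unfold classSumOp Representation.character
    rw [Finset.sum_mul, map_sum]
    apply Finset.sum_congr rfl
    intro a _
    rw [← map_mul]
  rw [← hχ, Representation.char_one, Nat.card_eq_fintype_card, ← h1, classSumOp_eq_smul,
    smul_mul_assoc, map_smul, Module.End.mul_eq_comp, LinearMap.id_comp, smul_eq_mul]
  unfold Representation.character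
  field_simp

end Cfsg.Agent.Lib.Helper79
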