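import Cfsg.Agent.Lib.Helper79.Schur
import Cfsg.Agent.Lib.Helper3.IrrBasis

/-!
# Column orthogonality; irreducible characters separate classes (helper79)

Built on helper3's completeness (`Cfsg.Agent.Lib.Helper3.classFunction_expansion`).

* `column_orthogonality_of_isConj`, `column_orthogonality_of_not_isConj`:
  `∑ χ, χ g * conj (χ h)` is `|C_G(g)|` if `g ∼ h` and `0` otherwise
  (sum over `Cfsg.IrrCharacter G`, as a `Finset.univ` sum for any `Fintype` instance).
* `finsum_column_orthogonality_*`: the same as a `finsum`.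
* `isConj_of_forall_irr_eq`: if all irreducible characters agree on `g`, `h` then `IsConj g h`.
-/

open scoped ComplexConjugate

namespace Cfsg.Agent.Lib.Helper79

open Cfsg.Agent.Lib.Helper3

variable {G : Type*} [Group G]

theorem irr_conj_apply (χ : Cfsg.IrrCharacter G) (g c : G) :
    (χ : G → ℂ) (c * g * c⁻¹) = (χ : G → ℂ) g := by
  obtain ⟨n, ρ, _, hχ⟩ := χ.2
  rw [← hχ]
  exact ρ.char_conj g c

theorem irr_apply_of_isConj (χ : Cfsg.IrrCharacter G) {g h : G}
    (hgh : IsConj g h) : (χ : G → ℂ) g = (χ : G → ℂ) h := by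
  obtain ⟨c, rfl⟩ := isConj_iff.mp hgh
  exact (irr_conj_apply χ g c).symm

/-- The indicator function of the conjugacy class of `h`. -/
noncomputable def classIndicator (h : G) : G → ℂ := fun g => by
  classical exact if IsConj h g then 1 else 0

theorem classIndicator_apply_of_isConj {h g : G} (hg : IsConj h g) : classIndicator h g = 1 := by
  classical
  unfold classIndicator
  rw [if_pos hg]

theorem classIndicator_apply_of_not_isConj {h g : G} (hg : ¬ IsConj h g) :
    classIndicator h g = 0 := by
  classical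
  unfold classIndicator
  rw [if_neg hg]

theorem classIndicator_isClassFunction (h : G) : Cfsg.IsClassFunction G (classIndicator h) := by
  classical
  intro g c
  have hiff : IsConj h (c * g * c⁻¹) ↔ IsConj h g := by
    constructor
    · intro H
      exact H.trans (isConj_iff.mpr ⟨c⁻¹, by group⟩)
    · intro H
      exact H.trans (isConj_iff.mpr ⟨c, rfl⟩)
  by_cases hg : IsConj h g
  · rw [classIndicator_apply_of_isConj hg, classIndicator_apply_of_isConj (hiff.mpr hg)]
  · rw [classIndicator_apply_of_not_isConj hg,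
      classIndicator_apply_of_not_isConj (fun H => hg (hiff.mp H))]

theorem classInner_classIndicator [Fintype G] (h : G) (χ : Cfsg.IrrCharacter G) :
    Cfsg.classInner (classIndicator h) (χ : G → ℂ) =
      (Nat.card G : ℂ)⁻¹ * (((Subgroup.centralizer ({h} : Set G)).index : ℂ) *
        conj ((χ : G → ℂ) h)) := by
  classical
  unfold Cfsg.classInner
  congr 1
  have : ∀ g : G, classIndicator h g * conj ((χ : G → ℂ) g) =
      if g ∈ conjFinset h then conj ((χ : G → ℂ) h) else 0 := by
    intro g
    by_cases hg : IsConj h g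
    · rw [classIndicator_apply_of_isConj hg, if_pos (mem_conjFinset.mpr hg), one_mul,
        irr_apply_of_isConj χ hg]
    · rw [classIndicator_apply_of_not_isConj hg, if_neg (fun H => hg (mem_conjFinset.mp H)),
        zero_mul]
  rw [Finset.sum_congr rfl (fun g _ => this g), Finset.sum_ite_mem, Finset.univ_inter,
    Finset.sum_const, card_conjFinset, nsmul_eq_mul]

/-- Column orthogonality, raw form: `∑ χ, χ g * conj (χ h) * |cl(h)| = |G| * 1_{cl(h)}(g)`. -/
theorem column_orthogonality_aux [Fintype G] [Fintype (Cfsg.IrrCharacter G)] (g h : G) :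
    (∑ χ : Cfsg.IrrCharacter G, (χ : G → ℂ) g * conj ((χ : G → ℂ) h)) *
      ((Subgroup.centralizer ({h} : Set G)).index : ℂ) = (Nat.card G : ℂ) * classIndicator h g := by
  have hG : (Nat.card G : ℂ) ≠ 0 := by exact_mod_cast Nat.card_pos.ne'
  have hexp := congrFun (classFunction_expansion (classIndicator h)
    (classIndicator_isClassFunction h)) g
  rw [hexp, Finset.sum_apply, Finset.mul_sum, Finset.sum_mul]
  apply Finset.sum_congr rfl
  intro χ _
  rw [Pi.smul_apply, smul_eq_mul, classInner_classIndicator]
  field_simp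

theorem card_centralizer_mul_index_cast [Finite G] (h : G) :
    (Nat.card (Subgroup.centralizer ({h} : Set G)) : ℂ) *
      ((Subgroup.centralizer ({h} : Set G)).index : ℂ) = (Nat.card G : ℂ) := by
  exact_mod_cast Subgroup.card_mul_index (Subgroup.centralizer ({h} : Set G))

theorem index_centralizer_cast_ne_zero [Finite G] (h : G) :
    ((Subgroup.centralizer ({h} : Set G)).index : ℂ) ≠ 0 := by
  exact_mod_cast Subgroup.index_ne_zero_of_finite

theorem card_centralizer_eq_of_isConj [Finite G] {g h : G} (hgh : IsConj g h) :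
    Nat.card (Subgroup.centralizer ({g} : Set G)) = Nat.card (Subgroup.centralizer ({h} : Set G)) := by
  obtain ⟨c, rfl⟩ := isConj_iff.mp hgh
  let e : Subgroup.centralizer ({g} : Set G) ≃ Subgroup.centralizer ({c * g * c⁻¹} : Set G) :=
    { toFun := fun z => ⟨c * z.1 * c⁻¹, by
        have hz := z.2
        rw [Subgroup.mem_centralizer_singleton_iff] at hz ⊢
        calc c * z.1 * c⁻¹ * (c * g * c⁻¹) = c * (z.1 * g) * c⁻¹ := by group
          _ = c * (g * z.1) * c⁻¹ := by rw [hz]
          _ = c * g * c⁻¹ * (c * z.1 * c⁻¹) := by group⟩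
      invFun := fun z => ⟨c⁻¹ * z.1 * c, by
        have hz := z.2
        rw [Subgroup.mem_centralizer_singleton_iff] at hz ⊢
        have : c⁻¹ * (z.1 * (c * g * c⁻¹)) * c = c⁻¹ * ((c * g * c⁻¹) * z.1) * c := by rw [hz]
        calc c⁻¹ * z.1 * c * g = c⁻¹ * (z.1 * (c * g * c⁻¹)) * c := by group
          _ = c⁻¹ * ((c * g * c⁻¹) * z.1) * c := this
          _ = g * (c⁻¹ * z.1 * c) := by group⟩
      left_inv := fun z => by apply Subtype.ext; simp [mul_assoc]
      right_inv := fun z => by apply Subtype.ext; simp [mul_assoc] }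
  exact Nat.card_congr e

/-- Second orthogonality relation, conjugate case. -/
theorem column_orthogonality_of_isConj [Fintype G] [Fintype (Cfsg.IrrCharacter G)] {g h : G}
    (hgh : IsConj g h) :
    ∑ χ : Cfsg.IrrCharacter G, (χ : G → ℂ) g * conj ((χ : G → ℂ) h) =
      (Nat.card (Subgroup.centralizer ({g} : Set G)) : ℂ) := by
  have h1 := column_orthogonality_aux g h
  rw [classIndicator_apply_of_isConj hgh.symm, mul_one,
    ← card_centralizer_mul_index_cast h] at h1
  rw [card_centralizer_eq_of_isConj hgh]
  exact mul_right_cancel₀ (index_centralizer_cast_ne_zero h) h1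

/-- Second orthogonality relation, non-conjugate case. -/
theorem column_orthogonality_of_not_isConj [Fintype G] [Fintype (Cfsg.IrrCharacter G)] {g h : G}
    (hgh : ¬ IsConj g h) :
    ∑ χ : Cfsg.IrrCharacter G, (χ : G → ℂ) g * conj ((χ : G → ℂ) h) = 0 := by
  have h1 := column_orthogonality_aux g h
  rw [classIndicator_apply_of_not_isConj (fun H => hgh H.symm), mul_zero] at h1
  exact (mul_eq_zero.mp h1).resolve_right (index_centralizer_cast_ne_zero h)

theorem finsum_column_orthogonality_of_isConj [Finite G] {g h : G} (hgh : IsConj g h) :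
    ∑ᶠ χ : Cfsg.IrrCharacter G, (χ : G → ℂ) g * conj ((χ : G → ℂ) h) =
      (Nat.card (Subgroup.centralizer ({g} : Set G)) : ℂ) := by
  have := Fintype.ofFinite G
  have : Fintype (Cfsg.IrrCharacter G) := Fintype.ofFinite _
  rw [finsum_eq_sum_of_fintype]
  exact column_orthogonality_of_isConj hgh

theorem finsum_column_orthogonality_of_not_isConj [Finite G] {g h : G} (hgh : ¬ IsConj g h) :
    ∑ᶠ χ : Cfsg.IrrCharacter G, (χ : G → ℂ) g * conj ((χ : G → ℂ) h) = 0 := by
  have := Fintype.ofFinite G
  have : Fintype (Cfsg.IrrCharacter G) := Fintype.ofFinite _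
  rw [finsum_eq_sum_of_fintype]
  exact column_orthogonality_of_not_isConj hgh

/-- Irreducible characters separate conjugacy classes. -/
theorem isConj_of_forall_irr_eq [Finite G] {g h : G}
    (hall : ∀ χ : Cfsg.IrrCharacter G, (χ : G → ℂ) g = (χ : G → ℂ) h) : IsConj g h := by
  by_contra hgh
  have := Fintype.ofFinite G
  have : Fintype (Cfsg.IrrCharacter G) := Fintype.ofFinite _
  have h0 := column_orthogonality_of_not_isConj hgh
  have h1 := column_orthogonality_of_isConj (IsConj.refl h)
  have : ∑ χ : Cfsg.IrrCharacter G, (χ : G → ℂ) g * conj ((χ : G → ℂ) h) =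
      ∑ χ : Cfsg.IrrCharacter G, (χ : G → ℂ) h * conj ((χ : G → ℂ) h) :=
    Finset.sum_congr rfl (fun χ _ => by rw [hall χ])
  rw [this, h1] at h0
  have hpos : 0 < Nat.card (Subgroup.centralizer ({h} : Set G)) := Nat.card_pos
  exact hpos.ne' (by exact_mod_cast h0)

theorem isConj_iff_forall_irr_eq [Finite G] {g h : G} :
    IsConj g h ↔ ∀ χ : Cfsg.IrrCharacter G, (χ : G → ℂ) g = (χ : G → ℂ) h :=
  ⟨fun hgh χ => irr_apply_of_isConj χ hgh, isConj_of_forall_irr_eq⟩

end Cfsg.Agent.Lib.Helper79
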