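import Cfsg.Agent.Lib.Helper79.Integrality
import Cfsg.Agent.Lib.Helper79.Column

/-!
# Counting products of conjugates via characters (helper79)

* `irr_sum_sum_conj_mul_conj_mul`: for `χ` irreducible,
  `∑_{a,b} χ(a x a⁻¹ · b y b⁻¹ · w) = |G|² χ(x) χ(y) χ(w) / χ(1)²`.
* `delta_eq_sum_irr`: `∑ χ, χ(1) χ(g) = if g = 1 then |G| else 0`.
* `card_conj_pairs`: `#{(a,b) | a x a⁻¹ · b y b⁻¹ = u} = |G| ∑ χ, χ(x) χ(y) χ(u⁻¹) / χ(1)`.
* `sum_subgroup_irr`: `∑_{u ∈ P} χ(u) = |P| · m` with `m : ℕ`.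
* `sum_card_conj_pairs_subgroup`: summing `card_conj_pairs` over a subgroup `P`.
* `padic_bound_of_sum`: the `p`-adic lemma used to find characters of large `p`-part.
-/

open scoped ComplexConjugate

namespace Cfsg.Agent.Lib.Helper79

open Representation

variable {G : Type*} [Group G]

/-- `∑_{a,b} χ(a x a⁻¹ · b y b⁻¹ · w) = |G|² χ(x) χ(y) χ(w) / χ(1)²`. -/
theorem sum_sum_char_conj_mul_conj_mul [Fintype G] {V : Type*} [AddCommGroup V] [Module ℂ V]
    (ρ : Representation ℂ G V) [FiniteDimensional ℂ V] [ρ.IsIrreducible] (x y w : G) :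
    ∑ a : G, ∑ b : G, ρ.character (a * x * a⁻¹ * (b * y * b⁻¹) * w) =
      (Fintype.card G : ℂ) ^ 2 * ρ.character x * ρ.character y * ρ.character w /
        (Module.finrank ℂ V : ℂ) ^ 2 := by
  have hn : (Module.finrank ℂ V : ℂ) ≠ 0 := by
    exact_mod_cast finrank_ne_zero_of_irreducible ρ
  have h1 : LinearMap.trace ℂ V (classSumOp ρ x * classSumOp ρ y * ρ w) =
      ∑ a : G, ∑ b : G, ρ.character (a * x * a⁻¹ * (b * y * b⁻¹) * w) := by
    unfold classSumOp Representation.character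
    rw [Finset.sum_mul, Finset.sum_mul, map_sum]
    apply Finset.sum_congr rfl
    intro a _
    rw [Finset.mul_sum, Finset.sum_mul, map_sum]
    apply Finset.sum_congr rfl
    intro b _
    rw [← map_mul, ← map_mul]
  have hid : (LinearMap.id : V →ₗ[ℂ] V) * LinearMap.id * ρ w = ρ w := by
    rw [Module.End.mul_eq_comp, Module.End.mul_eq_comp, LinearMap.comp_id, LinearMap.id_comp]
  rw [← h1, classSumOp_eq_smul, classSumOp_eq_smul, smul_mul_smul_comm, smul_mul_assoc, map_smul,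
    hid, smul_eq_mul]
  unfold Representation.character
  field_simp

theorem irr_sum_sum_conj_mul_conj_mul [Fintype G] (χ : Cfsg.IrrCharacter G) (x y w : G) :
    ∑ a : G, ∑ b : G, (χ : G → ℂ) (a * x * a⁻¹ * (b * y * b⁻¹) * w) =
      (Nat.card G : ℂ) ^ 2 * (χ : G → ℂ) x * (χ : G → ℂ) y * (χ : G → ℂ) w /
        ((χ : G → ℂ) 1) ^ 2 := by
  obtain ⟨n, ρ, hirr, hχ⟩ := χ.2
  have h := sum_sum_char_conj_mul_conj_mul ρ x y w
  rw [← hχ, Representation.char_one, Nat.card_eq_fintype_card]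
  exact h

/-- The regular character: `∑ χ, χ(1) χ(g)` is `|G|` at `g = 1` and `0` elsewhere. -/
theorem delta_eq_sum_irr [Fintype G] [Fintype (Cfsg.IrrCharacter G)] [DecidableEq G] (g : G) :
    ∑ χ : Cfsg.IrrCharacter G, (χ : G → ℂ) 1 * (χ : G → ℂ) g =
      if g = 1 then (Nat.card G : ℂ) else 0 := by
  have hreal : ∀ χ : Cfsg.IrrCharacter G, conj ((χ : G → ℂ) 1) = (χ : G → ℂ) 1 := by
    intro χ
    obtain ⟨n, _, h⟩ := irr_apply_one_eq_natCast χ
    rw [h]; simp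
  have hsum : ∑ χ : Cfsg.IrrCharacter G, (χ : G → ℂ) 1 * (χ : G → ℂ) g =
      ∑ χ : Cfsg.IrrCharacter G, (χ : G → ℂ) g * conj ((χ : G → ℂ) 1) :=
    Finset.sum_congr rfl (fun χ _ => by rw [hreal χ, mul_comm])
  rw [hsum]
  by_cases hg : g = 1
  · rw [if_pos hg, column_orthogonality_of_isConj (by rw [hg])]
    have : Subgroup.centralizer ({g} : Set G) = ⊤ := by
      rw [hg]; ext z; simp [Subgroup.mem_centralizer_iff]
    rw [this, Subgroup.card_top]
  · rw [if_neg hg, column_orthogonality_of_not_isConj]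
    intro hc
    exact hg (isConj_one_left.mp hc)

/-- The number of pairs `(a, b)` with `a x a⁻¹ · b y b⁻¹ = u`, via characters. -/
theorem card_conj_pairs [Fintype G] [Fintype (Cfsg.IrrCharacter G)] [DecidableEq G] (x y u : G) :
    ((Finset.univ.filter (fun ab : G × G => ab.1 * x * ab.1⁻¹ * (ab.2 * y * ab.2⁻¹) = u)).card : ℂ)
      = (Nat.card G : ℂ) * ∑ χ : Cfsg.IrrCharacter G,
          (χ : G → ℂ) x * (χ : G → ℂ) y * (χ : G → ℂ) u⁻¹ / (χ : G → ℂ) 1 := by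
  have hG : (Nat.card G : ℂ) ≠ 0 := by exact_mod_cast Nat.card_pos.ne'
  -- indicator as a character sum
  have hind : ∀ ab : G × G,
      (if ab.1 * x * ab.1⁻¹ * (ab.2 * y * ab.2⁻¹) = u then (1 : ℂ) else 0) =
        (Nat.card G : ℂ)⁻¹ * ∑ χ : Cfsg.IrrCharacter G, (χ : G → ℂ) 1 *
          (χ : G → ℂ) (ab.1 * x * ab.1⁻¹ * (ab.2 * y * ab.2⁻¹) * u⁻¹) := by
    intro ab
    rw [delta_eq_sum_irr]
    by_cases h : ab.1 * x * ab.1⁻¹ * (ab.2 * y * ab.2⁻¹) = u
    · rw [if_pos h, if_pos (by rw [h, mul_inv_cancel]), inv_mul_cancel₀ hG]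
    · rw [if_neg h, if_neg (fun h' => h (mul_inv_eq_one.mp h')), mul_zero]
  rw [Finset.card_filter, Nat.cast_sum]
  simp only [Nat.cast_ite, Nat.cast_one, Nat.cast_zero]
  rw [Finset.sum_congr rfl (fun ab _ => hind ab), ← Finset.mul_sum, Finset.sum_comm]
  have hinner : ∀ χ : Cfsg.IrrCharacter G,
      ∑ ab : G × G, (χ : G → ℂ) 1 *
          (χ : G → ℂ) (ab.1 * x * ab.1⁻¹ * (ab.2 * y * ab.2⁻¹) * u⁻¹) =
        (Nat.card G : ℂ) ^ 2 * ((χ : G → ℂ) x * (χ : G → ℂ) y * (χ : G → ℂ) u⁻¹ /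
          (χ : G → ℂ) 1) := by
    intro χ
    have hχ1 : (χ : G → ℂ) 1 ≠ 0 := irr_apply_one_ne_zero χ
    rw [← Finset.mul_sum, Fintype.sum_prod_type, irr_sum_sum_conj_mul_conj_mul]
    field_simp
  rw [Finset.sum_congr rfl (fun χ _ => hinner χ), ← Finset.mul_sum]
  field_simp

/-- `∑_{u ∈ P} χ(u) = |P| · m` with `m` a natural number (the multiplicity of the trivial
character of `P` in the restriction of `χ`). -/
theorem sum_subgroup_char [Finite G] {V : Type*} [AddCommGroup V] [Module ℂ V]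
    (ρ : Representation ℂ G V) [FiniteDimensional ℂ V] (P : Subgroup G) [Fintype P] :
    ∃ m : ℕ, ∑ u : P, ρ.character (u : G) = (Nat.card P : ℂ) * m := by
  have hP : (Nat.card P : ℂ) ≠ 0 := by exact_mod_cast Nat.card_pos.ne'
  have : Invertible (Nat.card P : ℂ) := invertibleOfNonzero hP
  let σ : Representation ℂ P V := ρ.comp P.subtype
  have h := Representation.card_inv_mul_sum_char_eq_finrank σ
  refine ⟨Module.finrank ℂ (Representation.invariants σ), ?_⟩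
  rw [← h, ← mul_assoc, mul_inv_cancel₀ hP, one_mul]
  rfl

theorem sum_subgroup_irr [Finite G] (χ : Cfsg.IrrCharacter G) (P : Subgroup G) [Fintype P] :
    ∃ m : ℕ, ∑ u : P, (χ : G → ℂ) (u : G) = (Nat.card P : ℂ) * m := by
  obtain ⟨n, ρ, _, hχ⟩ := χ.2
  rw [← hχ]
  exact sum_subgroup_char ρ P

theorem sum_subgroup_irr_inv [Finite G] (χ : Cfsg.IrrCharacter G) (P : Subgroup G) [Fintype P] :
    ∃ m : ℕ, ∑ u : P, (χ : G → ℂ) ((u : G)⁻¹) = (Nat.card P : ℂ) * m := by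
  obtain ⟨m, hm⟩ := sum_subgroup_irr χ P
  refine ⟨m, ?_⟩
  rw [← hm]
  exact Fintype.sum_equiv (Equiv.inv P) _ _ (fun u => by simp)


/-- Summing `card_conj_pairs` over a subgroup `P`:
`∑_{u ∈ P} #{(a,b) | a x a⁻¹ · b y b⁻¹ = u} = |G| |P| ∑ χ, m_χ χ(x) χ(y) / χ(1)` with
`m_χ : ℕ` (the multiplicity of `1_P` in `χ|_P`). -/
theorem sum_card_conj_pairs_subgroup [Fintype G] [Fintype (Cfsg.IrrCharacter G)] [DecidableEq G]
    (x y : G) (P : Subgroup G) [Fintype P] :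
    ∃ m : Cfsg.IrrCharacter G → ℕ,
      (∑ u : P, ((Finset.univ.filter
          (fun ab : G × G => ab.1 * x * ab.1⁻¹ * (ab.2 * y * ab.2⁻¹) = (u : G))).card : ℂ)) =
        (Nat.card G : ℂ) * (Nat.card P : ℂ) * ∑ χ : Cfsg.IrrCharacter G,
          (m χ : ℂ) * ((χ : G → ℂ) x * (χ : G → ℂ) y) / (χ : G → ℂ) 1 := by
  choose m hm using fun χ : Cfsg.IrrCharacter G => sum_subgroup_irr_inv χ P
  refine ⟨m, ?_⟩
  simp only [card_conj_pairs]
  rw [← Finset.mul_sum, Finset.sum_comm, mul_assoc]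
  congr 1
  rw [Finset.mul_sum]
  apply Finset.sum_congr rfl
  intro χ _
  have : ∀ u : P, (χ : G → ℂ) x * (χ : G → ℂ) y * (χ : G → ℂ) ((u : G)⁻¹) / (χ : G → ℂ) 1 =
      ((χ : G → ℂ) x * (χ : G → ℂ) y / (χ : G → ℂ) 1) * (χ : G → ℂ) ((u : G)⁻¹) := by
    intro u; ring
  rw [Finset.sum_congr rfl (fun u _ => this u), ← Finset.mul_sum, hm χ]
  ring

/-- The `p`-adic lemma: if `N = p^c * ∑ α_i / d_i` with `α_i` algebraic integers and
`p^(k+1) ∤ d_i` for all `i`, then `c ≤ ν_p(N) + k`. -/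
theorem padic_bound_of_sum {ι : Type*} (s : Finset ι) (p : ℕ) (hp : p.Prime) (d : ι → ℕ)
    (hd : ∀ i ∈ s, d i ≠ 0) (α : ι → ℂ) (hα : ∀ i ∈ s, IsIntegral ℤ (α i)) (N c k : ℕ)
    (hN : N ≠ 0) (hk : ∀ i ∈ s, ¬ p ^ (k + 1) ∣ d i)
    (h : (N : ℂ) = (p : ℂ) ^ c * ∑ i ∈ s, α i / (d i : ℂ)) :
    c ≤ N.factorization p + k := by
  classical
  -- p'-parts
  set u : ι → ℕ := fun i => ordCompl[p] (d i) with hu
  set v : ι → ℕ := fun i => (d i).factorization p with hv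
  have hdi : ∀ i, d i = p ^ v i * u i := fun i => (Nat.ordProj_mul_ordCompl_eq_self (d i) p).symm
  have hvk : ∀ i ∈ s, v i ≤ k := by
    intro i hi
    by_contra hlt
    rw [not_le] at hlt
    apply hk i hi
    exact (pow_dvd_pow p hlt).trans (Nat.ordProj_dvd (d i) p)
  have hu0 : ∀ i ∈ s, u i ≠ 0 := by
    intro i hi h0
    have := hdi i
    rw [h0, mul_zero] at this
    exact hd i hi this
  have hup : ∀ i ∈ s, ¬ p ∣ u i := fun i hi => Nat.not_dvd_ordCompl hp (hd i hi)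
  set U : ℕ := ∏ i ∈ s, u i with hU
  have hU0 : U ≠ 0 := Finset.prod_ne_zero_iff.mpr hu0
  have hUp : ¬ p ∣ U := by
    rw [hU, Prime.dvd_finsetProd_iff hp.prime]
    rintro ⟨i, hi, hdvd⟩
    exact hup i hi hdvd
  -- e_i * d_i = U * p^k
  set e : ι → ℕ := fun i => (∏ j ∈ s.erase i, u j) * p ^ (k - v i) with he
  have hed : ∀ i ∈ s, e i * d i = U * p ^ k := by
    intro i hi
    have h1 : U = u i * ∏ j ∈ s.erase i, u j := (Finset.mul_prod_erase s u hi).symm
    have h2 : p ^ k = p ^ (k - v i) * p ^ v i := by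
      rw [← pow_add, Nat.sub_add_cancel (hvk i hi)]
    rw [he]
    simp only
    rw [h1, h2]
    conv_lhs => rw [hdi i]
    ring
  -- the integral element
  have hint : IsIntegral ℤ (∑ i ∈ s, α i * (e i : ℂ)) := by
    apply IsIntegral.sum
    intro i hi
    exact (hα i hi).mul (by simpa using (isIntegral_algebraMap (R := ℤ) (A := ℂ) (x := (e i : ℤ))))
  have hsum : (N : ℂ) * (U * p ^ k : ℕ) = (p : ℂ) ^ c * ∑ i ∈ s, α i * (e i : ℂ) := by
    rw [h, mul_assoc, Finset.sum_mul]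
    congr 1
    apply Finset.sum_congr rfl
    intro i hi
    have hdi0 : (d i : ℂ) ≠ 0 := by exact_mod_cast hd i hi
    rw [← hed i hi]
    push_cast
    field_simp
  have hpc : ((p ^ c : ℕ) : ℂ) ≠ 0 := by exact_mod_cast (pow_pos hp.pos c).ne'
  have hdiv : p ^ c ∣ N * (U * p ^ k) := by
    apply dvd_of_isIntegral_div (pow_pos hp.pos c).ne'
    have : ((N * (U * p ^ k) : ℕ) : ℂ) / ((p ^ c : ℕ) : ℂ) = ∑ i ∈ s, α i * (e i : ℂ) := by
      rw [div_eq_iff hpc, mul_comm _ ((p ^ c : ℕ) : ℂ)]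
      push_cast
      push_cast at hsum
      exact hsum
    rw [this]
    exact hint
  have hne : N * (U * p ^ k) ≠ 0 := by
    apply mul_ne_zero hN (mul_ne_zero hU0 (pow_pos hp.pos k).ne')
  have hle := (hp.pow_dvd_iff_le_factorization hne).mp hdiv
  rw [Nat.factorization_mul hN (mul_ne_zero hU0 (pow_pos hp.pos k).ne'),
    Nat.factorization_mul hU0 (pow_pos hp.pos k).ne', hp.factorization_pow] at hle
  simp only [Finsupp.coe_add, Pi.add_apply, Finsupp.single_eq_same] at hle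
  have hU' : U.factorization p = 0 := Nat.factorization_eq_zero_of_not_dvd hUp
  omega

end Cfsg.Agent.Lib.Helper79
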