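/-
The class function `χ̃ = p^a χ` on `p`-regular elements (helper79): symmetry of `[χ̃, ξ]`,
and the congruence of `[χ̃, ξ] / ξ(1)` modulo `M` across a block (Navarro 3.24).
-/
import Mathlib
import Cfsg.Prelude.Def_Blocks
import Cfsg.Agent.Lib.Helper16.LocalRing
import Cfsg.Agent.Lib.Helper16.BlockBasic
import Cfsg.Agent.Lib.Helper78.BlockSums
import Cfsg.Agent.Lib.Helper78.CharValues
import Cfsg.Agent.Lib.Helper79.Schur
import Cfsg.Agent.Lib.Helper79.Integrality
import Cfsg.Agent.Lib.Helper80.CharBasic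

set_option autoImplicit false

namespace Cfsg.Agent.Lib.Helper79

open Cfsg Cfsg.Agent.Lib.Helper16 Cfsg.Agent.Lib.Helper78
open scoped ComplexConjugate

universe u

variable {G : Type u} [Group G] [Fintype G]

/-- `χ̃`: `p^a χ` on `p`-regular elements, zero elsewhere -/
noncomputable def tld (p : ℕ) (χ : G → ℂ) : G → ℂ :=
  fun x => if p ∣ orderOf x then (0 : ℂ) else ((p ^ (Nat.card G).factorization p : ℕ) : ℂ) * χ x

omit [Fintype G] in
theorem tld_def (p : ℕ) (χ : G → ℂ) :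
    tld p χ = fun x => if p ∣ orderOf x then (0 : ℂ) else
      ((p ^ (Nat.card G).factorization p : ℕ) : ℂ) * χ x := rfl

/-- symmetry of `[χ̃, ξ]` -/
theorem classInner_tld_symm (p : ℕ) (χ ξ : G → ℂ) :
    classInner (tld p χ) ξ = conj (classInner (tld p ξ) χ) := by
  unfold classInner
  rw [map_mul, map_inv₀, Complex.conj_natCast, map_sum]
  congr 1
  apply Finset.sum_congr rfl
  intro x _
  unfold tld
  split_ifs
  · simp
  · rw [map_mul, map_mul, Complex.conj_conj, Complex.conj_natCast]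
    ring

omit [Fintype G] in
theorem centralizer_singleton_inv (x : G) :
    Subgroup.centralizer ({x⁻¹} : Set G) = Subgroup.centralizer ({x} : Set G) := by
  ext y
  simp only [Subgroup.mem_centralizer_iff, Set.mem_singleton_iff, forall_eq]
  constructor
  · intro h
    have : x * (x⁻¹ * y) * x = x * (y * x⁻¹) * x := by rw [h]
    simpa [mul_assoc] using this.symm
  · intro h
    have : x⁻¹ * (x * y) * x⁻¹ = x⁻¹ * (y * x) * x⁻¹ := by rw [h]
    simpa [mul_assoc] using this.symm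

/-- `idx(x) · conj ξ(x) / ξ(1) = ω_ξ(x⁻¹)` -/
theorem index_mul_conj_div_eq_centralChar_inv (ξ : IrrCharacter G) (x : G) :
    ((Subgroup.centralizer ({x} : Set G)).index : ℂ) * conj ((ξ : G → ℂ) x) / (ξ : G → ℂ) 1 =
      centralChar (ξ : G → ℂ) x⁻¹ := by
  unfold centralChar
  rw [centralizer_singleton_inv, IsCharacter.inv (IsIrrCharacter.isCharacter ξ.2)]

open Classical in
/-- `[χ̃, ξ] / ξ(1)` as a sum over classes of `χ°(x) ω_ξ(x⁻¹)` -/
theorem classInner_tld_div (p : ℕ) (χ ξ : IrrCharacter G) :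
    classInner (tld p (χ : G → ℂ)) (ξ : G → ℂ) / (ξ : G → ℂ) 1 =
      ((p ^ (Nat.card G).factorization p : ℕ) : ℂ) * (Nat.card G : ℂ)⁻¹ *
        ∑ c : ConjClasses G, (if p ∣ orderOf (Quotient.out c) then (0 : ℂ) else
          (χ : G → ℂ) (Quotient.out c) * centralChar (ξ : G → ℂ) (Quotient.out c)⁻¹) := by
  classical
  have hcl : IsClassFunction G (fun x => tld p (χ : G → ℂ) x * conj ((ξ : G → ℂ) x)) := by
    intro g h
    have ho : orderOf (h * g * h⁻¹) = orderOf g := by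
      have := orderOf_injective (MulAut.conj h).toMonoidHom (MulAut.conj h).injective g
      simpa [MulAut.conj_apply] using this
    unfold tld
    simp only [ho, isClassFunction_irr χ g h, isClassFunction_irr ξ g h]
  unfold classInner
  rw [sum_eq_sum_conjClasses hcl, mul_div_assoc, Finset.sum_div, mul_assoc, Finset.mul_sum,
    Finset.mul_sum, Finset.mul_sum]
  apply Finset.sum_congr rfl
  intro c _
  unfold tld
  split_ifs with hc
  · simp
  · rw [← index_mul_conj_div_eq_centralChar_inv ξ (Quotient.out c)]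
    ring

/-- **Congruence across a block**: `[χ̃, ξ] / ξ(1) ≡ [χ̃, ξ'] / ξ'(1)` modulo `M` for `ξ, ξ'` in
the same block. -/
theorem classInner_tld_div_congr {p : ℕ} [Fact p.Prime] {M : Ideal AlgInt} (hM : IsPModular p M)
    (χ ξ ξ' : IrrCharacter G) (hsame : SameBlock M (ξ : G → ℂ) (ξ' : G → ℂ)) :
    MemLocalIdeal M (classInner (tld p (χ : G → ℂ)) (ξ : G → ℂ) / (ξ : G → ℂ) 1 -
      classInner (tld p (χ : G → ℂ)) (ξ' : G → ℂ) / (ξ' : G → ℂ) 1) := by
  classical
  have hMp : M.IsPrime := isPModular_isPrime hM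
  have hMtop : M ≠ ⊤ := hMp.ne_top
  have hp : p.Prime := Fact.out
  rw [classInner_tld_div, classInner_tld_div, ← mul_sub, ← Finset.sum_sub_distrib]
  apply memLocalIdeal_mul_left
  · -- `p^a / |G|` is a local unit
    have hcard : Nat.card G = p ^ (Nat.card G).factorization p * (Nat.card G / p ^ (Nat.card G).factorization p) :=
      (Nat.ordProj_mul_ordCompl_eq_self (Nat.card G) p).symm
    have hnd : ¬ p ∣ Nat.card G / p ^ (Nat.card G).factorization p :=
      Nat.not_dvd_ordCompl hp Nat.card_pos.ne'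
    have h1 := memLocalRing_inv_natCast hM hnd
    have hpa : ((p ^ (Nat.card G).factorization p : ℕ) : ℂ) ≠ 0 := by
      have : p ^ (Nat.card G).factorization p ≠ 0 := pow_ne_zero _ hp.ne_zero
      exact_mod_cast this
    have hG : (Nat.card G : ℂ) = ((p ^ (Nat.card G).factorization p : ℕ) : ℂ) *
        ((Nat.card G / p ^ (Nat.card G).factorization p : ℕ) : ℂ) := by
      exact_mod_cast hcard
    have h2 : ((p ^ (Nat.card G).factorization p : ℕ) : ℂ) * (Nat.card G : ℂ)⁻¹ =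
        ((Nat.card G / p ^ (Nat.card G).factorization p : ℕ) : ℂ)⁻¹ := by
      rw [hG, mul_inv, ← mul_assoc, mul_inv_cancel₀ hpa, one_mul]
    rw [h2]
    exact h1
  · apply memLocalIdeal_sum
    intro c _
    split_ifs with hc
    · rw [sub_zero]; exact memLocalIdeal_zero hMtop
    · rw [← mul_sub]
      apply memLocalIdeal_mul_left
      · exact memLocalRing_of_isIntegral hMtop (isIntegral_irr χ _)
      · exact hsame _

/-- arithmetic form of "exact valuation" -/
theorem ne_zero_and_padicValInt_eq_iff (p : ℕ) [Fact p.Prime] (b : ℕ) (n : ℤ)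
    (hdvd : ((p : ℤ) ^ b) ∣ n) :
    (n ≠ 0 ∧ padicValInt p n = b) ↔ ¬ ((p : ℤ) ^ (b + 1)) ∣ n := by
  rw [padicValInt_dvd_iff] at hdvd ⊢
  constructor
  · rintro ⟨h0, hv⟩
    push Not
    exact ⟨h0, by omega⟩
  · intro h
    push Not at h
    refine ⟨h.1, ?_⟩
    rcases hdvd with h0 | h1
    · exact absurd h0 h.1
    · omega

omit [Fintype G] in
/-- `[χ̃, ξ]` has the exact valuation of `ξ(1)` iff `[χ̃, ξ] / ξ(1)` is a local unit -/
theorem memLocalIdeal_div_degree_iff [Finite G] {p : ℕ} [Fact p.Prime] {M : Ideal AlgInt}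
    (hM : IsPModular p M) (ξ : IrrCharacter G) (n : ℤ)
    (hdvd : ((p : ℤ) ^ (charDegree (ξ : G → ℂ)).factorization p) ∣ n) :
    MemLocalIdeal M ((n : ℂ) / (ξ : G → ℂ) 1) ↔
      ((p : ℤ) ^ ((charDegree (ξ : G → ℂ)).factorization p + 1)) ∣ n := by
  have hMp : M.IsPrime := isPModular_isPrime hM
  have hMtop : M ≠ ⊤ := hMp.ne_top
  have hp : p.Prime := Fact.out
  set d := charDegree (ξ : G → ℂ) with hd
  set b := d.factorization p with hb
  have hd0 : d ≠ 0 := (irr_charDegree_pos ξ).ne'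
  have hξ1 : (ξ : G → ℂ) 1 = (d : ℂ) := irr_apply_one_eq_charDegree ξ
  have hdec : p ^ b * (d / p ^ b) = d := Nat.ordProj_mul_ordCompl_eq_self d p
  have hnd : ¬ p ∣ d / p ^ b := Nat.not_dvd_ordCompl hp hd0
  obtain ⟨k, rfl⟩ := hdvd
  have hpb0 : ((p : ℂ) ^ b) ≠ 0 := pow_ne_zero _ (by exact_mod_cast hp.ne_zero)
  have hd'0 : ((d / p ^ b : ℕ) : ℂ) ≠ 0 := by
    have : d / p ^ b ≠ 0 := fun h => hnd (by rw [h]; exact dvd_zero p)
    exact_mod_cast this
  have hquot : (((p : ℤ) ^ b * k : ℤ) : ℂ) / (ξ : G → ℂ) 1 = (k : ℂ) * ((d / p ^ b : ℕ) : ℂ)⁻¹ := by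
    rw [hξ1]
    conv_lhs => rw [← hdec]
    push_cast
    field_simp
  rw [hquot]
  have hinv := memLocalRing_inv_natCast hM hnd
  have hpz : ((p : ℤ) ^ b) ≠ 0 := pow_ne_zero _ (by exact_mod_cast hp.ne_zero)
  rw [pow_succ, mul_dvd_mul_iff_left hpz, ← memLocalIdeal_intCast_iff hM]
  constructor
  · intro h
    have h1 := memLocalIdeal_mul_right h (memLocalRing_natCast hMtop (d / p ^ b))
    rwa [mul_assoc, inv_mul_cancel₀ hd'0, mul_one] at h1
  · intro h
    exact memLocalIdeal_mul_right h hinv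

/-- an integer combination of irreducible characters is a generalized character -/
theorem isGeneralizedCharacter_sum_int (c : IrrCharacter G → ℤ) :
    IsGeneralizedCharacter G (fun x => ∑ ψ : IrrCharacter G, (c ψ : ℂ) * (ψ : G → ℂ) x) := by
  classical
  refine ⟨∑ ψ : IrrCharacter G, (c ψ).toNat • (ψ : G → ℂ),
    ∑ ψ : IrrCharacter G, (-c ψ).toNat • (ψ : G → ℂ), ?_, ?_, ?_⟩
  · exact Cfsg.Agent.Lib.Helper80.isCharacter_sum _ _ fun ψ _ =>
      Cfsg.Agent.Lib.Helper80.isCharacter_nsmul _ (Cfsg.Agent.Lib.Helper80.isCharacter_of_isIrr ψ.2)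
  · exact Cfsg.Agent.Lib.Helper80.isCharacter_sum _ _ fun ψ _ =>
      Cfsg.Agent.Lib.Helper80.isCharacter_nsmul _ (Cfsg.Agent.Lib.Helper80.isCharacter_of_isIrr ψ.2)
  · funext x
    rw [Pi.sub_apply, Finset.sum_apply, Finset.sum_apply, ← Finset.sum_sub_distrib]
    apply Finset.sum_congr rfl
    intro ψ _
    rw [Pi.smul_apply, Pi.smul_apply, nsmul_eq_mul, nsmul_eq_mul, ← sub_mul]
    congr 1
    have h : (c ψ : ℤ) = ((c ψ).toNat : ℤ) - ((-c ψ).toNat : ℤ) := by omega
    have h2 : ((c ψ : ℤ) : ℂ) = ((((c ψ).toNat : ℤ) - ((-c ψ).toNat : ℤ) : ℤ) : ℂ) := by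
      rw [← h]
    rw [h2]
    push_cast
    ring

/-- inner product of an integer combination with an irreducible character -/
theorem classInner_sum_int (c : IrrCharacter G → ℤ) (ξ : IrrCharacter G) :
    classInner (fun x => ∑ ψ : IrrCharacter G, (c ψ : ℂ) * (ψ : G → ℂ) x) (ξ : G → ℂ) = c ξ := by
  classical
  have h : (fun x => ∑ ψ : IrrCharacter G, (c ψ : ℂ) * (ψ : G → ℂ) x) =
      ∑ ψ : IrrCharacter G, (c ψ : ℂ) • (ψ : G → ℂ) := by
    funext x
    rw [Finset.sum_apply]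
    rfl
  rw [h, classInner_sum_left]
  have h2 : ∀ ψ ∈ (Finset.univ : Finset (IrrCharacter G)),
      classInner ((c ψ : ℂ) • (ψ : G → ℂ)) (ξ : G → ℂ) = if ψ = ξ then (c ψ : ℂ) else 0 := by
    intro ψ _
    rw [classInner_smul_left, classInner_irr ψ.2 ξ.2]
    by_cases hψ : ψ = ξ
    · rw [if_pos hψ, if_pos (congrArg Subtype.val hψ), mul_one]
    · rw [if_neg hψ, if_neg (fun h => hψ (Subtype.ext h)), mul_zero]
  rw [Finset.sum_congr rfl h2, Finset.sum_ite_eq' Finset.univ ξ, if_pos (Finset.mem_univ ξ)]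

end Cfsg.Agent.Lib.Helper79
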