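/-
The contribution integers `m(χ, ψ) = [χ̃, ψ]` of a finite group at a prime `p` (helper79), and
the Brauer–Feit inequalities they give.  Here `χ̃ = |G|_p χ` on `p`-regular elements and zero
elsewhere (`tld p χ` of `HeightZero.lean`).
-/
import Mathlib
import Cfsg.Agent.S4426
import Cfsg.Agent.Lib.Helper26.IrrFacts

set_option autoImplicit false

namespace Cfsg.Agent.Lib.Helper79

open Cfsg Cfsg.Agent.Lib.Helper16 Cfsg.Agent.Lib.Helper78
open scoped ComplexConjugate

universe u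

variable {G : Type u} [Group G] [Fintype G]

/-- the contribution integer `[χ̃, ψ]` -/
noncomputable def contrib (p : ℕ) (χ ψ : IrrCharacter G) : ℤ :=
  ⌊(classInner (tld p (χ : G → ℂ)) (ψ : G → ℂ)).re⌋

section

variable {p : ℕ} [Fact p.Prime] {M : Ideal AlgInt}

/-- expansion of `χ̃` with integer coefficients -/
theorem exists_tld_expansion (hM : IsPModular p M) (χ : IrrCharacter G) :
    ∃ c : IrrCharacter G → ℤ, (∀ ψ, ψ ∉ blockOf M (χ : G → ℂ) → c ψ = 0) ∧
      tld p (χ : G → ℂ) = fun x => ∑ ψ : IrrCharacter G, (c ψ : ℂ) * (ψ : G → ℂ) x := by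
  classical
  have hMp : M.IsPrime := isPModular_isPrime hM
  have hMtop : M ≠ ⊤ := hMp.ne_top
  obtain ⟨c, hcB, hsum⟩ := Cfsg.Agent.S4424.result p M hM (blockOf M (χ : G → ℂ))
    (isPBlock_blockOf χ) χ (self_mem_blockOf hMtop χ)
  refine ⟨c, hcB, ?_⟩
  have htld : (fun x : G => if p ∣ orderOf x then (0 : ℂ) else
      ((p ^ (Nat.card G).factorization p : ℕ) : ℂ) * (χ : G → ℂ) x) = tld p (χ : G → ℂ) := rfl
  rw [htld] at hsum
  rw [hsum]
  funext x
  exact finsum_eq_sum_of_fintype _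

theorem contrib_spec (hM : IsPModular p M) (χ ψ : IrrCharacter G) :
    classInner (tld p (χ : G → ℂ)) (ψ : G → ℂ) = (contrib p χ ψ : ℂ) := by
  obtain ⟨c, -, hsum⟩ := exists_tld_expansion hM χ
  have h1 : classInner (tld p (χ : G → ℂ)) (ψ : G → ℂ) = (c ψ : ℂ) := by
    rw [hsum, classInner_sum_int]
  unfold contrib
  rw [h1]
  simp

theorem tld_eq_sum_contrib (hM : IsPModular p M) (χ : IrrCharacter G) :
    tld p (χ : G → ℂ) =
      fun x => ∑ ψ : IrrCharacter G, (contrib p χ ψ : ℂ) * (ψ : G → ℂ) x := by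
  obtain ⟨c, -, hsum⟩ := exists_tld_expansion hM χ
  have h1 : ∀ ψ, c ψ = contrib p χ ψ := by
    intro ψ
    have h2 : classInner (tld p (χ : G → ℂ)) (ψ : G → ℂ) = (c ψ : ℂ) := by
      rw [hsum, classInner_sum_int]
    rw [contrib_spec hM] at h2
    exact_mod_cast h2.symm
  rw [hsum]
  funext x
  apply Finset.sum_congr rfl
  intro ψ _
  rw [h1]

theorem contrib_eq_zero_of_not_mem (hM : IsPModular p M) {B : Set (IrrCharacter G)}
    (hB : IsPBlock M B) {χ ψ : IrrCharacter G} (hχ : χ ∈ B) (hψ : ψ ∉ B) :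
    contrib p χ ψ = 0 := by
  have hMp : M.IsPrime := isPModular_isPrime hM
  obtain ⟨c, hcB, hsum⟩ := exists_tld_expansion hM χ
  have h2 : classInner (tld p (χ : G → ℂ)) (ψ : G → ℂ) = (c ψ : ℂ) := by
    rw [hsum, classInner_sum_int]
  rw [contrib_spec hM] at h2
  have h3 : contrib p χ ψ = c ψ := by exact_mod_cast h2
  rw [h3]
  apply hcB
  rw [← IsPBlock_eq_blockOf hB hχ]
  exact hψ

theorem contrib_symm (hM : IsPModular p M) (χ ψ : IrrCharacter G) :
    contrib p χ ψ = contrib p ψ χ := by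
  have h := classInner_tld_symm p (χ : G → ℂ) (ψ : G → ℂ)
  rw [contrib_spec hM, contrib_spec hM, map_intCast] at h
  exact_mod_cast h

theorem pow_dvd_contrib_left (hM : IsPModular p M) (χ ψ : IrrCharacter G) :
    ((p : ℤ) ^ (charDegree (χ : G → ℂ)).factorization p) ∣ contrib p χ ψ := by
  have hp : p.Prime := Fact.out
  have h := Cfsg.Agent.Lib.Helper74.pow_factorization_dvd_classInner_pReg hp χ ψ
    (contrib p χ ψ) (contrib_spec hM χ ψ)
  simpa using h

theorem pow_dvd_contrib_right (hM : IsPModular p M) (χ ψ : IrrCharacter G) :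
    ((p : ℤ) ^ (charDegree (ψ : G → ℂ)).factorization p) ∣ contrib p χ ψ := by
  rw [contrib_symm hM]
  exact pow_dvd_contrib_left hM ψ χ

/-- Parseval: `Σ_ψ m(χ,ψ)² = p^a m(χ,χ)` -/
theorem sum_contrib_sq (hM : IsPModular p M) (χ : IrrCharacter G) :
    ∑ ψ : IrrCharacter G, (contrib p χ ψ) ^ 2 =
      (p : ℤ) ^ (Nat.card G).factorization p * contrib p χ χ := by
  classical
  have hp : p.Prime := Fact.out
  -- `[χ̃, χ̃]` two ways
  have h1 : classInner (tld p (χ : G → ℂ)) (tld p (χ : G → ℂ)) =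
      ((p ^ (Nat.card G).factorization p : ℕ) : ℂ) *
        classInner (tld p (χ : G → ℂ)) (χ : G → ℂ) := by
    unfold classInner
    have h : ∀ x : G, tld p (χ : G → ℂ) x * conj (tld p (χ : G → ℂ) x) =
        ((p ^ (Nat.card G).factorization p : ℕ) : ℂ) *
          (tld p (χ : G → ℂ) x * conj ((χ : G → ℂ) x)) := by
      intro x
      unfold tld
      split_ifs
      · simp
      · rw [map_mul, Complex.conj_natCast]
        ring
    rw [Finset.sum_congr rfl (fun x _ => h x), ← Finset.mul_sum]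
    ring
  have h2 : classInner (tld p (χ : G → ℂ)) (tld p (χ : G → ℂ)) =
      ∑ ψ : IrrCharacter G, ((contrib p χ ψ : ℤ) : ℂ) ^ 2 := by
    have hfun : (tld p (χ : G → ℂ)) =
        ∑ ψ : IrrCharacter G, (contrib p χ ψ : ℂ) • (ψ : G → ℂ) := by
      conv_lhs => rw [tld_eq_sum_contrib hM χ]
      funext x
      rw [Finset.sum_apply]
      rfl
    have hfun2 : classInner (tld p (χ : G → ℂ)) (tld p (χ : G → ℂ)) =
        classInner (∑ ψ : IrrCharacter G, (contrib p χ ψ : ℂ) • (ψ : G → ℂ))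
          (tld p (χ : G → ℂ)) := by
      rw [← hfun]
    rw [hfun2, classInner_sum_left]
    apply Finset.sum_congr rfl
    intro ψ _
    rw [classInner_smul_left]
    have h3 : classInner (ψ : G → ℂ) (tld p (χ : G → ℂ)) = (contrib p χ ψ : ℂ) := by
      rw [← classInner_conj_symm, contrib_spec hM, map_intCast]
    rw [h3]
    ring
  rw [h1, contrib_spec hM] at h2
  have h3 : (((p : ℤ) ^ (Nat.card G).factorization p * contrib p χ χ : ℤ) : ℂ) =
      ((∑ ψ : IrrCharacter G, (contrib p χ ψ) ^ 2 : ℤ) : ℂ) := by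
    push_cast
    push_cast at h2
    exact h2
  exact_mod_cast h3.symm

/-- `0 < m(χ,χ) ≤ p^a`, and equality on the right forces `χ` to vanish on `p`-singular
elements -/
theorem contrib_self_bounds (hM : IsPModular p M) (χ : IrrCharacter G) :
    0 < contrib p χ χ ∧ contrib p χ χ ≤ (p : ℤ) ^ (Nat.card G).factorization p ∧
      (contrib p χ χ = (p : ℤ) ^ (Nat.card G).factorization p →
        ∀ g : G, p ∣ orderOf g → (χ : G → ℂ) g = 0) := by
  classical
  have hp : p.Prime := Fact.out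
  set a := (Nat.card G).factorization p with ha
  set n : ℤ := contrib p χ χ with hn
  have hc : classInner (tld p (χ : G → ℂ)) (χ : G → ℂ) = (n : ℂ) := contrib_spec hM χ χ
  have hχpos : 0 < charDegree (χ : G → ℂ) := irr_charDegree_pos χ
  set R : ℝ := ∑ g : G, if p ∣ orderOf g then (0 : ℝ) else Complex.normSq ((χ : G → ℂ) g) with hR
  set T : ℝ := ∑ g : G, Complex.normSq ((χ : G → ℂ) g) with hT
  have hcardpos : (0 : ℝ) < (Nat.card G : ℝ) := by exact_mod_cast Nat.card_pos
  have hTeq : T = (Nat.card G : ℝ) := by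
    have h1 := classInner_irr_self χ.2
    unfold classInner at h1
    have h2 : (∑ g : G, (χ : G → ℂ) g * conj ((χ : G → ℂ) g)) = ((T : ℝ) : ℂ) := by
      rw [hT]
      push_cast
      apply Finset.sum_congr rfl
      intro g _
      rw [Complex.mul_conj]
    rw [h2] at h1
    have hne : (Nat.card G : ℂ) ≠ 0 := by exact_mod_cast Nat.card_pos.ne'
    have h3 : ((T : ℝ) : ℂ) = (Nat.card G : ℂ) := by
      field_simp at h1
      exact h1
    exact_mod_cast h3
  have hneq : (n : ℝ) * (Nat.card G : ℝ) = (p : ℝ) ^ a * R := by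
    have h1 := hc
    unfold classInner at h1
    have h2 : (∑ g : G, tld p (χ : G → ℂ) g * conj ((χ : G → ℂ) g)) =
        (((p : ℝ) ^ a * R : ℝ) : ℂ) := by
      rw [hR, Finset.mul_sum]
      push_cast
      apply Finset.sum_congr rfl
      intro g _
      unfold tld
      split_ifs
      · simp
      · rw [mul_assoc, Complex.mul_conj]
        push_cast
        rfl
    rw [h2] at h1
    have hne : (Nat.card G : ℂ) ≠ 0 := by exact_mod_cast Nat.card_pos.ne'
    have h3 : (((p : ℝ) ^ a * R : ℝ) : ℂ) = ((n : ℝ) : ℂ) * (Nat.card G : ℂ) := by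
      push_cast
      push_cast at h1
      field_simp at h1
      rw [h1, mul_comm]
    have h4 : (((p : ℝ) ^ a * R : ℝ) : ℂ) = (((n : ℝ) * (Nat.card G : ℝ) : ℝ) : ℂ) := by
      rw [h3]; push_cast; rfl
    exact_mod_cast h4.symm
  have hRle : R ≤ T := by
    rw [hR, hT]
    apply Finset.sum_le_sum
    intro g _
    split_ifs
    · exact Complex.normSq_nonneg _
    · exact le_refl _
  have hRpos : 0 < R := by
    rw [hR]
    have h1 : (0 : ℝ) < (if p ∣ orderOf (1 : G) then (0 : ℝ) else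
        Complex.normSq ((χ : G → ℂ) 1)) := by
      rw [if_neg (by rw [orderOf_one]; exact hp.one_lt.ne' ∘ Nat.dvd_one.mp)]
      rw [Complex.normSq_pos, irr_apply_one_eq_charDegree]
      exact_mod_cast hχpos.ne'
    refine lt_of_lt_of_le h1 ?_
    apply Finset.single_le_sum (f := fun g : G => if p ∣ orderOf g then (0 : ℝ) else
      Complex.normSq ((χ : G → ℂ) g)) _ (Finset.mem_univ (1 : G))
    intro g _
    show (0 : ℝ) ≤ if p ∣ orderOf g then (0 : ℝ) else Complex.normSq ((χ : G → ℂ) g)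
    split_ifs
    · exact le_refl _
    · exact Complex.normSq_nonneg _
  have hppos : (0 : ℝ) < (p : ℝ) ^ a := by
    have : (0 : ℝ) < (p : ℝ) := by exact_mod_cast hp.pos
    positivity
  refine ⟨?_, ?_, ?_⟩
  · have h1 : (0 : ℝ) < (n : ℝ) * (Nat.card G : ℝ) := by rw [hneq]; positivity
    have h2 : (0 : ℝ) < (n : ℝ) := by
      by_contra hcon
      push Not at hcon
      have : (n : ℝ) * (Nat.card G : ℝ) ≤ 0 := mul_nonpos_of_nonpos_of_nonneg hcon hcardpos.le
      linarith
    exact_mod_cast h2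
  · have h1 : (n : ℝ) * (Nat.card G : ℝ) ≤ (p : ℝ) ^ a * (Nat.card G : ℝ) := by
      rw [hneq, ← hTeq]
      exact mul_le_mul_of_nonneg_left hRle hppos.le
    have h2 : (n : ℝ) ≤ (p : ℝ) ^ a := le_of_mul_le_mul_right h1 hcardpos
    exact_mod_cast h2
  · intro hnp g hg
    have h1 : R = T := by
      have h2 : (p : ℝ) ^ a * R = (p : ℝ) ^ a * T := by
        rw [← hneq, hTeq, hnp]
        push_cast
        rfl
      exact mul_left_cancel₀ hppos.ne' h2
    by_contra hne
    have hlt : R < T := by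
      rw [hR, hT]
      apply Finset.sum_lt_sum
      · intro g _
        split_ifs
        · exact Complex.normSq_nonneg _
        · exact le_refl _
      · refine ⟨g, Finset.mem_univ g, ?_⟩
        rw [if_pos hg]
        exact Complex.normSq_pos.mpr hne
    linarith

theorem contrib_self_pos (hM : IsPModular p M) (χ : IrrCharacter G) : 0 < contrib p χ χ :=
  (contrib_self_bounds hM χ).1

theorem contrib_self_le (hM : IsPModular p M) (χ : IrrCharacter G) :
    contrib p χ χ ≤ (p : ℤ) ^ (Nat.card G).factorization p :=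
  (contrib_self_bounds hM χ).2.1

/-- if `ν(χ(1)) ≥ a - 1` then `m(χ,χ)` has exactly the valuation of `χ(1)` -/
theorem not_pow_succ_dvd_contrib_self (hM : IsPModular p M) (χ : IrrCharacter G)
    (h : (Nat.card G).factorization p ≤ (charDegree (χ : G → ℂ)).factorization p + 1) :
    ¬ ((p : ℤ) ^ ((charDegree (χ : G → ℂ)).factorization p + 1)) ∣ contrib p χ χ := by
  classical
  have hp : p.Prime := Fact.out
  set a := (Nat.card G).factorization p with ha
  set b := (charDegree (χ : G → ℂ)).factorization p with hb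
  set n : ℤ := contrib p χ χ with hn
  obtain ⟨hnpos, hnle, hvanish⟩ := contrib_self_bounds hM χ
  rw [← ha, ← hn] at hnle hvanish
  rw [← hn] at hnpos
  intro hdvd1
  have hle1 : (p : ℤ) ^ (b + 1) ≤ n := Int.le_of_dvd hnpos hdvd1
  have hle2 : (p : ℤ) ^ (b + 1) ≤ (p : ℤ) ^ a := le_trans hle1 hnle
  have hba1 : b + 1 ≤ a := by
    have h2 : p ^ (b + 1) ≤ p ^ a := by exact_mod_cast hle2
    exact (Nat.pow_le_pow_iff_right hp.one_lt).mp h2
  have hba2 : b + 1 = a := by omega
  rw [hba2] at hdvd1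
  have hnp : n = (p : ℤ) ^ a := by
    obtain ⟨k, hk⟩ := hdvd1
    have hpp : (0 : ℤ) < (p : ℤ) ^ a := by
      have : (0 : ℤ) < (p : ℤ) := by exact_mod_cast hp.pos
      positivity
    have hk1 : 0 < k := by
      by_contra hcon
      push Not at hcon
      have : (p : ℤ) ^ a * k ≤ 0 := mul_nonpos_of_nonneg_of_nonpos hpp.le hcon
      omega
    have hk2 : k ≤ 1 := by
      by_contra hcon
      push Not at hcon
      have : (p : ℤ) ^ a * 2 ≤ (p : ℤ) ^ a * k := by
        apply mul_le_mul_of_nonneg_left _ hpp.le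
        omega
      omega
    have hk3 : k = 1 := by omega
    rw [hk, hk3, mul_one]
  have hv := hvanish hnp
  apply (Cfsg.Agent.S4425.result p χ).2
  have hfun : (fun x : G => if p ∣ orderOf x then (0 : ℂ) else
      ((p ^ (Nat.card G).factorization p : ℕ) : ℂ) /
        ((p ^ ((Cfsg.charDegree (χ : G → ℂ)).factorization p + 1) : ℕ) : ℂ) *
        (χ : G → ℂ) x) = (χ : G → ℂ) := by
    funext x
    split_ifs with hx
    · exact (hv x hx).symm
    · rw [← hb, hba2, ← ha]
      have hpc : ((p ^ a : ℕ) : ℂ) ≠ 0 := by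
        exact_mod_cast (pow_pos hp.pos a).ne'
      rw [div_self hpc, one_mul]
  rw [hfun]
  exact Cfsg.Agent.Lib.Helper26.isGeneralizedCharacter_of_isCharacter
    (Cfsg.Agent.Lib.Helper80.isCharacter_of_isIrr χ.2)

/-- the height-zero criterion (Navarro 3.24) in terms of the contribution integers -/
theorem blockHeight_eq_zero_iff_contrib (hM : IsPModular p M) {B : Set (IrrCharacter G)}
    (hB : IsPBlock M B) {χ : IrrCharacter G} (hχ : χ ∈ B) :
    (blockHeight p B (χ : G → ℂ) = 0 ↔ ∃ ξ ∈ B,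
      ¬ ((p : ℤ) ^ ((charDegree (ξ : G → ℂ)).factorization p + 1)) ∣ contrib p χ ξ) ∧
    (blockHeight p B (χ : G → ℂ) = 0 ↔ ∀ ξ ∈ B,
      ¬ ((p : ℤ) ^ ((charDegree (ξ : G → ℂ)).factorization p + 1)) ∣ contrib p χ ξ) := by
  have hQ : ∀ ξ : IrrCharacter G,
      (∃ n : ℤ, classInner (fun x : G => if p ∣ orderOf x then (0 : ℂ) else
          ((p ^ (Nat.card G).factorization p : ℕ) : ℂ) * (χ : G → ℂ) x) (ξ : G → ℂ) = (n : ℂ) ∧
          n ≠ 0 ∧ padicValInt p n = (charDegree (ξ : G → ℂ)).factorization p) ↔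
      ¬ ((p : ℤ) ^ ((charDegree (ξ : G → ℂ)).factorization p + 1)) ∣ contrib p χ ξ := by
    intro ξ
    rw [← ne_zero_and_padicValInt_eq_iff p _ (contrib p χ ξ) (pow_dvd_contrib_right hM χ ξ)]
    have htld : (fun x : G => if p ∣ orderOf x then (0 : ℂ) else
      ((p ^ (Nat.card G).factorization p : ℕ) : ℂ) * (χ : G → ℂ) x) = tld p (χ : G → ℂ) := rfl
    rw [htld]
    constructor
    · rintro ⟨n, hn, hn0, hnv⟩
      rw [contrib_spec hM] at hn
      have : contrib p χ ξ = n := by exact_mod_cast hn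
      rw [this]
      exact ⟨hn0, hnv⟩
    · rintro ⟨h0, hv⟩
      exact ⟨contrib p χ ξ, contrib_spec hM χ ξ, h0, hv⟩
  obtain ⟨h1, h2⟩ := Cfsg.Agent.S4426.result p M hM B hB χ hχ
  constructor
  · rw [h1]
    constructor
    · rintro ⟨ξ, hξ, h⟩
      exact ⟨ξ, hξ, (hQ ξ).mp h⟩
    · rintro ⟨ξ, hξ, h⟩
      exact ⟨ξ, hξ, (hQ ξ).mpr h⟩
  · rw [h2]
    constructor
    · intro h ξ hξ
      exact (hQ ξ).mp (h ξ hξ)
    · intro h ξ hξ
      exact (hQ ξ).mpr (h ξ hξ)

/-- **The basic Brauer–Feit inequality.**  If `β` is irreducible with `e = ν(β(1))`, `T` is a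
finite set of irreducible characters not containing `β`, and `m(β,ψ)² ≥ p^{2e} g(ψ)` on `T`,
then `4 Σ_T g ≤ p^{2(a-e)}`. -/
theorem four_mul_sum_le_of_contrib (hM : IsPModular p M) (β : IrrCharacter G)
    (T : Finset (IrrCharacter G)) (hβT : β ∉ T) (g : IrrCharacter G → ℤ)
    (hg : ∀ ψ ∈ T, (p : ℤ) ^ (2 * (charDegree (β : G → ℂ)).factorization p) * g ψ ≤
      (contrib p β ψ) ^ 2) :
    4 * ∑ ψ ∈ T, g ψ ≤
      (p : ℤ) ^ (2 * ((Nat.card G).factorization p -
        (charDegree (β : G → ℂ)).factorization p)) := by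
  classical
  have hp : p.Prime := Fact.out
  set a := (Nat.card G).factorization p with ha
  set e := (charDegree (β : G → ℂ)).factorization p with he
  have hβpos : 0 < charDegree (β : G → ℂ) := irr_charDegree_pos β
  have hea : e ≤ a :=
    (Nat.factorization_le_iff_dvd hβpos.ne' Nat.card_pos.ne').mpr (irr_charDegree_dvd_card β) p
  obtain ⟨y, hy⟩ := pow_dvd_contrib_left hM β β
  rw [← he] at hy
  have hpp : (0 : ℤ) < (p : ℤ) := by exact_mod_cast hp.pos
  have hpe : (0 : ℤ) < (p : ℤ) ^ e := by positivity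
  have hsum := sum_contrib_sq hM β
  rw [← ha, hy] at hsum
  -- lower bound for the sum
  have h1 : ∑ ψ ∈ insert β T, (contrib p β ψ) ^ 2 ≤ ∑ ψ : IrrCharacter G, (contrib p β ψ) ^ 2 :=
    Finset.sum_le_sum_of_subset_of_nonneg (Finset.subset_univ _) (fun ψ _ _ => sq_nonneg _)
  rw [Finset.sum_insert hβT, hy] at h1
  have h2 : ∑ ψ ∈ T, (p : ℤ) ^ (2 * e) * g ψ ≤ ∑ ψ ∈ T, (contrib p β ψ) ^ 2 :=
    Finset.sum_le_sum hg
  rw [← Finset.mul_sum] at h2
  set S : ℤ := ∑ ψ ∈ T, g ψ with hS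
  set N : ℤ := (p : ℤ) ^ (a - e) with hN
  have hNe : (p : ℤ) ^ a = (p : ℤ) ^ e * N := by
    rw [hN, ← pow_add]
    congr 1
    omega
  have h3 : (p : ℤ) ^ (2 * e) * (S + y ^ 2) ≤ (p : ℤ) ^ (2 * e) * (N * y) := by
    have h4 : (p : ℤ) ^ (2 * e) = (p : ℤ) ^ e * (p : ℤ) ^ e := by rw [two_mul, pow_add]
    calc (p : ℤ) ^ (2 * e) * (S + y ^ 2)
        = (p : ℤ) ^ (2 * e) * S + ((p : ℤ) ^ e * y) ^ 2 := by rw [h4]; ring
      _ ≤ ∑ ψ ∈ T, (contrib p β ψ) ^ 2 + ((p : ℤ) ^ e * y) ^ 2 := by linarith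
      _ ≤ ∑ ψ : IrrCharacter G, (contrib p β ψ) ^ 2 := by linarith
      _ = (p : ℤ) ^ a * ((p : ℤ) ^ e * y) := hsum
      _ = (p : ℤ) ^ (2 * e) * (N * y) := by rw [hNe, h4]; ring
  have h5 : S + y ^ 2 ≤ N * y := le_of_mul_le_mul_left h3 (by positivity)
  have h6 : (p : ℤ) ^ (2 * (a - e)) = N ^ 2 := by
    rw [hN, ← pow_mul, mul_comm]
  rw [h6]
  nlinarith [sq_nonneg (N - 2 * y)]

end

section blocks

variable {p : ℕ} [Fact p.Prime] {M : Ideal AlgInt}

omit [Fintype G] [Fact p.Prime] in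
/-- a block has a character of minimal `p`-part of the degree -/
theorem exists_min_factorization {B : Set (IrrCharacter G)} (hne : B.Nonempty) :
    ∃ χ₀ ∈ B, (charDegree (χ₀ : G → ℂ)).factorization p =
      sInf ((fun ψ : IrrCharacter G => (charDegree (ψ : G → ℂ)).factorization p) '' B) := by
  obtain ⟨χ, hχ⟩ := hne
  have hSne : ((fun ψ : IrrCharacter G => (charDegree (ψ : G → ℂ)).factorization p) '' B).Nonempty :=
    ⟨_, ⟨χ, hχ, rfl⟩⟩
  obtain ⟨ψ₀, hψ₀B, hψ₀⟩ := Nat.sInf_mem hSne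
  exact ⟨ψ₀, hψ₀B, hψ₀⟩

omit [Fintype G] [Fact p.Prime] in
theorem factorization_eq_sInf_add_blockHeight {B : Set (IrrCharacter G)} {χ : IrrCharacter G}
    (hχ : χ ∈ B) :
    (charDegree (χ : G → ℂ)).factorization p =
      sInf ((fun ψ : IrrCharacter G => (charDegree (ψ : G → ℂ)).factorization p) '' B) +
        blockHeight p B (χ : G → ℂ) := by
  have h : sInf ((fun ψ : IrrCharacter G => (charDegree (ψ : G → ℂ)).factorization p) '' B) ≤
      (charDegree (χ : G → ℂ)).factorization p := Nat.sInf_le ⟨χ, hχ, rfl⟩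
  unfold blockHeight
  omega

omit [Fact p.Prime] in
theorem factorization_charDegree_le_card (χ : IrrCharacter G) :
    (charDegree (χ : G → ℂ)).factorization p ≤ (Nat.card G).factorization p := by
  have hχpos : 0 < charDegree (χ : G → ℂ) := irr_charDegree_pos χ
  exact (Nat.factorization_le_iff_dvd hχpos.ne' Nat.card_pos.ne').mpr
    (irr_charDegree_dvd_card χ) p

omit [Fact p.Prime] in
/-- `a = μ + d` -/
theorem card_factorization_eq_sInf_add_blockDefect {B : Set (IrrCharacter G)} (hne : B.Nonempty) :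
    (Nat.card G).factorization p =
      sInf ((fun ψ : IrrCharacter G => (charDegree (ψ : G → ℂ)).factorization p) '' B) +
        blockDefect p B := by
  obtain ⟨χ₀, hχ₀, h0⟩ := exists_min_factorization (p := p) hne
  have h1 := factorization_charDegree_le_card (p := p) χ₀
  unfold blockDefect
  omega

/-- a character of positive height `h` in a block of defect `d` has `h + 2 ≤ d` -/
theorem blockHeight_add_two_le (hM : IsPModular p M) {B : Set (IrrCharacter G)}
    (hB : IsPBlock M B) {χ : IrrCharacter G} (hχ : χ ∈ B)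
    (hne : blockHeight p B (χ : G → ℂ) ≠ 0) :
    blockHeight p B (χ : G → ℂ) + 2 ≤ blockDefect p B := by
  have h1 := (blockHeight_eq_zero_iff_contrib hM hB hχ).1
  have h2 : ((p : ℤ) ^ ((charDegree (χ : G → ℂ)).factorization p + 1)) ∣ contrib p χ χ := by
    by_contra hcon
    exact hne (h1.mpr ⟨χ, hχ, hcon⟩)
  have h3 : ¬ ((Nat.card G).factorization p ≤ (charDegree (χ : G → ℂ)).factorization p + 1) :=
    fun h => not_pow_succ_dvd_contrib_self hM χ h h2
  have h4 := factorization_eq_sInf_add_blockHeight (p := p) hχ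
  have h5 := card_factorization_eq_sInf_add_blockDefect (p := p) (G := G) ⟨χ, hχ⟩
  omega

omit [Fintype G] in
/-- lower bound for a nonzero contribution -/
theorem pow_le_contrib_sq_aux (n : ℤ) (e : ℕ)
    (hdvd : ((p : ℤ) ^ e) ∣ n) (hne : n ≠ 0) :
    (p : ℤ) ^ (2 * e) ≤ n ^ 2 := by
  have hp : p.Prime := Fact.out
  obtain ⟨t, ht⟩ := hdvd
  have ht0 : t ≠ 0 := by
    rintro rfl
    exact hne (by rw [ht, mul_zero])
  have ht1 : 1 ≤ t ^ 2 := by
    have : 0 < t ^ 2 := by positivity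
    omega
  have hpp : (0 : ℤ) < (p : ℤ) ^ (2 * e) := by
    have : (0 : ℤ) < (p : ℤ) := by exact_mod_cast hp.pos
    positivity
  rw [ht, mul_pow, ← pow_mul, mul_comm e 2]
  nlinarith

/-- **Brauer–Feit, weighted form**: `4 Σ_{ψ ∈ B} p^{2 ht ψ} ≤ p^{2d} + 4`. -/
theorem four_mul_weighted_sum_le (hM : IsPModular p M) {B : Set (IrrCharacter G)}
    (hB : IsPBlock M B) (T₀ : Finset (IrrCharacter G)) (hT₀ : ∀ ψ, ψ ∈ T₀ ↔ ψ ∈ B) :
    4 * ∑ ψ ∈ T₀, (p : ℤ) ^ (2 * blockHeight p B (ψ : G → ℂ)) ≤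
      (p : ℤ) ^ (2 * blockDefect p B) + 4 := by
  classical
  have hMp : M.IsPrime := isPModular_isPrime hM
  have hMtop : M ≠ ⊤ := hMp.ne_top
  have hne : B.Nonempty := IsPBlock_nonempty hMtop hB
  obtain ⟨χ₀, hχ₀, h0⟩ := exists_min_factorization (p := p) hne
  have hht0 : blockHeight p B (χ₀ : G → ℂ) = 0 := by
    have := factorization_eq_sInf_add_blockHeight (p := p) hχ₀
    omega
  have hcrit := ((blockHeight_eq_zero_iff_contrib hM hB hχ₀).2).mp hht0
  have had := card_factorization_eq_sInf_add_blockDefect (p := p) (G := G) hne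
  have hkey := four_mul_sum_le_of_contrib hM χ₀ (T₀.erase χ₀) (Finset.notMem_erase χ₀ T₀)
    (fun ψ => (p : ℤ) ^ (2 * blockHeight p B (ψ : G → ℂ))) (by
      intro ψ hψ
      have hψB : ψ ∈ B := (hT₀ ψ).mp (Finset.mem_of_mem_erase hψ)
      have h1 := factorization_eq_sInf_add_blockHeight (p := p) hψB
      have h2 : contrib p χ₀ ψ ≠ 0 := by
        intro h
        apply hcrit ψ hψB
        rw [h]
        exact dvd_zero _
      have h3 := pow_le_contrib_sq_aux (p := p) (contrib p χ₀ ψ) _ (pow_dvd_contrib_right hM χ₀ ψ) h2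
      rw [← pow_add]
      have h4 : 2 * (charDegree (χ₀ : G → ℂ)).factorization p +
          2 * blockHeight p B (ψ : G → ℂ) = 2 * (charDegree (ψ : G → ℂ)).factorization p := by
        omega
      rw [h4]
      exact h3)
  have hd : (Nat.card G).factorization p - (charDegree (χ₀ : G → ℂ)).factorization p =
      blockDefect p B := by omega
  rw [hd] at hkey
  have hsplit : ∑ ψ ∈ T₀, (p : ℤ) ^ (2 * blockHeight p B (ψ : G → ℂ)) =
      (p : ℤ) ^ (2 * blockHeight p B (χ₀ : G → ℂ)) +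
        ∑ ψ ∈ T₀.erase χ₀, (p : ℤ) ^ (2 * blockHeight p B (ψ : G → ℂ)) :=
    (Finset.add_sum_erase T₀ _ ((hT₀ χ₀).mpr hχ₀)).symm
  rw [hsplit, hht0]
  simp only [mul_zero, pow_zero]
  linarith

/-- **Brauer–Feit**: if `ψ₀ ∈ B` has positive height `h`, the number of height-zero characters
of `B` is at most `p^{2(d-h)}/4`. -/
theorem four_mul_card_height_zero_le (hM : IsPModular p M) {B : Set (IrrCharacter G)}
    (hB : IsPBlock M B) {ψ₀ : IrrCharacter G} (hψ₀ : ψ₀ ∈ B)
    (hpos : blockHeight p B (ψ₀ : G → ℂ) ≠ 0) (T : Finset (IrrCharacter G))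
    (hT : ∀ χ ∈ T, χ ∈ B ∧ blockHeight p B (χ : G → ℂ) = 0) :
    4 * (T.card : ℤ) ≤
      (p : ℤ) ^ (2 * (blockDefect p B - blockHeight p B (ψ₀ : G → ℂ))) := by
  classical
  have hne : B.Nonempty := ⟨ψ₀, hψ₀⟩
  have had := card_factorization_eq_sInf_add_blockDefect (p := p) (G := G) hne
  have h1 := factorization_eq_sInf_add_blockHeight (p := p) hψ₀
  have hle := factorization_charDegree_le_card (p := p) ψ₀
  have hβT : ψ₀ ∉ T := fun h => hpos (hT ψ₀ h).2
  have hkey := four_mul_sum_le_of_contrib hM ψ₀ T hβT (fun _ => (1 : ℤ)) (by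
    intro χ hχ
    obtain ⟨hχB, hχ0⟩ := hT χ hχ
    have hcrit := ((blockHeight_eq_zero_iff_contrib hM hB hχB).2).mp hχ0 ψ₀ hψ₀
    rw [contrib_symm hM χ ψ₀] at hcrit
    have h2 : contrib p ψ₀ χ ≠ 0 := by
      intro h
      apply hcrit
      rw [h]
      exact dvd_zero _
    have h3 := pow_le_contrib_sq_aux (p := p) (contrib p ψ₀ χ) _ (pow_dvd_contrib_left hM ψ₀ χ) h2
    rw [mul_one]
    exact h3)
  have hd : (Nat.card G).factorization p - (charDegree (ψ₀ : G → ℂ)).factorization p =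
      blockDefect p B - blockHeight p B (ψ₀ : G → ℂ) := by omega
  rw [hd] at hkey
  simpa using hkey

end blocks

end Cfsg.Agent.Lib.Helper79
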