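import Mathlib
import Cfsg.Agent.Lib.Helper54.Coprime
import Cfsg.Agent.Lib.Helper67.ComplConj

/-!
# Group theory for Thompson's theorem on character degrees (helper79)

* `eq_bot_of_le_commutator_of_complement`: in a nilpotent group, a normal subgroup `M` with a
  complement `S` that lies in the commutator subgroup is trivial.
-/

namespace Cfsg.Agent.Lib.Helper79

open Subgroup
open scoped commutatorElement Pointwise

section Nil

variable {P : Type*} [Group P]

/-- Central elements drop out of commutators. -/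
theorem commutatorElement_central_mul {z z' a b : P} (hz : z ∈ center P) (hz' : z' ∈ center P) :
    ⁅z * a, z' * b⁆ = ⁅a, b⁆ := by
  have h1 : ∀ g : P, g * z = z * g := fun g => mem_center_iff.mp hz g
  have h2 : ∀ g : P, g * z' = z' * g := fun g => mem_center_iff.mp hz' g
  rw [commutatorElement_def, commutatorElement_def]
  have e1 : z * a * (z' * b) * (z * a)⁻¹ * (z' * b)⁻¹
      = z * (a * (z' * (b * (a⁻¹ * (z⁻¹ * (b⁻¹ * z'⁻¹)))))) := by
    simp only [mul_inv_rev, mul_assoc]
  rw [e1]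
  have h1' : ∀ g : P, g * z⁻¹ = z⁻¹ * g :=
    fun g => mem_center_iff.mp ((center P).inv_mem hz) g
  have h2' : ∀ g : P, g * z'⁻¹ = z'⁻¹ * g :=
    fun g => mem_center_iff.mp ((center P).inv_mem hz') g
  calc z * (a * (z' * (b * (a⁻¹ * (z⁻¹ * (b⁻¹ * z'⁻¹))))))
      = z * (a * (z' * (b * (a⁻¹ * (z⁻¹ * (z'⁻¹ * b⁻¹)))))) := by rw [h2' b⁻¹]
    _ = z * (a * (z' * (b * ((a⁻¹ * z⁻¹) * (z'⁻¹ * b⁻¹))))) := by simp only [mul_assoc]
    _ = z * (a * (z' * (b * ((z⁻¹ * a⁻¹) * (z'⁻¹ * b⁻¹))))) := by rw [h1' a⁻¹]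
    _ = z * (a * (z' * ((b * z⁻¹) * (a⁻¹ * (z'⁻¹ * b⁻¹))))) := by simp only [mul_assoc]
    _ = z * (a * (z' * ((z⁻¹ * b) * (a⁻¹ * (z'⁻¹ * b⁻¹))))) := by rw [h1' b]
    _ = z * (a * ((z' * z⁻¹) * (b * (a⁻¹ * (z'⁻¹ * b⁻¹))))) := by simp only [mul_assoc]
    _ = z * (a * ((z⁻¹ * z') * (b * (a⁻¹ * (z'⁻¹ * b⁻¹))))) := by rw [h1' z']
    _ = z * ((a * z⁻¹) * (z' * (b * (a⁻¹ * (z'⁻¹ * b⁻¹))))) := by simp only [mul_assoc]
    _ = z * ((z⁻¹ * a) * (z' * (b * (a⁻¹ * (z'⁻¹ * b⁻¹))))) := by rw [h1' a]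
    _ = a * (z' * (b * ((a⁻¹ * z'⁻¹) * b⁻¹))) := by simp only [mul_assoc, mul_inv_cancel_left]
    _ = a * (z' * (b * ((z'⁻¹ * a⁻¹) * b⁻¹))) := by rw [h2' a⁻¹]
    _ = a * (z' * ((b * z'⁻¹) * (a⁻¹ * b⁻¹))) := by simp only [mul_assoc]
    _ = a * (z' * ((z'⁻¹ * b) * (a⁻¹ * b⁻¹))) := by rw [h2' b]
    _ = a * b * a⁻¹ * b⁻¹ := by simp only [mul_assoc, mul_inv_cancel_left]

/-- In a nilpotent group, a normal subgroup with a complement that lies in the commutator
subgroup is trivial. -/
theorem eq_bot_of_le_commutator_of_complement [Group.IsNilpotent P] (M S : Subgroup P)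
    [hMn : M.Normal] (hMS : M ⊓ S = ⊥) (hsup : ∀ x : P, ∃ m ∈ M, ∃ s ∈ S, x = m * s)
    (hM : M ≤ commutator P) : M = ⊥ := by
  set R : Subgroup P := ⁅M, (⊤ : Subgroup P)⁆ with hR
  have hRM : R ≤ M := commutator_le_left M ⊤
  have hRn : R.Normal := by rw [hR]; infer_instance
  -- images of `M` in `P ⧸ R` are central
  have hcent : ∀ m ∈ M, (QuotientGroup.mk' R m) ∈ center (P ⧸ R) := by
    intro m hm
    rw [mem_center_iff]
    intro q
    obtain ⟨y, rfl⟩ := QuotientGroup.mk'_surjective R q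
    have h1 : ⁅m, y⁆ ∈ R := commutator_mem_commutator hm (mem_top y)
    have h2 : (QuotientGroup.mk' R) ⁅m, y⁆ = 1 := (QuotientGroup.eq_one_iff _).mpr h1
    rw [map_commutatorElement, commutatorElement_def] at h2
    have h3 : (QuotientGroup.mk' R) m * (QuotientGroup.mk' R) y
        = (QuotientGroup.mk' R) y * (QuotientGroup.mk' R) m := by
      calc (QuotientGroup.mk' R) m * (QuotientGroup.mk' R) y
          = ((QuotientGroup.mk' R) m * (QuotientGroup.mk' R) y * ((QuotientGroup.mk' R) m)⁻¹ *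
              ((QuotientGroup.mk' R) y)⁻¹) * ((QuotientGroup.mk' R) y * (QuotientGroup.mk' R) m) := by
            group
        _ = (QuotientGroup.mk' R) y * (QuotientGroup.mk' R) m := by rw [h2, one_mul]
    exact h3.symm
  -- the commutator subgroup lies in `R ⊔ S`
  have hcomm : commutator P ≤ R ⊔ S := by
    rw [_root_.commutator_def, commutator_le]
    intro a _ b _
    obtain ⟨m, hm, s, hs, rfl⟩ := hsup a
    obtain ⟨m', hm', s', hs', rfl⟩ := hsup b
    have h1 : (QuotientGroup.mk' R) ⁅m * s, m' * s'⁆ = (QuotientGroup.mk' R) ⁅s, s'⁆ := by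
      rw [map_commutatorElement, map_mul, map_mul,
        commutatorElement_central_mul (hcent m hm) (hcent m' hm'), map_commutatorElement]
    have h2 : ⁅m * s, m' * s'⁆ * ⁅s, s'⁆⁻¹ ∈ R := by
      rw [← QuotientGroup.eq_one_iff, ← QuotientGroup.mk'_apply, map_mul, map_inv, h1, mul_inv_cancel]
    have h3 : ⁅m * s, m' * s'⁆ = (⁅m * s, m' * s'⁆ * ⁅s, s'⁆⁻¹) * ⁅s, s'⁆ := by group
    rw [h3]
    exact mul_mem (mem_sup_left h2) (mem_sup_right (commutator_mem_commutator hs hs' |> fun h =>
      (commutator_le.mpr (fun g₁ hg₁ g₂ hg₂ => by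
        rw [commutatorElement_def]
        exact S.mul_mem (S.mul_mem (S.mul_mem hg₁ hg₂) (S.inv_mem hg₁)) (S.inv_mem hg₂)) :
        ⁅S, S⁆ ≤ S) h))
  -- hence `M ≤ R`
  have hMR : M ≤ R := by
    intro x hx
    have hx' : x ∈ R ⊔ S := hcomm (hM hx)
    have hx'' : x ∈ ((R ⊔ S : Subgroup P) : Set P) := hx'
    rw [normal_mul, Set.mem_mul] at hx''
    obtain ⟨r, hr, s, hs, rfl⟩ := hx''
    have hsM : s ∈ M := by
      have : s = r⁻¹ * (r * s) := by group
      rw [this]
      exact M.mul_mem (M.inv_mem (hRM hr)) hx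
    have hs1 : s = 1 := by
      have : s ∈ M ⊓ S := ⟨hsM, hs⟩
      rw [hMS] at this
      exact mem_bot.mp this
    rw [hs1, mul_one]
    exact hr
  -- `M` lies in every term of the lower central series
  have hlcs : ∀ n : ℕ, M ≤ (⊤ : Subgroup P).lowerCentralSeries n := by
    intro n
    induction n with
    | zero => simp
    | succ n ih =>
      rw [Subgroup.lowerCentralSeries_succ]
      exact hMR.trans (commutator_mono ih le_rfl)
  obtain ⟨n, hn⟩ := Subgroup.nilpotent_iff_lowerCentralSeries.mp (inferInstance : Group.IsNilpotent P)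
  have := hlcs n
  rw [hn] at this
  exact le_bot_iff.mp this

end Nil

section B1

variable {G : Type*} [Group G] [Finite G]

open Cfsg.Agent.Lib.Helper54

/-- The abelian minimal normal subgroup case of Thompson's theorem: if `M` is a minimal normal
subgroup which is an abelian `p`-group, `G ⧸ M` has a normal `p`-complement `L ⧸ M`, and
`P ∩ G' ≤ P'` for Sylow `p`-subgroups `P`, then `G` has a normal `p`-complement. -/
theorem npc_of_abelian_minimal_normal (p : ℕ) [hp : Fact p.Prime] (M L : Subgroup G)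
    [hM : M.Normal] [hL : L.Normal] (hML : M ≤ L) (hMp : IsPGroup p M) (hMne : M ≠ ⊥)
    (hMab : ∀ a ∈ M, ∀ b ∈ M, a * b = b * a)
    (hmin : ∀ K : Subgroup G, K.Normal → K ≤ M → K = ⊥ ∨ K = M)
    (hLM : (M.relIndex L).Coprime p) (hGL : ∃ k : ℕ, L.index = p ^ k)
    (hfocal : ∀ P : Sylow p G, ∀ x ∈ (P : Subgroup G), x ∈ commutator G →
      x ∈ ⁅(P : Subgroup G), (P : Subgroup G)⁆) :
    ∃ N : Subgroup G, N.Normal ∧ (Nat.card N).Coprime p ∧ ∃ k : ℕ, N.index = p ^ k := by
  classical
  obtain ⟨j, hj⟩ := IsPGroup.iff_card.mp hMp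
  -- a complement `H` of `M` in `L`
  have hLnM : L ≤ Subgroup.normalizer (M : Set G) := by
    rw [Subgroup.normalizer_eq_top_iff.mpr hM]; exact le_top
  have hcop0 : (Nat.card (M ⊓ L : Subgroup G)).Coprime (M.relIndex L) := by
    rw [inf_eq_left.mpr hML, hj]
    exact Nat.Coprime.pow_left j hLM.symm
  obtain ⟨H, hHL, hHcard⟩ := exists_complement_rel L M hLnM hcop0
  have hHcop : (Nat.card H).Coprime p := hHcard ▸ hLM
  have hMHcop : (Nat.card M).Coprime (Nat.card H) := by
    rw [hj]; exact Nat.Coprime.pow_left j hHcop.symm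
  have hMH : M ⊓ H = ⊥ := (Subgroup.disjoint_of_coprime_natCard hMHcop).eq_bot
  have hHnM : H ≤ Subgroup.normalizer (M : Set G) := by
    rw [Subgroup.normalizer_eq_top_iff.mpr hM]; exact le_top
  have hsup : H ⊔ M = L := by
    apply Subgroup.eq_of_le_of_card_ge (sup_le hHL hML)
    rw [sup_comm, card_sup_of_le_normalizer hHnM hMH, hHcard, card_mul_relIndex hML]
  -- Frattini argument
  have hMsol : Group.IsSolvable M := by
    have : Group.IsNilpotent M := hMp.isNilpotent
    infer_instance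
  have hfrat : ∀ g : G, ∃ m ∈ M, m⁻¹ * g ∈ Subgroup.normalizer (H : Set G) := by
    intro g
    set K := MulAut.conj g • H with hK
    have hKsup : K ⊔ M = L := by
      have h1 : MulAut.conj g • (H ⊔ M) = K ⊔ M := by
        rw [Subgroup.smul_sup, Subgroup.Normal.conj_smul_eq_self g M]
      rw [← h1, hsup, Subgroup.Normal.conj_smul_eq_self g L]
    have hKcard : Nat.card K = Nat.card H := card_conj_smul g H
    obtain ⟨m, hm, hmK⟩ := Cfsg.Agent.Lib.Helper67.exists_mem_conj_smul_eq_of_sup_eq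
      (M := M) (H := H) (K := K) (hsup.trans hKsup.symm) hMHcop (hKcard ▸ hMHcop) (Or.inl hMsol)
    refine ⟨m, hm, ?_⟩
    rw [mem_normalizer_iff_conj_smul, map_mul, mul_smul, ← hK, ← hmK, ← mul_smul, ← map_mul,
      inv_mul_cancel, map_one, one_smul]
  -- `D = M ∩ N_G(H)` is normal in `G`
  set NH := Subgroup.normalizer (H : Set G) with hNH
  set D : Subgroup G := M ⊓ NH with hD
  have hDn : D.Normal := by
    constructor
    intro d hd g
    obtain ⟨m, hm, hmg⟩ := hfrat g
    set n := m⁻¹ * g with hn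
    have hg : g = m * n := by rw [hn]; group
    have h1 : n * d * n⁻¹ ∈ D :=
      ⟨hM.conj_mem d hd.1 n, NH.mul_mem (NH.mul_mem hmg hd.2) (NH.inv_mem hmg)⟩
    have h2 : g * d * g⁻¹ = m * (n * d * n⁻¹) * m⁻¹ := by rw [hg]; group
    have h3 : m * (n * d * n⁻¹) * m⁻¹ = n * d * n⁻¹ := by
      rw [hMab m hm _ h1.1, mul_assoc, mul_inv_cancel, mul_one]
    rw [h2, h3]
    exact h1
  rcases hmin D hDn inf_le_left with hD0 | hDM
  · -- `D = ⊥`: contradiction
    exfalso
    -- `[M, G] = M`
    have hMG : ⁅M, (⊤ : Subgroup G)⁆ = M := by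
      have hn : (⁅M, (⊤ : Subgroup G)⁆).Normal := inferInstance
      rcases hmin _ hn (commutator_le_left M ⊤) with h0 | h1
      · exfalso
        apply hMne
        have hMc : M ≤ Subgroup.centralizer ((⊤ : Subgroup G) : Set G) :=
          commutator_eq_bot_iff_le_centralizer.mp h0
        have hMNH : M ≤ NH := by
          intro m hm
          have hmc := hMc hm
          rw [hNH, Subgroup.mem_normalizer_iff]
          intro h
          have := hmc h (Set.mem_univ h)
          -- `h * m = m * h`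
          constructor
          · intro hh
            have e : m * h * m⁻¹ = h := by rw [← this]; group
            rw [e]; exact hh
          · intro hh
            have e : m * h * m⁻¹ = h := by rw [← this]; group
            rw [e] at hh; exact hh
        have : M ≤ D := le_inf le_rfl hMNH
        rw [hD0] at this
        exact le_bot_iff.mp this
      · exact h1
    have hMcomm : M ≤ commutator G := by
      rw [_root_.commutator_def, ← hMG]
      exact commutator_mono le_top le_rfl
    obtain ⟨P, hMP⟩ := hMp.exists_le_sylow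
    have hMP' : ∀ x ∈ M, x ∈ ⁅(P : Subgroup G), (P : Subgroup G)⁆ :=
      fun x hx => hfocal P x (hMP hx) (hMcomm hx)
    -- work inside `P`
    have hnil : Group.IsNilpotent (P : Subgroup G) := P.2.isNilpotent
    have hMPn : (M.subgroupOf (P : Subgroup G)).Normal := inferInstance
    have hbot := eq_bot_of_le_commutator_of_complement (P := (P : Subgroup G))
      (M.subgroupOf P) (NH.subgroupOf P) ?_ ?_ ?_
    · apply hMne
      rw [Subgroup.subgroupOf_eq_bot, disjoint_iff, inf_eq_left.mpr hMP] at hbot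
      exact hbot
    · have h1 : M.subgroupOf (P : Subgroup G) ⊓ NH.subgroupOf (P : Subgroup G)
          = D.subgroupOf (P : Subgroup G) := by
        ext x; simp [Subgroup.mem_subgroupOf, hD]
      rw [h1, hD0, Subgroup.bot_subgroupOf]
    · intro x
      obtain ⟨m, hm, hmx⟩ := hfrat (x : G)
      have hmP : m ∈ (P : Subgroup G) := hMP hm
      refine ⟨⟨m, hmP⟩, hm, ⟨m⁻¹ * x, (P : Subgroup G).mul_mem ((P : Subgroup G).inv_mem hmP) x.2⟩,
        hmx, ?_⟩
      apply Subtype.ext
      simp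
    · intro x hx
      have h1 := hMP' (x : G) hx
      rw [← Subgroup.map_subtype_commutator] at h1
      obtain ⟨y, hy, hyx⟩ := h1
      have : y = x := Subtype.ext hyx
      rw [← this]; exact hy
  · -- `D = M`: `H` is normal
    have hMNH : M ≤ NH := by rw [← hDM]; exact inf_le_right
    have hHn : H.Normal := by
      rw [← Subgroup.normalizer_eq_top_iff, eq_top_iff]
      intro g _
      obtain ⟨m, hm, hmg⟩ := hfrat g
      have : g = m * (m⁻¹ * g) := by group
      rw [this]
      exact NH.mul_mem (hMNH hm) hmg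
    refine ⟨H, hHn, hHcop, ?_⟩
    obtain ⟨k, hk⟩ := hGL
    refine ⟨k + j, ?_⟩
    have h1 : Nat.card H * H.index = Nat.card G := H.card_mul_index
    have h2 : Nat.card L * L.index = Nat.card G := L.card_mul_index
    have h3 : Nat.card M * M.relIndex L = Nat.card L := card_mul_relIndex hML
    rw [hk, ← h3, hj, ← hHcard] at h2
    have h4 : Nat.card H * H.index = Nat.card H * (p ^ (k + j)) := by
      rw [h1, ← h2, pow_add]; ring
    exact Nat.eq_of_mul_eq_mul_left Nat.card_pos h4

end B1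

end Cfsg.Agent.Lib.Helper79
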