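import Cfsg.Agent.Lib.Helper79.ThompsonB2
import Cfsg.Agent.Lib.Helper79.ThompsonGT
import Cfsg.Agent.Lib.Helper77.Deflation
import Cfsg.Agent.Lib.Helper1.MinimalNormal
import Cfsg.Agent.S4176

/-!
# Thompson's theorem on character degrees (helper79)

If `p` divides the degree of every nonlinear irreducible character of the finite group `G`, then
`G` has a normal `p`-complement (`thompson_degree`).
-/

open Cfsg
open scoped commutatorElement

namespace Cfsg.Agent.Lib.Helper79

universe u

open Cfsg.Agent.Lib.Helper78 Cfsg.Agent.Lib.Helper75 Cfsg.Agent.Lib.Helper77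

section Pieces

variable {G : Type u} [Group G] [Finite G]

/-- `ThompsonHyp` passes to quotients. -/
theorem ThompsonHyp.quotient {p : ℕ} (hyp : ThompsonHyp p G) (M : Subgroup G) [M.Normal] :
    ThompsonHyp p (G ⧸ M) := by
  intro χ hχ
  have h1 : (inflate M χ : G → ℂ) 1 = (χ : G ⧸ M → ℂ) 1 := by
    rw [inflate_apply]; rfl
  have h2 : charDegree (inflate M χ : G → ℂ) = charDegree (χ : G ⧸ M → ℂ) := by
    unfold charDegree; rw [h1]
  rw [← h2] at hχ ⊢
  exact hyp _ hχ

/-- Under `ThompsonHyp`, `P ∩ G' ≤ P'` for a Sylow `p`-subgroup `P`. -/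
theorem focal_of_thompsonHyp {p : ℕ} [hp : Fact p.Prime] (hyp : ThompsonHyp p G) (P : Sylow p G)
    (x : G) (hxP : x ∈ (P : Subgroup G)) (hx : x ∈ commutator G) :
    x ∈ ⁅(P : Subgroup G), (P : Subgroup G)⁆ := by
  classical
  letI : Fintype G := Fintype.ofFinite G
  by_contra hnot
  set xP : (P : Subgroup G) := ⟨x, hxP⟩ with hxPdef
  have hxc : xP ∉ commutator (P : Subgroup G) := by
    intro h
    apply hnot
    rw [← Subgroup.map_subtype_commutator]
    exact ⟨xP, h, rfl⟩
  have hne : (Abelianization.of xP : Abelianization (P : Subgroup G)) ≠ 1 := by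
    intro h
    apply hxc
    have : xP ∈ (Abelianization.of (G := (P : Subgroup G))).ker := MonoidHom.mem_ker.mpr h
    rwa [Abelianization.ker_of] at this
  have hnz : NeZero ((Monoid.exponent (Abelianization (P : Subgroup G)) : ℕ) : ℂ) :=
    ⟨by exact_mod_cast Monoid.exponent_ne_zero_of_finite⟩
  obtain ⟨δ, hδ⟩ := CommGroup.exists_apply_ne_one_of_hasEnoughRootsOfUnity
    (Abelianization (P : Subgroup G)) ℂ hne
  set φ : IrrCharacter (P : Subgroup G) :=
    ⟨_, isIrrCharacter_of_monoidHom (δ.comp Abelianization.of)⟩ with hφ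
  have hφ1 : φ.1 1 = 1 := by
    simp [hφ]
  have hφdeg : ¬ p ∣ charDegree φ.1 := by
    have : charDegree φ.1 = 1 := by
      unfold charDegree; rw [hφ1]; simp
    rw [this]
    exact hp.out.one_lt.ne' ∘ Nat.dvd_one.mp
  have h1 := lemmaK_commutator p hp.out hyp (P : Subgroup G) P.not_dvd_index φ hφdeg xP hx
  apply hδ
  apply Units.ext
  exact h1

/-- Lifting a normal `p`-complement from `G ⧸ M` when `p ∤ |M|`. -/
theorem npc_lift_of_coprime {p : ℕ} (M : Subgroup G) [M.Normal] (hM : (Nat.card M).Coprime p)
    (h : ∃ N : Subgroup (G ⧸ M), N.Normal ∧ (Nat.card N).Coprime p ∧ ∃ k : ℕ, N.index = p ^ k) :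
    ∃ N : Subgroup G, N.Normal ∧ (Nat.card N).Coprime p ∧ ∃ k : ℕ, N.index = p ^ k := by
  obtain ⟨Nb, hNbn, hNbc, k, hk⟩ := h
  refine ⟨Nb.comap (QuotientGroup.mk' M), inferInstance, ?_, k, ?_⟩
  · rw [Cfsg.Agent.S4176.card_comap_mk']
    exact Nat.Coprime.mul_left hM hNbc
  · rw [Subgroup.index_comap_of_surjective _ (QuotientGroup.mk'_surjective M), hk]

/-- An abelian minimal normal subgroup of order divisible by `p` is a `p`-group. -/
theorem isPGroup_of_abelian_minimal_normal {p : ℕ} [hp : Fact p.Prime] (M : Subgroup G)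
    [hM : M.Normal] (hMab : ∀ a ∈ M, ∀ b ∈ M, a * b = b * a)
    (hmin : ∀ K : Subgroup G, K.Normal → K ≤ M → K = ⊥ ∨ K = M) (hpM : p ∣ Nat.card M) :
    IsPGroup p M := by
  classical
  obtain Q : Sylow p M := default
  have hQn : (Q : Subgroup M).Normal := by
    constructor
    intro a ha b
    have hba : b * a = a * b := Subtype.ext (hMab b b.2 a a.2)
    have : b * a * b⁻¹ = a := by
      rw [hba, mul_assoc, mul_inv_cancel, mul_one]
    rw [this]; exact ha
  have hQc : (Q : Subgroup M).Characteristic := Sylow.characteristic_of_normal Q hQn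
  have hn : ((Q : Subgroup M).map M.subtype).Normal := inferInstance
  rcases hmin _ hn (Subgroup.map_subtype_le _) with h0 | h1
  · exfalso
    have hQ0 : (Q : Subgroup M) = ⊥ := by
      rw [← Subgroup.map_eq_bot_iff_of_injective _ M.subtype_injective]
      exact h0
    have hcard : Nat.card (Q : Subgroup M) = p ^ (Nat.card M).factorization p :=
      Q.card_eq_multiplicity
    rw [hQ0, Subgroup.card_bot] at hcard
    have hpos : 0 < (Nat.card M).factorization p :=
      (hp.out.factorization_pos_of_dvd Nat.card_pos.ne' hpM)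
    have : 1 < p ^ (Nat.card M).factorization p := Nat.one_lt_pow hpos.ne' hp.out.one_lt
    omega
  · have hQp : IsPGroup p ((Q : Subgroup M).map M.subtype) := Q.2.map _
    rw [h1] at hQp
    exact hQp

end Pieces

/-- **Thompson's theorem on character degrees**, inductive form. -/
theorem thompson_degree_aux (p : ℕ) (hp : p.Prime) : ∀ (n : ℕ) (G : Type u) [Group G] [Finite G],
    Nat.card G = n → ThompsonHyp p G →
    ∃ N : Subgroup G, N.Normal ∧ (Nat.card N).Coprime p ∧ ∃ k : ℕ, N.index = p ^ k := by
  intro n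
  induction n using Nat.strong_induction_on with
  | _ n ih =>
    intro G _ _ hn hyp
    classical
    have : Fact p.Prime := ⟨hp⟩
    letI : Fintype G := Fintype.ofFinite G
    by_cases htriv : (⊤ : Subgroup G) = ⊥
    · refine ⟨⊥, inferInstance, by simp, 0, ?_⟩
      rw [← htriv, Subgroup.index_top, pow_zero]
    obtain ⟨M, hMn, hM1, -, hmin⟩ :=
      Cfsg.Agent.Lib.Helper1.exists_minimal_normal_le (⊤ : Subgroup G) inferInstance htriv
    have hMn' : M.Normal := hMn
    -- the quotient has a normal `p`-complement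
    have hcardq : Nat.card (G ⧸ M) < n := by
      rw [← hn, ← Subgroup.index_eq_card]
      have h1 := M.card_mul_index
      have h2 : 1 < Nat.card M := by
        rw [Subgroup.one_lt_card_iff_ne_bot]; exact hM1
      have h3 : 0 < M.index := Nat.pos_of_ne_zero Subgroup.index_ne_zero_of_finite
      nlinarith
    have hq := ih _ hcardq (G ⧸ M) rfl (hyp.quotient M)
    by_cases hpM : p ∣ Nat.card M
    · -- `p ∣ |M|`
      by_cases hperf : ⁅M, M⁆ = M
      · exact absurd hpM (not_dvd_card_of_perfect_normal p hp hyp M hperf)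
      · -- `M` is abelian
        have hcn : (⁅M, M⁆).Normal := inferInstance
        have hc0 : ⁅M, M⁆ = ⊥ :=
          (hmin _ hcn (Subgroup.commutator_le_left M M)).resolve_right hperf
        have hMab : ∀ a ∈ M, ∀ b ∈ M, a * b = b * a := by
          intro a ha b hb
          have h1 : ⁅a, b⁆ ∈ ⁅M, M⁆ := Subgroup.commutator_mem_commutator ha hb
          rw [hc0, Subgroup.mem_bot, commutatorElement_eq_one_iff_mul_comm] at h1
          exact h1
        have hMp : IsPGroup p M := isPGroup_of_abelian_minimal_normal M hMab hmin hpM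
        obtain ⟨Nb, hNbn, hNbc, k, hk⟩ := hq
        set L : Subgroup G := Nb.comap (QuotientGroup.mk' M) with hL
        have hLn : L.Normal := inferInstance
        have hML : M ≤ L := by
          intro m hm
          rw [hL, Subgroup.mem_comap]
          have : (QuotientGroup.mk' M) m = 1 := (QuotientGroup.eq_one_iff m).mpr hm
          rw [this]; exact Nb.one_mem
        have hLcard : Nat.card L = Nat.card M * Nat.card Nb := Cfsg.Agent.S4176.card_comap_mk' M Nb
        have hrel : M.relIndex L = Nat.card Nb := by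
          have h1 := Cfsg.Agent.Lib.Helper54.card_mul_relIndex hML
          rw [hLcard] at h1
          exact Nat.eq_of_mul_eq_mul_left Nat.card_pos h1
        have hLidx : L.index = p ^ k := by
          rw [hL, Subgroup.index_comap_of_surjective _ (QuotientGroup.mk'_surjective M), hk]
        exact npc_of_abelian_minimal_normal p M L hML hMp hM1 hMab hmin (hrel ▸ hNbc) ⟨k, hLidx⟩
          (fun P x hxP hx => focal_of_thompsonHyp hyp P x hxP hx)
    · -- `p ∤ |M|`
      exact npc_lift_of_coprime M ((Nat.Prime.coprime_iff_not_dvd hp).mpr hpM).symm hq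

/-- **Thompson's theorem on character degrees**: if `p` divides the degree of every nonlinear
irreducible character of `G`, then `G` has a normal `p`-complement. -/
theorem thompson_degree {G : Type u} [Group G] [Finite G] (p : ℕ) (hp : p.Prime)
    (hyp : ThompsonHyp p G) :
    ∃ N : Subgroup G, N.Normal ∧ (Nat.card N).Coprime p ∧ ∃ k : ℕ, N.index = p ^ k :=
  thompson_degree_aux p hp (Nat.card G) G rfl hyp

end Cfsg.Agent.Lib.Helper79
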