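import Mathlib

/-!
# The rank of a square matrix over a field is invariant under field extension (helper79)
-/

set_option autoImplicit false

namespace Cfsg.Agent.Lib.Helper79

open Matrix

/-- rank of the block normal form -/
theorem rank_normalForm {L : Type*} [Field L] {m : Type*} [Fintype m] [DecidableEq m] (r s : ℕ)
    (e : m ≃ Fin r ⊕ Fin s) :
    ((fromBlocks (1 : Matrix (Fin r) (Fin r) L) (0 : Matrix (Fin r) (Fin s) L)
      (0 : Matrix (Fin s) (Fin r) L) (0 : Matrix (Fin s) (Fin s) L)).submatrix e e).rank = r := by
  classical
  rw [rank_submatrix]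
  rw [← diagonal_one, ← diagonal_zero, fromBlocks_diagonal, rank_diagonal]
  rw [Fintype.card_subtype]
  have : (Finset.univ.filter (fun i : Fin r ⊕ Fin s =>
      Sum.elim (fun _ => (1 : L)) (fun _ => (0 : L)) i ≠ 0)) =
      Finset.univ.map ⟨Sum.inl, Sum.inl_injective⟩ := by
    ext i
    rcases i with i | i <;> simp
  rw [this, Finset.card_map, Finset.card_univ, Fintype.card_fin]

/-- the rank of a square matrix over a field does not change under a field extension -/
theorem rank_map_field {K L : Type*} [Field K] [Field L] (f : K →+* L) {m : Type*} [Fintype m]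
    [DecidableEq m] (A : Matrix m m K) : (A.map f).rank = A.rank := by
  classical
  obtain ⟨V, U, e, hV, hU, h⟩ := exists_rank_normal_form A
  have hV' : IsUnit (V.map f).det := by
    have := (isUnit_iff_isUnit_det V).mp hV
    have h1 : (V.map f).det = f V.det := by
      rw [RingHom.map_det]; rfl
    rw [h1]
    exact this.map f
  have hU' : IsUnit (U.map f).det := by
    have := (isUnit_iff_isUnit_det U).mp hU
    have h1 : (U.map f).det = f U.det := by
      rw [RingHom.map_det]; rfl
    rw [h1]
    exact this.map f
  have h2 : V.map f * A.map f * U.map f =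
      (fromBlocks (1 : Matrix (Fin A.rank) (Fin A.rank) L) 0 0 0).submatrix e e := by
    have := congrArg (fun X : Matrix m m K => X.map f) h
    simp only [Matrix.map_mul] at this
    rw [this]
    ext i j
    simp only [Matrix.map_apply, Matrix.submatrix_apply]
    rcases e i with a | a <;> rcases e j with b | b <;>
      simp [Matrix.fromBlocks, Matrix.one_apply]
  have h3 : (V.map f * A.map f * U.map f).rank = (A.map f).rank := by
    rw [rank_mul_eq_left_of_isUnit_det _ _ hU', rank_mul_eq_right_of_isUnit_det _ _ hV']
  rw [← h3, h2, rank_normalForm]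

end Cfsg.Agent.Lib.Helper79
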