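/-
2-blocks of defect one (helper79): such a block consists of exactly two irreducible characters,
which agree on the elements of odd order and whose sum vanishes on the elements of even order.
-/
import Mathlib
import Cfsg.Agent.Lib.Helper79.BrauerFeit

set_option autoImplicit false

namespace Cfsg.Agent.Lib.Helper79

open Cfsg Cfsg.Agent.Lib.Helper16 Cfsg.Agent.Lib.Helper78
open scoped ComplexConjugate

universe u

variable {G : Type u} [Group G] [Fintype G]

/-- A 2-block of defect one is `{χ, ψ}` with `χ = ψ` on 2-regular elements and `χ + ψ = 0` on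
2-singular elements. -/
theorem two_block_defect_one {M : Ideal AlgInt} (hM : IsPModular 2 M)
    {β : Set (IrrCharacter G)} (hβ : IsPBlock M β) (hd : blockDefect 2 β = 1) :
    ∃ χ ψ : IrrCharacter G, χ ≠ ψ ∧ β = {χ, ψ} ∧
      (∀ g : G, ¬ 2 ∣ orderOf g → (χ : G → ℂ) g = (ψ : G → ℂ) g) ∧
      (∀ g : G, 2 ∣ orderOf g → (χ : G → ℂ) g + (ψ : G → ℂ) g = 0) := by
  classical
  have : Fact (Nat.Prime 2) := Nat.fact_prime_two
  have hMp : M.IsPrime := isPModular_isPrime hM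
  have hMtop : M ≠ ⊤ := hMp.ne_top
  have hne : β.Nonempty := IsPBlock_nonempty hMtop hβ
  obtain ⟨χ, hχ⟩ := hne
  set a := (Nat.card G).factorization 2 with ha
  have had := card_factorization_eq_sInf_add_blockDefect (p := 2) (G := G) ⟨χ, hχ⟩
  rw [hd, ← ha] at had
  -- all heights are zero
  have hht : ∀ ψ ∈ β, blockHeight 2 β (ψ : G → ℂ) = 0 := by
    intro ψ hψ
    by_contra hne
    have := blockHeight_add_two_le hM hβ hψ hne
    omega
  have hν : ∀ ψ ∈ β, (charDegree (ψ : G → ℂ)).factorization 2 + 1 = a := by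
    intro ψ hψ
    have h1 := factorization_eq_sInf_add_blockHeight (p := 2) hψ
    rw [hht ψ hψ] at h1
    omega
  have ha1 : 1 ≤ a := by have := hν χ hχ; omega
  -- the diagonal contribution
  have hdvd : ((2 : ℤ) ^ (a - 1)) ∣ contrib 2 χ χ := by
    have h1 := pow_dvd_contrib_left hM χ χ
    have h2 : (charDegree (χ : G → ℂ)).factorization 2 = a - 1 := by have := hν χ hχ; omega
    rw [h2] at h1
    exact_mod_cast h1
  have hnot : ¬ ((2 : ℤ) ^ a) ∣ contrib 2 χ χ := by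
    have h1 := not_pow_succ_dvd_contrib_self hM χ (by have := hν χ hχ; omega)
    rw [hν χ hχ] at h1
    exact_mod_cast h1
  obtain ⟨hpos, hle, -⟩ := contrib_self_bounds hM χ
  rw [← ha] at hle
  have hle' : contrib 2 χ χ ≤ (2 : ℤ) ^ a := by exact_mod_cast hle
  have h2a : (2 : ℤ) ^ a = 2 * (2 : ℤ) ^ (a - 1) := by
    rw [← pow_succ']
    congr 1
    omega
  have hpp : (0 : ℤ) < (2 : ℤ) ^ (a - 1) := by positivity
  have hdiag : contrib 2 χ χ = (2 : ℤ) ^ (a - 1) := by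
    obtain ⟨y, hy⟩ := hdvd
    have hy1 : 0 < y := by
      by_contra hcon
      push Not at hcon
      have : (2 : ℤ) ^ (a - 1) * y ≤ 0 := mul_nonpos_of_nonneg_of_nonpos hpp.le hcon
      omega
    have hy2 : y ≤ 2 := by
      by_contra hcon
      push Not at hcon
      have : (2 : ℤ) ^ (a - 1) * 3 ≤ (2 : ℤ) ^ (a - 1) * y :=
        mul_le_mul_of_nonneg_left (by omega) hpp.le
      omega
    have hy3 : y ≠ 2 := by
      rintro rfl
      apply hnot
      rw [hy, h2a, mul_comm]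
    have hy4 : y = 1 := by omega
    rw [hy, hy4, mul_one]
  -- Parseval
  have hsum := sum_contrib_sq hM χ
  rw [← ha, hdiag] at hsum
  set T₀ : Finset (IrrCharacter G) := Finset.univ.filter (fun ψ => ψ ∈ β) with hT₀
  set T : Finset (IrrCharacter G) := T₀.erase χ with hT
  have hχT₀ : χ ∈ T₀ := by rw [hT₀, Finset.mem_filter]; exact ⟨Finset.mem_univ _, hχ⟩
  have hsum2 : ∑ ψ : IrrCharacter G, (contrib 2 χ ψ) ^ 2 = ∑ ψ ∈ T₀, (contrib 2 χ ψ) ^ 2 := by
    rw [hT₀, Finset.sum_filter]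
    apply Finset.sum_congr rfl
    intro ψ _
    split_ifs with h
    · rfl
    · rw [contrib_eq_zero_of_not_mem hM hβ hχ h]
      simp
  have hsum3 : ∑ ψ ∈ T₀, (contrib 2 χ ψ) ^ 2 =
      (contrib 2 χ χ) ^ 2 + ∑ ψ ∈ T, (contrib 2 χ ψ) ^ 2 :=
    (Finset.add_sum_erase T₀ _ hχT₀).symm
  rw [hsum2, hsum3, hdiag] at hsum
  have hsumT : ∑ ψ ∈ T, (contrib 2 χ ψ) ^ 2 = ((2 : ℤ) ^ (a - 1)) ^ 2 := by
    have : ((2 : ℕ) : ℤ) ^ a = 2 * (2 : ℤ) ^ (a - 1) := by exact_mod_cast h2a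
    rw [this] at hsum
    linarith
  -- members of `T`
  have hcrit := ((blockHeight_eq_zero_iff_contrib hM hβ hχ).2).mp (hht χ hχ)
  have hTmem : ∀ ψ ∈ T, ψ ∈ β ∧ ψ ≠ χ := by
    intro ψ hψ
    rw [hT, Finset.mem_erase, hT₀, Finset.mem_filter] at hψ
    exact ⟨hψ.2.2, hψ.1⟩
  have hlow : ∀ ψ ∈ T, ((2 : ℤ) ^ (a - 1)) ^ 2 ≤ (contrib 2 χ ψ) ^ 2 := by
    intro ψ hψ
    obtain ⟨hψβ, -⟩ := hTmem ψ hψ
    have h1 : contrib 2 χ ψ ≠ 0 := by
      intro h
      apply hcrit ψ hψβ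
      rw [h]
      exact dvd_zero _
    have h2 := pow_dvd_contrib_right hM χ ψ
    have h3 : (charDegree (ψ : G → ℂ)).factorization 2 = a - 1 := by have := hν ψ hψβ; omega
    rw [h3] at h2
    have h4 := pow_le_contrib_sq_aux (p := 2) (contrib 2 χ ψ) (a - 1) (by exact_mod_cast h2) h1
    rw [← pow_mul, mul_comm]
    exact_mod_cast h4
  have hcardT : T.card = 1 := by
    have h1 : (T.card : ℤ) * ((2 : ℤ) ^ (a - 1)) ^ 2 ≤ ∑ ψ ∈ T, (contrib 2 χ ψ) ^ 2 := by
      have := Finset.card_nsmul_le_sum T (fun ψ => (contrib 2 χ ψ) ^ 2) _ hlow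
      simpa using this
    rw [hsumT] at h1
    have hsq : (0 : ℤ) < ((2 : ℤ) ^ (a - 1)) ^ 2 := by positivity
    have h2 : (T.card : ℤ) ≤ 1 := by
      by_contra hcon
      push Not at hcon
      have : 2 * ((2 : ℤ) ^ (a - 1)) ^ 2 ≤ (T.card : ℤ) * ((2 : ℤ) ^ (a - 1)) ^ 2 :=
        mul_le_mul_of_nonneg_right (by omega) hsq.le
      linarith
    have h3 : T.card ≠ 0 := by
      intro h
      rw [Finset.card_eq_zero] at h
      rw [h, Finset.sum_empty] at hsumT
      linarith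
    omega
  obtain ⟨ψ, hTψ⟩ := Finset.card_eq_one.mp hcardT
  have hψT : ψ ∈ T := by rw [hTψ]; exact Finset.mem_singleton_self ψ
  obtain ⟨hψβ, hψχ⟩ := hTmem ψ hψT
  have hβeq : β = {χ, ψ} := by
    ext ξ
    simp only [Set.mem_insert_iff, Set.mem_singleton_iff]
    constructor
    · intro hξ
      by_cases h : ξ = χ
      · exact Or.inl h
      · right
        have : ξ ∈ T := by
          rw [hT, Finset.mem_erase, hT₀, Finset.mem_filter]
          exact ⟨h, Finset.mem_univ _, hξ⟩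
        rw [hTψ, Finset.mem_singleton] at this
        exact this
    · rintro (rfl | rfl)
      · exact hχ
      · exact hψβ
  have hoff : (contrib 2 χ ψ) ^ 2 = ((2 : ℤ) ^ (a - 1)) ^ 2 := by
    rw [hTψ, Finset.sum_singleton] at hsumT
    exact hsumT
  -- expansion of `χ̃`
  have hexp : ∀ g : G, tld 2 (χ : G → ℂ) g =
      (contrib 2 χ χ : ℂ) * (χ : G → ℂ) g + (contrib 2 χ ψ : ℂ) * (ψ : G → ℂ) g := by
    intro g
    have h1 := congrFun (tld_eq_sum_contrib hM χ) g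
    rw [h1]
    have h2 : ∑ ξ : IrrCharacter G, (contrib 2 χ ξ : ℂ) * (ξ : G → ℂ) g =
        ∑ ξ ∈ T₀, (contrib 2 χ ξ : ℂ) * (ξ : G → ℂ) g := by
      rw [hT₀, Finset.sum_filter]
      apply Finset.sum_congr rfl
      intro ξ _
      split_ifs with h
      · rfl
      · rw [contrib_eq_zero_of_not_mem hM hβ hχ h]
        simp
    rw [h2, ← Finset.add_sum_erase T₀ _ hχT₀, ← hT, hTψ, Finset.sum_singleton]
  -- the sign
  have hχ1 : (χ : G → ℂ) 1 = (charDegree (χ : G → ℂ) : ℂ) := irr_apply_one_eq_charDegree χ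
  have hψ1 : (ψ : G → ℂ) 1 = (charDegree (ψ : G → ℂ) : ℂ) := irr_apply_one_eq_charDegree ψ
  have hχpos : 0 < charDegree (χ : G → ℂ) := irr_charDegree_pos χ
  have hψpos : 0 < charDegree (ψ : G → ℂ) := irr_charDegree_pos ψ
  have h1reg : ¬ 2 ∣ orderOf (1 : G) := by rw [orderOf_one]; norm_num
  have hat1 : ((2 : ℤ) ^ a) * (charDegree (χ : G → ℂ) : ℤ) =
      (2 : ℤ) ^ (a - 1) * (charDegree (χ : G → ℂ) : ℤ) +
        contrib 2 χ ψ * (charDegree (ψ : G → ℂ) : ℤ) := by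
    have h := hexp 1
    unfold tld at h
    rw [if_neg h1reg, hχ1, hψ1, hdiag, ← ha] at h
    have h' : ((((2 : ℤ) ^ a) * (charDegree (χ : G → ℂ) : ℤ) : ℤ) : ℂ) =
        (((2 : ℤ) ^ (a - 1) * (charDegree (χ : G → ℂ) : ℤ) +
          contrib 2 χ ψ * (charDegree (ψ : G → ℂ) : ℤ) : ℤ) : ℂ) := by
      push_cast
      push_cast at h
      exact h
    exact_mod_cast h'
  have hoffpos : 0 < contrib 2 χ ψ := by
    have h1 : 0 < contrib 2 χ ψ * (charDegree (ψ : G → ℂ) : ℤ) := by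
      have : (0 : ℤ) < (2 : ℤ) ^ (a - 1) * (charDegree (χ : G → ℂ) : ℤ) := by
        have : (0 : ℤ) < (charDegree (χ : G → ℂ) : ℤ) := by exact_mod_cast hχpos
        positivity
      rw [h2a] at hat1
      linarith
    have h2 : (0 : ℤ) < (charDegree (ψ : G → ℂ) : ℤ) := by exact_mod_cast hψpos
    by_contra hcon
    push Not at hcon
    have : contrib 2 χ ψ * (charDegree (ψ : G → ℂ) : ℤ) ≤ 0 :=
      mul_nonpos_of_nonpos_of_nonneg hcon h2.le
    linarith
  have hoffeq : contrib 2 χ ψ = (2 : ℤ) ^ (a - 1) := by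
    rcases sq_eq_sq_iff_eq_or_eq_neg.mp hoff with h | h
    · exact h
    · exfalso
      rw [h] at hoffpos
      linarith
  have hpc : ((2 : ℂ) ^ (a - 1)) ≠ 0 := pow_ne_zero _ (by norm_num)
  have h2ac : ((2 : ℂ) ^ a) = 2 * (2 : ℂ) ^ (a - 1) := by
    rw [← pow_succ']
    congr 1
    omega
  refine ⟨χ, ψ, hψχ.symm, hβeq, ?_, ?_⟩
  · intro g hg
    have h := hexp g
    unfold tld at h
    rw [if_neg hg, hdiag, hoffeq, ← ha] at h
    push_cast at h
    rw [h2ac] at h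
    have h3 : (2 : ℂ) ^ (a - 1) * ((χ : G → ℂ) g) = (2 : ℂ) ^ (a - 1) * ((ψ : G → ℂ) g) := by
      linear_combination h
    exact mul_left_cancel₀ hpc h3
  · intro g hg
    have h := hexp g
    unfold tld at h
    rw [if_pos hg, hdiag, hoffeq] at h
    push_cast at h
    have h3 : (2 : ℂ) ^ (a - 1) * ((χ : G → ℂ) g + (ψ : G → ℂ) g) = (2 : ℂ) ^ (a - 1) * 0 := by
      rw [mul_zero]
      linear_combination -h
    exact mul_left_cancel₀ hpc h3

end Cfsg.Agent.Lib.Helper79
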