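/-
Characters over a common constituent with abelian quotient are twists of each other by a
linear character of the quotient (no invariance assumption) (helper79).
-/
import Mathlib
import Cfsg.Agent.Lib.Helper75.AbelianQuot
import Cfsg.Agent.Lib.Helper80.CharBasic
import Cfsg.Agent.Lib.Helper81.IrrTwist
import Cfsg.Agent.Lib.Helper81.Gallagher
import Cfsg.Agent.S0148

set_option autoImplicit false

namespace Cfsg.Agent.Lib.Helper79

open Cfsg Cfsg.Agent.Lib.Helper81 Cfsg.Agent.Lib.Helper75 Cfsg.Agent.Lib.Helper78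
open scoped ComplexConjugate

universe u

section Common

variable {T : Type u} [Group T] [Fintype T]

/-- two characters with nonzero inner product share an irreducible constituent -/
theorem exists_common_constituent {A B : T → ℂ} (hA : IsCharacter T A)
    (h : classInner A B ≠ 0) :
    ∃ μ : IrrCharacter T, classInner A (μ : T → ℂ) ≠ 0 ∧ classInner B (μ : T → ℂ) ≠ 0 := by
  classical
  have hdec := IsCharacter.eq_sum_irr hA
  rw [hdec, classInner_sum_left] at h
  obtain ⟨μ, -, hμ⟩ := Finset.exists_ne_zero_of_sum_ne_zero h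
  rw [classInner_smul_left] at hμ
  refine ⟨μ, left_ne_zero_of_mul hμ, ?_⟩
  have h2 := right_ne_zero_of_mul hμ
  intro h3
  apply h2
  rw [← classInner_conj_symm, h3, map_zero]

/-- two characters with a common irreducible constituent have nonzero inner product -/
theorem classInner_ne_zero_of_common {A B : T → ℂ} (hA : IsCharacter T A) (hB : IsCharacter T B)
    (θ : IrrCharacter T) (ha : classInner A (θ : T → ℂ) ≠ 0) (hb : classInner B (θ : T → ℂ) ≠ 0) :
    classInner A B ≠ 0 := by
  classical
  choose f hf using fun φ : IrrCharacter T => IsCharacter.exists_nat_classInner hA φ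
  choose g hg using fun φ : IrrCharacter T => IsCharacter.exists_nat_classInner hB φ
  have hdec := IsCharacter.eq_sum_irr hA
  have h1 : classInner A B = ((∑ φ : IrrCharacter T, f φ * g φ : ℕ) : ℂ) := by
    conv_lhs => rw [hdec]
    rw [classInner_sum_left]
    push_cast
    apply Finset.sum_congr rfl
    intro φ _
    rw [classInner_smul_left, hf, ← classInner_conj_symm, hg, Complex.conj_natCast]
  rw [h1]
  have h2 : f θ * g θ ≤ ∑ φ : IrrCharacter T, f φ * g φ :=
    Finset.single_le_sum (f := fun φ => f φ * g φ) (fun _ _ => Nat.zero_le _) (Finset.mem_univ θ)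
  have hfθ : f θ ≠ 0 := by
    intro h0
    apply ha
    rw [hf, h0, Nat.cast_zero]
  have hgθ : g θ ≠ 0 := by
    intro h0
    apply hb
    rw [hg, h0, Nat.cast_zero]
  have h3 : 0 < f θ * g θ := Nat.mul_pos (Nat.pos_of_ne_zero hfθ) (Nat.pos_of_ne_zero hgθ)
  have h4 : (∑ φ : IrrCharacter T, f φ * g φ) ≠ 0 := by omega
  exact_mod_cast h4

end Common

section Twist

variable {T : Type u} [Group T] [Fintype T] (N : Subgroup T) [hN : N.Normal] [Fintype N]

/-- **Transitivity of the twisting action**: with `T / N` abelian, any two irreducible characters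
of `T` over the same `θ ∈ Irr(N)` differ by a linear character of `T / N`. -/
theorem exists_monoidHom_twist (hab : ∀ x y : T, x * y * x⁻¹ * y⁻¹ ∈ N) (θ : IrrCharacter N)
    (χ χ' : IrrCharacter T)
    (h : classInner (fun n : N => (χ : T → ℂ) n) (θ : N → ℂ) ≠ 0)
    (h' : classInner (fun n : N => (χ' : T → ℂ) n) (θ : N → ℂ) ≠ 0) :
    ∃ ν : T →* ℂˣ, (∀ n : N, ν n = 1) ∧
      ∀ t, (χ' : T → ℂ) t = ((ν t : ℂˣ) : ℂ) * (χ : T → ℂ) t := by
  classical
  have hχc := IsIrrCharacter.isCharacter χ.2
  have hχ'c := IsIrrCharacter.isCharacter χ'.2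
  have hAN : IsCharacter N (fun n : N => (χ' : T → ℂ) n) := isCharacter_res N hχ'c
  have hBN : IsCharacter N (fun n : N => (χ : T → ℂ) n) := isCharacter_res N hχc
  have h1 : classInner (fun n : N => (χ' : T → ℂ) n) (fun n : N => (χ : T → ℂ) n) ≠ 0 :=
    classInner_ne_zero_of_common hAN hBN θ h' h
  set ψ : T → ℂ := (fun t => conj ((χ : T → ℂ) t)) * (χ' : T → ℂ) with hψ
  have hψc : IsCharacter T ψ :=
    Cfsg.Agent.Lib.Helper80.isCharacter_mul (isCharacter_conj hχc) hχ'c
  have hψcl := IsCharacter.isClassFunction hψc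
  have h2 : classInner (fun n : N => ψ n) (fun _ : N => (1 : ℂ)) =
      classInner (fun n : N => (χ' : T → ℂ) n) (fun n : N => (χ : T → ℂ) n) := by
    unfold classInner
    congr 1
    apply Finset.sum_congr rfl
    intro n _
    simp only [hψ, Pi.mul_apply, map_one, mul_one]
    ring
  have hIND₁ : IsCharacter T (indFun N (fun _ : N => (1 : ℂ))) :=
    Cfsg.Agent.S0148.result N _ (IsIrrCharacter.isCharacter (isIrrCharacter_one (G := N)))
  have h3 : classInner (indFun N (fun _ : N => (1 : ℂ))) ψ ≠ 0 := by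
    rw [frobenius_reciprocity N _ hψcl, ← classInner_conj_symm, h2]
    intro h0
    apply h1
    have := congrArg conj h0
    simpa using this
  obtain ⟨μ, hμ1, hμ2⟩ := exists_common_constituent hIND₁ h3
  obtain ⟨ν, hν, hνN⟩ := exists_monoidHom_of_constituent_indFun_one N hab μ.2 hμ1
  refine ⟨ν, hνN, ?_⟩
  have hirr : IsIrrCharacter T (fun t => ((ν t : ℂˣ) : ℂ) * (χ : T → ℂ) t) :=
    isIrrCharacter_monoidHom_mul ν χ.2
  have h4 : classInner ψ (μ : T → ℂ) =
      classInner (χ' : T → ℂ) (fun t => ((ν t : ℂˣ) : ℂ) * (χ : T → ℂ) t) := by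
    unfold classInner
    congr 1
    apply Finset.sum_congr rfl
    intro t _
    rw [hψ, Pi.mul_apply, hν t, map_mul]
    ring
  rw [h4] at hμ2
  have heq : (χ' : T → ℂ) = fun t => ((ν t : ℂˣ) : ℂ) * (χ : T → ℂ) t := by
    by_contra hne
    exact hμ2 (classInner_irr_ne χ'.2 hirr hne)
  intro t
  exact congrFun heq t

end Twist

end Cfsg.Agent.Lib.Helper79
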