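/-
Small auxiliary facts for counting with Brauer's formula `k(B) = Σ_x Σ_{b^G = B} l(b)` (helper79).
-/
import Mathlib
import Cfsg.Agent.Lib.Helper78.BlockRankDefect

set_option autoImplicit false

namespace Cfsg.Agent.Lib.Helper79

open Cfsg Cfsg.Agent.Lib.Helper16 Cfsg.Agent.Lib.Helper78

section rank

variable {H : Type*} [Group H] [Finite H]

/-- a nonempty set of irreducible characters has positive `p`-regular rank -/
theorem one_le_blockRank (p : ℕ) [Fact p.Prime] {β : Set (IrrCharacter H)} (hne : β.Nonempty) :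
    1 ≤ blockRank p β := by
  classical
  have : Fintype H := Fintype.ofFinite H
  obtain ⟨ξ, hξ⟩ := hne
  rw [← blockRank_singleton p ξ]
  unfold blockRank
  apply Submodule.finrank_mono
  apply Submodule.span_mono
  apply Set.image_mono
  exact Set.singleton_subset_iff.mpr hξ

end rank

/-- two distinct members of a finite index set -/
theorem add_le_finsum_mem_of_ne {α : Type*} {S : Set α} (hS : S.Finite) (g : α → ℕ) {a b : α}
    (ha : a ∈ S) (hb : b ∈ S) (hab : a ≠ b) : g a + g b ≤ ∑ᶠ i ∈ S, g i := by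
  classical
  rw [finsum_mem_eq_finite_toFinset_sum _ hS]
  have hsub : ({a, b} : Finset α) ⊆ hS.toFinset := by
    intro i hi
    rw [Finset.mem_insert, Finset.mem_singleton] at hi
    rw [Set.Finite.mem_toFinset]
    rcases hi with rfl | rfl
    · exact ha
    · exact hb
  calc g a + g b = ∑ i ∈ ({a, b} : Finset α), g i := (Finset.sum_pair hab).symm
    _ ≤ ∑ i ∈ hS.toFinset, g i := Finset.sum_le_sum_of_subset hsub

theorem le_finsum_mem {α : Type*} {S : Set α} (hS : S.Finite) (g : α → ℕ) {a : α}
    (ha : a ∈ S) : g a ≤ ∑ᶠ i ∈ S, g i := by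
  classical
  rw [finsum_mem_eq_finite_toFinset_sum _ hS]
  exact Finset.single_le_sum (fun _ _ => Nat.zero_le _) ((Set.Finite.mem_toFinset hS).mpr ha)

section reps

variable {G : Type*} [Group G] [Finite G]

omit [Finite G] in
theorem orderOf_eq_of_isConj {a b : G} (h : IsConj a b) : orderOf a = orderOf b := by
  obtain ⟨c, hc⟩ := isConj_iff.mp h
  rw [← hc]
  have := orderOf_injective (MulAut.conj c).toMonoidHom (MulAut.conj c).injective a
  simpa [MulAut.conj_apply] using this.symm

/-- a set of representatives of the classes of `p`-elements containing a given `p`-element -/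
theorem exists_pElement_reps (p : ℕ) (x : G) (hx : ∃ k : ℕ, orderOf x = p ^ k) :
    ∃ X : Finset G, x ∈ X ∧ (1 : G) ∈ X ∧ (∀ x' ∈ X, ∃ k : ℕ, orderOf x' = p ^ k) ∧
      ∀ g : G, (∃ k : ℕ, orderOf g = p ^ k) → ∃! x', x' ∈ X ∧ IsConj g x' := by
  classical
  have : Fintype G := Fintype.ofFinite G
  set rep : ConjClasses G → G := fun c => if c = ConjClasses.mk x then x else Quotient.out c
    with hrepdef
  have hrep : ∀ c : ConjClasses G, ConjClasses.mk (rep c) = c := by
    intro c
    rw [hrepdef]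
    dsimp only
    split_ifs with h
    · exact h.symm
    · exact Quotient.out_eq c
  set X : Finset G := ((Finset.univ : Finset (ConjClasses G)).filter
    (fun c => ∃ k : ℕ, orderOf (rep c) = p ^ k)).image rep with hX
  have hmemX : ∀ g : G, (∃ k : ℕ, orderOf g = p ^ k) → rep (ConjClasses.mk g) ∈ X := by
    intro g hg
    rw [hX, Finset.mem_image]
    refine ⟨ConjClasses.mk g, ?_, rfl⟩
    rw [Finset.mem_filter]
    refine ⟨Finset.mem_univ _, ?_⟩
    have h1 : IsConj (rep (ConjClasses.mk g)) g := ConjClasses.mk_eq_mk_iff_isConj.mp (hrep _)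
    rw [orderOf_eq_of_isConj h1]
    exact hg
  refine ⟨X, ?_, ?_, ?_, ?_⟩
  · have h1 := hmemX x hx
    have h2 : rep (ConjClasses.mk x) = x := by
      rw [hrepdef]
      dsimp only
      rw [if_pos rfl]
    rwa [h2] at h1
  · have h1 := hmemX 1 ⟨0, by rw [orderOf_one, pow_zero]⟩
    have h2 : IsConj (rep (ConjClasses.mk (1 : G))) 1 :=
      ConjClasses.mk_eq_mk_iff_isConj.mp (hrep _)
    rw [isConj_one_left] at h2
    rwa [h2] at h1
  · intro x' hx'
    rw [hX, Finset.mem_image] at hx'
    obtain ⟨c, hc, rfl⟩ := hx'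
    rw [Finset.mem_filter] at hc
    exact hc.2
  · intro g hg
    refine ⟨rep (ConjClasses.mk g), ⟨hmemX g hg, ?_⟩, ?_⟩
    · exact (ConjClasses.mk_eq_mk_iff_isConj.mp (hrep _)).symm
    · rintro x' ⟨hx'X, hx'g⟩
      rw [hX, Finset.mem_image] at hx'X
      obtain ⟨c, -, rfl⟩ := hx'X
      have h1 : ConjClasses.mk g = ConjClasses.mk (rep c) :=
        ConjClasses.mk_eq_mk_iff_isConj.mpr hx'g
      rw [hrep c] at h1
      rw [h1]

end reps

end Cfsg.Agent.Lib.Helper79
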