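import Cfsg.Agent.Lib.Helper79.RankMap

/-!
# Rank of a matrix congruent to a product of dual families (helper79)
-/

set_option autoImplicit false

namespace Cfsg.Agent.Lib.Helper79

open Matrix

/-- field version: if `A * Λ = 1` (with `A : β × ι`, `Λ : ι × β`), then `Λ * A` has rank `|β|`. -/
theorem rank_mul_of_dual {k : Type*} [Field k] {β ι : Type*} [Fintype β] [Fintype ι]
    [DecidableEq β] [DecidableEq ι] (Λ : Matrix ι β k) (A : Matrix β ι k)
    (h : A * Λ = 1) : (Λ * A).rank = Fintype.card β := by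
  apply le_antisymm
  · exact (rank_mul_le_left Λ A).trans (rank_le_card_width Λ)
  · have h1 : A * (Λ * A) * Λ = 1 := by
      rw [← Matrix.mul_assoc, h, Matrix.one_mul, h]
    have h2 : (A * (Λ * A) * Λ).rank ≤ (Λ * A).rank :=
      (rank_mul_le_left _ _).trans (rank_mul_le_right _ _)
    rw [h1, rank_one] at h2
    exact h2

/-- local version: a matrix of naturals, which after scaling the columns by units is congruent
modulo a maximal ideal of residue characteristic `p` to a unit multiple of `Λᵀ A` for dual families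
`Λ, A`, has rank `|β|` modulo `p`. -/
theorem rank_zmod_eq_card_of_dual {R : Type*} [CommRing R] (𝔪 : Ideal R) [hmax : 𝔪.IsMaximal]
    (p : ℕ) [Fact p.Prime] (hp𝔪 : (p : R) ∈ 𝔪)
    {β ι : Type*} [Fintype β] [Fintype ι] [DecidableEq β] [DecidableEq ι]
    (Λ A : β → ι → R) (c : ι → ℕ) (hc : ∀ j, ¬ p ∣ c j) (u : ℕ) (hu : ¬ p ∣ u)
    (q : ι → ι → ℕ)
    (h1 : ∀ i j, ((c j * q i j : ℕ) : R) - (u : R) * ∑ B : β, Λ B i * A B j ∈ 𝔪)
    (h2 : ∀ B B' : β, (∑ i : ι, A B i * Λ B' i) - (if B = B' then 1 else 0) ∈ 𝔪) :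
    (Matrix.of fun i j : ι => ((q i j : ℕ) : ZMod p)).rank = Fintype.card β := by
  classical
  have hp : p.Prime := Fact.out
  let _ : Field (R ⧸ 𝔪) := Ideal.Quotient.field 𝔪
  set π : R →+* R ⧸ 𝔪 := Ideal.Quotient.mk 𝔪 with hπ
  have hchar : CharP (R ⧸ 𝔪) p := by
    rw [CharP.charP_iff_prime_eq_zero hp]
    have : ((p : R ⧸ 𝔪)) = π (p : R) := by simp
    rw [this]
    exact Ideal.Quotient.eq_zero_iff_mem.mpr hp𝔪
  set φ : ZMod p →+* R ⧸ 𝔪 := ZMod.castHom (dvd_refl p) (R ⧸ 𝔪) with hφ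
  set Λk : Matrix ι β (R ⧸ 𝔪) := Matrix.of fun i B => π (Λ B i) with hΛk
  set Ak : Matrix β ι (R ⧸ 𝔪) := Matrix.of fun B j => π (A B j) with hAk
  have hdual : Ak * Λk = 1 := by
    ext B B'
    rw [Matrix.mul_apply, Matrix.one_apply]
    simp only [hΛk, hAk, Matrix.of_apply]
    have h3 : ∑ i : ι, π (A B i) * π (Λ B' i) = π (∑ i : ι, A B i * Λ B' i) := by
      rw [map_sum]
      apply Finset.sum_congr rfl
      intro i _
      rw [map_mul]
    rw [h3]
    have h4 : π (∑ i : ι, A B i * Λ B' i) = π (if B = B' then 1 else 0) :=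
      Ideal.Quotient.eq.mpr (h2 B B')
    rw [h4]
    split_ifs <;> simp
  have hrank := rank_mul_of_dual Λk Ak hdual
  have hcne : ∀ j, ((c j : ℕ) : R ⧸ 𝔪) ≠ 0 := by
    intro j h0
    exact hc j ((CharP.cast_eq_zero_iff (R ⧸ 𝔪) p (c j)).mp h0)
  have hune : ((u : ℕ) : R ⧸ 𝔪) ≠ 0 := by
    intro h0
    exact hu ((CharP.cast_eq_zero_iff (R ⧸ 𝔪) p u).mp h0)
  set w : ι → R ⧸ 𝔪 := fun j => (u : R ⧸ 𝔪) * ((c j : ℕ) : R ⧸ 𝔪)⁻¹ with hw
  set Q : Matrix ι ι (ZMod p) := Matrix.of fun i j : ι => ((q i j : ℕ) : ZMod p) with hQ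
  have hQφ : Q.map φ = (Λk * Ak) * Matrix.diagonal w := by
    ext i j
    rw [Matrix.mul_diagonal, Matrix.mul_apply]
    simp only [hQ, Matrix.map_apply, Matrix.of_apply, map_natCast, hΛk, hAk, hw]
    have h3 : ∑ B : β, π (Λ B i) * π (A B j) = π (∑ B : β, Λ B i * A B j) := by
      rw [map_sum]
      apply Finset.sum_congr rfl
      intro B _
      rw [map_mul]
    rw [h3]
    have h4 : π (((c j * q i j : ℕ) : R)) = π ((u : R) * ∑ B : β, Λ B i * A B j) :=
      Ideal.Quotient.eq.mpr (h1 i j)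
    rw [map_mul, map_natCast, map_natCast, Nat.cast_mul] at h4
    have h5 : ((q i j : ℕ) : R ⧸ 𝔪) = ((c j : ℕ) : R ⧸ 𝔪)⁻¹ *
        ((u : R ⧸ 𝔪) * π (∑ B : β, Λ B i * A B j)) := by
      rw [← h4, ← mul_assoc, inv_mul_cancel₀ (hcne j), one_mul]
    rw [h5]
    ring
  have hdet : IsUnit (Matrix.diagonal w).det := by
    rw [Matrix.det_diagonal]
    apply IsUnit.mk0
    rw [Finset.prod_ne_zero_iff]
    intro j _
    exact mul_ne_zero hune (inv_ne_zero (hcne j))
  have h6 : (Q.map φ).rank = Fintype.card β := by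
    rw [hQφ, rank_mul_eq_left_of_isUnit_det _ _ hdet, hrank]
  rw [← h6, rank_map_field]

end Cfsg.Agent.Lib.Helper79
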