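/-
Glauberman's lemma (Isaacs 13.8/13.9) in relative form (helper79):
a group `K = G S` acting on a set, `N ≤ G` normal subgroups, `N` fixing a point `α`
whose `G`-orbit is `S`-stable, `(|G : N|, |S|) = 1` and `S` or `G / N` solvable:
then `S` fixes a point of the `G`-orbit of `α`.
-/
import Mathlib
import Cfsg.Agent.Lib.Helper54.Coprime
import Cfsg.Agent.S4176

set_option autoImplicit false

namespace Cfsg.Agent.Lib.Helper79

open Cfsg.Agent.Lib.Helper54
open scoped Pointwise

/-- **Glauberman's lemma**, relative form. -/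
theorem glauberman_fixed_point {K X : Type*} [Group K] [Finite K] [MulAction K X]
    (N G S : Subgroup K) [hN : N.Normal] [hG : G.Normal] (hNG : N ≤ G) (hGS : G ⊔ S = ⊤)
    (hcop : (N.relIndex G).Coprime (Nat.card S))
    (hsolv : Group.IsSolvable S ∨ Group.IsSolvable (G.map (QuotientGroup.mk' N)))
    (α : X) (hNα : ∀ n ∈ N, n • α = α)
    (hS : ∀ s ∈ S, ∃ g ∈ G, g • α = s • α) :
    ∃ g ∈ G, ∀ s ∈ S, s • (g • α) = g • α := by
  classical
  set π : K →* K ⧸ N := QuotientGroup.mk' N with hπ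
  have hπs : Function.Surjective π := QuotientGroup.mk'_surjective N
  have hker : π.ker = N := QuotientGroup.ker_mk' N
  set Gb : Subgroup (K ⧸ N) := G.map π with hGb
  set Sb : Subgroup (K ⧸ N) := S.map π with hSb
  set T : Subgroup K := MulAction.stabilizer K α with hT
  set Tb : Subgroup (K ⧸ N) := T.map π with hTb
  have hNT : N ≤ T := fun n hn => MulAction.mem_stabilizer_iff.mpr (hNα n hn)
  have hGbn : Gb.Normal := Subgroup.Normal.map hG π hπs
  have hGbnorm : ∀ M : Subgroup (K ⧸ N), M ≤ Subgroup.normalizer (Gb : Set (K ⧸ N)) := by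
    intro M
    rw [Subgroup.normalizer_eq_top]
    exact le_top
  -- card Gb
  have hcGb : Nat.card Gb = N.relIndex G := by
    have h1 : Gb.comap π = G := by
      rw [hGb, Subgroup.comap_map_eq_self]
      rw [hker]; exact hNG
    have h2 := Cfsg.Agent.S4176.card_comap_mk' N Gb
    rw [← hπ, h1] at h2
    have h3 := card_mul_relIndex hNG
    rw [h2] at h3
    exact (Nat.eq_of_mul_eq_mul_left Nat.card_pos h3).symm
  have hcSb : Nat.card Sb ∣ Nat.card S := Subgroup.card_map_dvd S π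
  have hcop' : (Nat.card Gb).Coprime (Nat.card Sb) := by
    rw [hcGb]
    exact Nat.Coprime.coprime_dvd_right hcSb hcop
  have hsup : Gb ⊔ Sb = ⊤ := by
    rw [hGb, hSb, ← Subgroup.map_sup, hGS, Subgroup.map_top_of_surjective π hπs]
  have hdisj : Gb ⊓ Sb = ⊥ := (Subgroup.disjoint_of_coprime_natCard hcop').eq_bot
  have hcardQ : Nat.card Gb * Nat.card Sb = Nat.card (⊤ : Subgroup (K ⧸ N)) := by
    rw [← hsup]
    exact (card_sup_of_le_normalizer (hGbnorm Sb) hdisj).symm
  -- K = G T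
  have hGT : G ⊔ T = ⊤ := by
    rw [eq_top_iff]
    intro k _
    have hk : k ∈ G ⊔ S := by rw [hGS]; trivial
    have hk' : k ∈ ((G ⊔ S : Subgroup K) : Set K) := hk
    rw [Subgroup.normal_mul] at hk'
    obtain ⟨g, hg, s, hs, rfl⟩ := Set.mem_mul.mp hk'
    obtain ⟨g', hg', hgs⟩ := hS s hs
    have h1 : (g * g')⁻¹ * (g * s) ∈ T := by
      rw [hT, MulAction.mem_stabilizer_iff, mul_smul, mul_smul, ← hgs, ← mul_smul, ← mul_smul]
      simp
    have h2 : g * s = (g * g') * ((g * g')⁻¹ * (g * s)) := by group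
    rw [h2]
    exact Subgroup.mul_mem _ (Subgroup.mem_sup_left (G.mul_mem hg hg')) (Subgroup.mem_sup_right h1)
  have hsupT : Tb ⊔ Gb = ⊤ := by
    rw [sup_comm, hGb, hTb, ← Subgroup.map_sup, hGT, Subgroup.map_top_of_surjective π hπs]
  have hrel : Gb.relIndex Tb = Nat.card Sb := by
    have h1 := relIndex_sup_of_le_normalizer (hGbnorm Tb)
    rw [hsupT, Subgroup.relIndex_top_right] at h1
    have h2 := Gb.card_mul_index
    have h3 : Nat.card (⊤ : Subgroup (K ⧸ N)) = Nat.card (K ⧸ N) := Subgroup.card_top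
    rw [h3, ← h2] at hcardQ
    rw [← h1]
    exact (Nat.eq_of_mul_eq_mul_left Nat.card_pos hcardQ).symm
  have hcopT : (Nat.card (Gb ⊓ Tb : Subgroup (K ⧸ N))).Coprime (Gb.relIndex Tb) := by
    rw [hrel]
    exact Nat.Coprime.coprime_dvd_left (Subgroup.card_dvd_of_le inf_le_left) hcop'
  obtain ⟨Hb, hHbT, hHbcard⟩ := exists_complement_rel Tb Gb (hGbnorm Tb) hcopT
  rw [hrel] at hHbcard
  have hsolv' : Group.IsSolvable Sb ∨ Group.IsSolvable Gb := by
    rcases hsolv with h | h
    · left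
      have := h
      exact Group.isSolvable_of_surjective (π.subgroupMap_surjective S)
    · right; exact h
  obtain ⟨l, hl, hconj⟩ := sz_conj_rel (⊤ : Subgroup (K ⧸ N)) Gb Sb Hb le_top
    (by rw [Subgroup.normalizer_eq_top]) le_top le_top hcardQ hHbcard hcop' hsolv'
  obtain ⟨g, hg, rfl⟩ := Subgroup.mem_map.mp hl
  refine ⟨g⁻¹, G.inv_mem hg, ?_⟩
  intro s hs
  have h1 : π (g * s * g⁻¹) ∈ Tb := by
    apply hHbT
    rw [← hconj, mem_conj_smul_iff]
    have : (π g)⁻¹ * π (g * s * g⁻¹) * π g = π s := by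
      rw [← map_inv, ← map_mul, ← map_mul]
      congr 1
      group
    rw [this]
    exact Subgroup.mem_map_of_mem π hs
  have h2 : g * s * g⁻¹ ∈ T := by
    have h3 : g * s * g⁻¹ ∈ Tb.comap π := Subgroup.mem_comap.mpr h1
    rw [hTb, Subgroup.comap_map_eq_self] at h3
    · exact h3
    · rw [hker]; exact hNT
  rw [hT, MulAction.mem_stabilizer_iff] at h2
  have h4 : s * g⁻¹ = g⁻¹ * (g * s * g⁻¹) := by group
  rw [← mul_smul, h4, mul_smul, h2]

/-- a finite group of exponent dividing `m` has order coprime to any `n` coprime to `m` -/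
theorem coprime_card_of_forall_pow_eq_one {A : Type*} [Group A] [Finite A] {m n : ℕ}
    (hexp : ∀ x : A, x ^ m = 1) (hmn : m.Coprime n) : (Nat.card A).Coprime n := by
  classical
  by_contra h
  obtain ⟨p, hp, hpA, hpn⟩ := Nat.Prime.not_coprime_iff_dvd.mp h
  have : Fact p.Prime := ⟨hp⟩
  obtain ⟨x, hx⟩ := exists_prime_orderOf_dvd_card' p hpA
  have h1 : orderOf x ∣ m := orderOf_dvd_of_pow_eq_one (hexp x)
  rw [hx] at h1
  exact (Nat.Prime.not_coprime_iff_dvd.mpr ⟨p, hp, h1, hpn⟩) hmn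

/-- **Glauberman's lemma** for two subgroups `A`, `B` of a group acting on a set, `B` normalizing
`A`, of coprime orders. -/
theorem glauberman_fixed_point_sub {P X : Type*} [Group P] [Finite P] [MulAction P X]
    (A B : Subgroup P) (hBA : ∀ b ∈ B, ∀ a ∈ A, b * a * b⁻¹ ∈ A)
    (hcop : (Nat.card A).Coprime (Nat.card B))
    (hsolv : Group.IsSolvable B ∨ Group.IsSolvable A) (α : X)
    (hS : ∀ b ∈ B, ∃ a ∈ A, a • α = b • α) :
    ∃ a ∈ A, ∀ b ∈ B, b • (a • α) = a • α := by
  classical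
  have hAA : ∀ b ∈ A, ∀ a ∈ A, b * a * b⁻¹ ∈ A :=
    fun b hb a ha => A.mul_mem (A.mul_mem hb ha) (A.inv_mem hb)
  have hle : A ⊔ B ≤ Subgroup.normalizer (A : Set P) := by
    refine sup_le ?_ ?_
    · intro b hb
      rw [Subgroup.mem_normalizer_iff]
      intro a
      constructor
      · exact hAA b hb a
      · intro h
        have h1 := hAA b⁻¹ (A.inv_mem hb) _ h
        simpa [mul_assoc] using h1
    · intro b hb
      rw [Subgroup.mem_normalizer_iff]
      intro a
      constructor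
      · exact hBA b hb a
      · intro h
        have h1 := hBA b⁻¹ (B.inv_mem hb) _ h
        simpa [mul_assoc] using h1
  have hA'n : (A.subgroupOf (A ⊔ B)).Normal := Subgroup.normal_subgroupOf_of_le_normalizer hle
  have hGS : A.subgroupOf (A ⊔ B) ⊔ B.subgroupOf (A ⊔ B) = ⊤ := by
    rw [← Subgroup.subgroupOf_sup le_sup_left le_sup_right, Subgroup.subgroupOf_self]
  have eA := Subgroup.subgroupOfEquivOfLe (le_sup_left : A ≤ A ⊔ B)
  have eB := Subgroup.subgroupOfEquivOfLe (le_sup_right : B ≤ A ⊔ B)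
  have hcop' : ((⊥ : Subgroup ↥(A ⊔ B)).relIndex (A.subgroupOf (A ⊔ B))).Coprime
      (Nat.card (B.subgroupOf (A ⊔ B))) := by
    rw [Subgroup.relIndex_bot_left, Nat.card_congr eA.toEquiv, Nat.card_congr eB.toEquiv]
    exact hcop
  have hsolv' : Group.IsSolvable (B.subgroupOf (A ⊔ B)) ∨
      Group.IsSolvable ((A.subgroupOf (A ⊔ B)).map
        (QuotientGroup.mk' (⊥ : Subgroup ↥(A ⊔ B)))) := by
    rcases hsolv with h | h
    · left
      have := h
      exact Group.isSolvable_of_isSolvable_injective (f := eB.toMonoidHom) eB.injective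
    · right
      have := h
      have h1 : Group.IsSolvable (A.subgroupOf (A ⊔ B)) :=
        Group.isSolvable_of_isSolvable_injective (f := eA.toMonoidHom) eA.injective
      exact Group.isSolvable_of_surjective
        ((QuotientGroup.mk' (⊥ : Subgroup ↥(A ⊔ B))).subgroupMap_surjective _)
  obtain ⟨g, hg, hfix⟩ := glauberman_fixed_point (⊥ : Subgroup ↥(A ⊔ B)) (A.subgroupOf (A ⊔ B))
    (B.subgroupOf (A ⊔ B)) bot_le hGS hcop' hsolv' α
    (fun n hn => by rw [Subgroup.mem_bot.mp hn, one_smul])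
    (fun s hs => by
      obtain ⟨a, ha, hae⟩ := hS (s : P) hs
      exact ⟨⟨a, Subgroup.mem_sup_left ha⟩, ha, hae⟩)
  refine ⟨(g : P), hg, ?_⟩
  intro b hb
  exact hfix ⟨b, Subgroup.mem_sup_right hb⟩ hb

end Cfsg.Agent.Lib.Helper79
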