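/-
Action of a subgroup `L` normalizing `N` (inside an ambient group `Γ`) on `IrrCharacter N`
(helper79), with Clifford transitivity for `N ≤ G`, `N.subgroupOf G` normal.
-/
import Mathlib
import Cfsg.Prelude.Def_Characters
import Cfsg.Agent.Lib.Helper81.IrrTransport
import Cfsg.Agent.Lib.Helper75.Clifford
import Cfsg.Agent.Lib.Helper78.CharOrtho

set_option autoImplicit false

namespace Cfsg.Agent.Lib.Helper79

open Cfsg Cfsg.Agent.Lib.Helper81 Cfsg.Agent.Lib.Helper75 Cfsg.Agent.Lib.Helper78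
open scoped ComplexConjugate

variable {Γ : Type*} [Group Γ]

/-- conjugation by `k` as an automorphism of a subgroup it normalizes -/
def conjEquivOf (N : Subgroup Γ) (k : Γ) (h1 : ∀ n ∈ N, k * n * k⁻¹ ∈ N)
    (h2 : ∀ n ∈ N, k⁻¹ * n * k ∈ N) : N ≃* N where
  toFun n := ⟨k * n * k⁻¹, h1 n n.2⟩
  invFun n := ⟨k⁻¹ * n * k, h2 n n.2⟩
  left_inv n := by ext; simp [mul_assoc]
  right_inv n := by ext; simp [mul_assoc]
  map_mul' a b := by ext; simp [mul_assoc]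

theorem inv_conj_mem {N L : Subgroup Γ} (hL : ∀ k ∈ L, ∀ n ∈ N, k * n * k⁻¹ ∈ N)
    {k : Γ} (hk : k ∈ L) {n : Γ} (hn : n ∈ N) : k⁻¹ * n * k ∈ N := by
  simpa using hL k⁻¹ (L.inv_mem hk) n hn

/-- conjugation by `k⁻¹`, for `k ∈ L`, as an automorphism of `N` -/
def conjInvEquiv (N L : Subgroup Γ) (hL : ∀ k ∈ L, ∀ n ∈ N, k * n * k⁻¹ ∈ N) (k : L) : N ≃* N :=
  (conjEquivOf N (k : Γ) (hL k k.2) (fun _ hn => inv_conj_mem hL k.2 hn)).symm

theorem conjInvEquiv_apply (N L : Subgroup Γ) (hL : ∀ k ∈ L, ∀ n ∈ N, k * n * k⁻¹ ∈ N) (k : L)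
    (n : N) : conjInvEquiv N L hL k n = ⟨(k : Γ)⁻¹ * n * k, inv_conj_mem hL k.2 n.2⟩ := rfl

/-- the action of `L` on `IrrCharacter N`: `(k • θ) n = θ (k⁻¹ n k)` -/
@[reducible] noncomputable def normIrrAction (N L : Subgroup Γ)
    (hL : ∀ k ∈ L, ∀ n ∈ N, k * n * k⁻¹ ∈ N) : MulAction L (IrrCharacter N) where
  smul k θ := ⟨fun n => (θ : N → ℂ) ⟨(k : Γ)⁻¹ * n * k, inv_conj_mem hL k.2 n.2⟩,
    isIrrCharacter_comp_mulEquiv θ.2 (conjInvEquiv N L hL k)⟩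
  one_smul θ := by
    apply Subtype.ext
    funext n
    show (θ : N → ℂ) ⟨((1 : L) : Γ)⁻¹ * n * ((1 : L) : Γ), _⟩ = (θ : N → ℂ) n
    apply congrArg
    apply Subtype.ext
    simp
  mul_smul a b θ := by
    apply Subtype.ext
    funext n
    show (θ : N → ℂ) ⟨((a * b : L) : Γ)⁻¹ * n * ((a * b : L) : Γ), _⟩ =
      (θ : N → ℂ) ⟨(b : Γ)⁻¹ * ((a : Γ)⁻¹ * n * a) * b, _⟩
    apply congrArg
    apply Subtype.ext
    simp [mul_assoc]

theorem normIrrAction_smul_apply (N L : Subgroup Γ)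
    (hL : ∀ k ∈ L, ∀ n ∈ N, k * n * k⁻¹ ∈ N) (k : L) (θ : IrrCharacter N) (n : N) :
    (((normIrrAction N L hL).smul k θ : IrrCharacter N) : N → ℂ) n =
      (θ : N → ℂ) ⟨(k : Γ)⁻¹ * n * k, inv_conj_mem hL k.2 n.2⟩ := rfl

/-- elements of `N` act trivially -/
theorem normIrrAction_of_mem (N L : Subgroup Γ)
    (hL : ∀ k ∈ L, ∀ n ∈ N, k * n * k⁻¹ ∈ N) (k : L) (hk : (k : Γ) ∈ N) (θ : IrrCharacter N) :
    (normIrrAction N L hL).smul k θ = θ := by
  apply Subtype.ext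
  funext n
  rw [normIrrAction_smul_apply]
  have h := isClassFunction_irr θ n (⟨(k : Γ), hk⟩⁻¹ : N)
  rw [← h]
  apply congrArg
  apply Subtype.ext
  simp

/-- invariance of the multiplicity in a function invariant under `k` -/
theorem classInner_normIrrAction (N L : Subgroup Γ) [Fintype N]
    (hL : ∀ k ∈ L, ∀ n ∈ N, k * n * k⁻¹ ∈ N) (k : L) (f : N → ℂ)
    (hf : ∀ n : N, f ⟨(k : Γ)⁻¹ * n * k, inv_conj_mem hL k.2 n.2⟩ = f n)
    (θ : IrrCharacter N) :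
    classInner f (((normIrrAction N L hL).smul k θ : IrrCharacter N) : N → ℂ) =
      classInner f (θ : N → ℂ) := by
  have h := classInner_comp_equiv_gen (conjInvEquiv N L hL k).toEquiv f (θ : N → ℂ)
  rw [← h]
  congr 1
  funext n
  exact (hf n).symm

end Cfsg.Agent.Lib.Helper79
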