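/-
Glauberman's lemma applied to characters (helper79): Isaacs 13.27
(an `S`-invariant irreducible character of `G` has an `S`-invariant constituent on `N`).
-/
import Mathlib
import Cfsg.Agent.Lib.Helper79.Glauberman
import Cfsg.Agent.Lib.Helper79.NormAct

set_option autoImplicit false

namespace Cfsg.Agent.Lib.Helper79

open Cfsg Cfsg.Agent.Lib.Helper81 Cfsg.Agent.Lib.Helper75 Cfsg.Agent.Lib.Helper78
open scoped ComplexConjugate

variable {Γ : Type*} [Group Γ]

theorem le_normalizer_of_conj {A N : Subgroup Γ} (h : ∀ a ∈ A, ∀ n ∈ N, a * n * a⁻¹ ∈ N) :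
    A ≤ Subgroup.normalizer (N : Set Γ) := by
  intro a ha
  rw [Subgroup.mem_normalizer_iff]
  intro n
  constructor
  · exact h a ha n
  · intro hn
    have h1 := h a⁻¹ (A.inv_mem ha) _ hn
    simpa [mul_assoc] using h1

theorem conj_of_le_normalizer {A N : Subgroup Γ} (h : A ≤ Subgroup.normalizer (N : Set Γ)) :
    ∀ a ∈ A, ∀ n ∈ N, a * n * a⁻¹ ∈ N :=
  fun _ ha n hn => (Subgroup.mem_normalizer_iff.mp (h ha) n).mp hn

theorem conj_mem_of_normal_subgroupOf {G N : Subgroup Γ} (hNG : N ≤ G)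
    (hNn : (N.subgroupOf G).Normal) : ∀ g ∈ G, ∀ n ∈ N, g * n * g⁻¹ ∈ N := by
  intro g hg n hn
  have h := hNn.conj_mem ⟨n, hNG hn⟩ (Subgroup.mem_subgroupOf.mpr hn) ⟨g, hg⟩
  exact Subgroup.mem_subgroupOf.mp h

/-- solvability of `G / N` transported to the image of `G` in `L / N` -/
theorem isSolvable_map_mk' (G N L : Subgroup Γ) (hGL : G ≤ L) [hNn : (N.subgroupOf G).Normal]
    [hNL : (N.subgroupOf L).Normal] (h : Group.IsSolvable (G ⧸ N.subgroupOf G)) :
    Group.IsSolvable ((G.subgroupOf L).map (QuotientGroup.mk' (N.subgroupOf L))) := by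
  set ψ : G →* L ⧸ N.subgroupOf L :=
    (QuotientGroup.mk' (N.subgroupOf L)).comp (Subgroup.inclusion hGL) with hψ
  have hker : N.subgroupOf G ≤ ψ.ker := by
    intro x hx
    rw [MonoidHom.mem_ker, hψ, MonoidHom.comp_apply, QuotientGroup.mk'_apply,
      QuotientGroup.eq_one_iff]
    exact hx
  set ψb : G ⧸ N.subgroupOf G →* L ⧸ N.subgroupOf L :=
    QuotientGroup.lift (N.subgroupOf G) ψ hker with hψb
  have hrange : ψb.range = (G.subgroupOf L).map (QuotientGroup.mk' (N.subgroupOf L)) := by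
    ext y
    constructor
    · rintro ⟨x, rfl⟩
      obtain ⟨g, rfl⟩ := QuotientGroup.mk_surjective x
      refine ⟨Subgroup.inclusion hGL g, ?_, rfl⟩
      exact g.2
    · rintro ⟨k, hk, rfl⟩
      refine ⟨QuotientGroup.mk (⟨(k : Γ), hk⟩ : G), ?_⟩
      rfl
  rw [← hrange]
  exact Group.isSolvable_of_surjective ψb.rangeRestrict_surjective

/-- Clifford: two constituents of `χ|_N` are `G`-conjugate (subgroups of an ambient group) -/
theorem clifford_conj_sub (G N : Subgroup Γ) [Fintype G] [Fintype N] (hNG : N ≤ G)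
    [hNn : (N.subgroupOf G).Normal] (χ : IrrCharacter G) (θ φ : IrrCharacter N)
    (hθ : classInner (fun n : N => (χ : G → ℂ) ⟨n, hNG n.2⟩) (θ : N → ℂ) ≠ 0)
    (hφ : classInner (fun n : N => (χ : G → ℂ) ⟨n, hNG n.2⟩) (φ : N → ℂ) ≠ 0) :
    ∃ g ∈ G, ∀ n n' : N, (n' : Γ) = g * n * g⁻¹ → (φ : N → ℂ) n = (θ : N → ℂ) n' := by
  classical
  let _ : Fintype (N.subgroupOf G) := Fintype.ofFinite _
  set e : N.subgroupOf G ≃* N := Subgroup.subgroupOfEquivOfLe hNG with he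
  have hres : (fun n : N => (χ : G → ℂ) ⟨n, hNG n.2⟩) ∘ e =
      fun n : N.subgroupOf G => (χ : G → ℂ) n := by
    funext n
    rfl
  have hθ₁ : IsIrrCharacter (N.subgroupOf G) ((θ : N → ℂ) ∘ e) :=
    isIrrCharacter_comp_mulEquiv θ.2 e
  have hφ₁ : IsIrrCharacter (N.subgroupOf G) ((φ : N → ℂ) ∘ e) :=
    isIrrCharacter_comp_mulEquiv φ.2 e
  have hc : classInner (fun n : N.subgroupOf G => (χ : G → ℂ) n) ((θ : N → ℂ) ∘ e) ≠ 0 := by
    rw [← hres]
    have h := classInner_comp_equiv_gen e.toEquiv (fun n : N => (χ : G → ℂ) ⟨n, hNG n.2⟩)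
      (θ : N → ℂ)
    intro h0
    apply hθ
    rw [← h]
    exact h0
  have hc' : classInner (fun n : N.subgroupOf G => (χ : G → ℂ) n) ((φ : N → ℂ) ∘ e) ≠ 0 := by
    rw [← hres]
    have h := classInner_comp_equiv_gen e.toEquiv (fun n : N => (χ : G → ℂ) ⟨n, hNG n.2⟩)
      (φ : N → ℂ)
    intro h0
    apply hφ
    rw [← h]
    exact h0
  obtain ⟨g, hg⟩ := clifford_conj (N.subgroupOf G) χ.2 hθ₁ hφ₁ hc hc'
  refine ⟨(g : Γ), g.2, ?_⟩
  intro n n' hn'
  have h1 := congrFun hg (e.symm n)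
  rw [conjFun_apply] at h1
  have h2 : ((φ : N → ℂ) ∘ e) (e.symm n) = (φ : N → ℂ) n := by simp
  rw [h2] at h1
  rw [← h1]
  show (θ : N → ℂ) (e _) = _
  apply congrArg
  apply Subtype.ext
  rw [hn']
  show ((g * (e.symm n : G) * g⁻¹ : G) : Γ) = _
  have : ((e.symm n : N.subgroupOf G) : G) = ⟨(n : Γ), hNG n.2⟩ := by
    apply Subtype.ext
    rfl
  rw [this]
  rfl

end Cfsg.Agent.Lib.Helper79
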