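/-
Going up over an abelian quotient under coprime action (helper79):
`N ≤ G` subgroups of `Γ` with `G / N` abelian, `S` normalizing both with `(|G : N|, |S|) = 1`,
`θ ∈ Irr(N)` `S`-invariant: some `χ ∈ Irr(G | θ)` is `S`-invariant.
-/
import Mathlib
import Cfsg.Agent.Lib.Helper79.GlaubermanChar
import Cfsg.Agent.Lib.Helper79.AbelianOver

set_option autoImplicit false

namespace Cfsg.Agent.Lib.Helper79

open Cfsg Cfsg.Agent.Lib.Helper81 Cfsg.Agent.Lib.Helper75 Cfsg.Agent.Lib.Helper78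
open scoped ComplexConjugate

variable {Γ : Type*} [Group Γ]

/-- transport of multiplicities between `N.subgroupOf G` and `N` -/
theorem classInner_subgroupOf (G N : Subgroup Γ) [Fintype N]
    [Fintype (N.subgroupOf G)] (hNG : N ≤ G) (χ : G → ℂ) (θ : N → ℂ) :
    classInner (fun n : N.subgroupOf G => χ n) (θ ∘ (Subgroup.subgroupOfEquivOfLe hNG)) =
      classInner (fun n : N => χ ⟨n, hNG n.2⟩) θ := by
  have h := classInner_comp_equiv_gen (Subgroup.subgroupOfEquivOfLe hNG).toEquiv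
    (fun n : N => χ ⟨n, hNG n.2⟩) θ
  rw [← h]
  rfl

/-- the group of linear characters trivial on `N₀` -/
def trivOn {G₀ : Type*} [Group G₀] (N₀ : Subgroup G₀) : Subgroup (G₀ →* ℂˣ) where
  carrier := {ν | ∀ n ∈ N₀, ν n = 1}
  mul_mem' := by
    intro a b ha hb n hn
    rw [MonoidHom.mul_apply, ha n hn, hb n hn, mul_one]
  one_mem' := by
    intro n _
    rfl
  inv_mem' := by
    intro a ha n hn
    rw [MonoidHom.inv_apply, ha n hn, inv_one]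

theorem mem_trivOn {G₀ : Type*} [Group G₀] (N₀ : Subgroup G₀) (ν : G₀ →* ℂˣ) :
    ν ∈ trivOn N₀ ↔ ∀ n ∈ N₀, ν n = 1 := Iff.rfl

/-- the irreducible characters of `G` over `θ` -/
abbrev IrrOver (G N : Subgroup Γ) [Fintype N] (hNG : N ≤ G) (θ : IrrCharacter N) : Type _ :=
  {χ : IrrCharacter G // classInner (fun n : N => (χ : G → ℂ) ⟨n, hNG n.2⟩) (θ : N → ℂ) ≠ 0}

/-- twisting by linear characters trivial on `N` acts on `Irr(G | θ)` -/
@[reducible] noncomputable def twistAction (G N : Subgroup Γ) [Finite G] [Fintype N] (hNG : N ≤ G)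
    (θ : IrrCharacter N) : MulAction (trivOn (N.subgroupOf G)) (IrrOver G N hNG θ) where
  smul ν χ := ⟨⟨fun g => (((ν : G →* ℂˣ) g : ℂˣ) : ℂ) * (χ.1 : G → ℂ) g,
      isIrrCharacter_monoidHom_mul (ν : G →* ℂˣ) χ.1.2⟩, by
    have h : (fun n : N => (((ν : G →* ℂˣ) ⟨n, hNG n.2⟩ : ℂˣ) : ℂ) * (χ.1 : G → ℂ) ⟨n, hNG n.2⟩) =
        fun n : N => (χ.1 : G → ℂ) ⟨n, hNG n.2⟩ := by
      funext n
      have h1 : (ν : G →* ℂˣ) ⟨n, hNG n.2⟩ = 1 := ν.2 ⟨n, hNG n.2⟩ n.2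
      rw [h1, Units.val_one, one_mul]
    show classInner (fun n : N => (((ν : G →* ℂˣ) ⟨n, hNG n.2⟩ : ℂˣ) : ℂ) *
      (χ.1 : G → ℂ) ⟨n, hNG n.2⟩) (θ : N → ℂ) ≠ 0
    rw [h]
    exact χ.2⟩
  one_smul χ := by
    apply Subtype.ext
    apply Subtype.ext
    funext g
    show ((((1 : trivOn (N.subgroupOf G)) : G →* ℂˣ) g : ℂˣ) : ℂ) * (χ.1 : G → ℂ) g = _
    simp
  mul_smul a b χ := by
    apply Subtype.ext
    apply Subtype.ext
    funext g
    show ((((a * b : trivOn (N.subgroupOf G)) : G →* ℂˣ) g : ℂˣ) : ℂ) * (χ.1 : G → ℂ) g =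
      (((a : G →* ℂˣ) g : ℂˣ) : ℂ) * ((((b : G →* ℂˣ) g : ℂˣ) : ℂ) * (χ.1 : G → ℂ) g)
    simp [mul_assoc]

/-- the conjugation action of `S` on `Irr(G | θ)` for an `S`-invariant `θ` -/
@[reducible] noncomputable def sAction (G N S : Subgroup Γ) [Fintype N] (hNG : N ≤ G)
    (hnorm : ∀ s ∈ S, ∀ g ∈ G, s * g * s⁻¹ ∈ G) (hNS : ∀ s ∈ S, ∀ n ∈ N, s * n * s⁻¹ ∈ N)
    (θ : IrrCharacter N)
    (hθ : ∀ (s : S) (n : N),
      (θ : N → ℂ) ⟨(s : Γ)⁻¹ * n * s, inv_conj_mem hNS s.2 n.2⟩ = (θ : N → ℂ) n) :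
    MulAction S (IrrOver G N hNG θ) where
  smul s χ := ⟨(normIrrAction G S hnorm).smul s χ.1, by
    have h := classInner_comp_equiv_gen (conjInvEquiv N S hNS s).toEquiv
      (fun n : N => (χ.1 : G → ℂ) ⟨n, hNG n.2⟩) (θ : N → ℂ)
    have h2 : (θ : N → ℂ) ∘ (conjInvEquiv N S hNS s).toEquiv = (θ : N → ℂ) := by
      funext n
      exact hθ s n
    rw [h2] at h
    intro h0
    apply χ.2
    rw [← h]
    exact h0⟩
  one_smul χ := Subtype.ext ((normIrrAction G S hnorm).one_smul χ.1)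
  mul_smul a b χ := Subtype.ext ((normIrrAction G S hnorm).mul_smul a b χ.1)


/-- **Going up over an abelian quotient under coprime action.** -/
theorem exists_invariant_over_of_abelian [Finite Γ] (G S N : Subgroup Γ) [Fintype G] [Fintype N]
    (hnorm : ∀ s ∈ S, ∀ g ∈ G, s * g * s⁻¹ ∈ G) (hNG : N ≤ G)
    (hab : ∀ x ∈ G, ∀ y ∈ G, x * y * x⁻¹ * y⁻¹ ∈ N)
    (hNS : ∀ s ∈ S, ∀ n ∈ N, s * n * s⁻¹ ∈ N) (hcop : (N.relIndex G).Coprime (Nat.card S))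
    (θ : IrrCharacter N)
    (hinv : ∀ s ∈ S, ∀ g g' : N, (g' : Γ) = s * g * s⁻¹ → (θ : N → ℂ) g' = (θ : N → ℂ) g) :
    ∃ χ : IrrCharacter G, classInner (fun n : N => (χ : G → ℂ) ⟨n, hNG n.2⟩) (θ : N → ℂ) ≠ 0 ∧
      ∀ s ∈ S, ∀ g g' : G, (g' : Γ) = s * g * s⁻¹ → (χ : G → ℂ) g' = (χ : G → ℂ) g := by
  classical
  have hN₀ : (N.subgroupOf G).Normal := by
    refine ⟨fun n hn g => ?_⟩
    rw [Subgroup.mem_subgroupOf] at hn ⊢
    have h1 := hab g g.2 n n.2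
    have h2 : ((g * n * g⁻¹ : G) : Γ) = ((g : Γ) * n * (g : Γ)⁻¹ * (n : Γ)⁻¹) * n := by
      simp [mul_assoc]
    rw [h2]
    exact N.mul_mem h1 hn
  let _ : Fintype (N.subgroupOf G) := Fintype.ofFinite _
  have hθ : ∀ (s : S) (n : N),
      (θ : N → ℂ) ⟨(s : Γ)⁻¹ * n * s, inv_conj_mem hNS s.2 n.2⟩ = (θ : N → ℂ) n := by
    intro s n
    symm
    apply hinv (s : Γ) s.2
    show (n : Γ) = s * ((s : Γ)⁻¹ * n * s) * (s : Γ)⁻¹
    group
  let actΛ : MulAction (trivOn (N.subgroupOf G)) (IrrOver G N hNG θ) := twistAction G N hNG θ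
  let actS : MulAction S (IrrOver G N hNG θ) := sAction G N S hNG hnorm hNS θ hθ
  have hΛsmul : ∀ (ν : trivOn (N.subgroupOf G)) (χ : IrrOver G N hNG θ) (g : G),
      ((ν • χ : IrrOver G N hNG θ).1 : G → ℂ) g =
        (((ν : G →* ℂˣ) g : ℂˣ) : ℂ) * (χ.1 : G → ℂ) g := fun ν χ g => rfl
  have hSsmul : ∀ (s : S) (χ : IrrOver G N hNG θ) (g : G),
      ((s • χ : IrrOver G N hNG θ).1 : G → ℂ) g =
        (χ.1 : G → ℂ) ⟨(s : Γ)⁻¹ * g * s, inv_conj_mem hnorm s.2 g.2⟩ := fun s χ g => rfl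
  set ρΛ : trivOn (N.subgroupOf G) →* Equiv.Perm (IrrOver G N hNG θ) :=
    MulAction.toPermHom _ _ with hρΛ
  set ρS : S →* Equiv.Perm (IrrOver G N hNG θ) := MulAction.toPermHom _ _ with hρS
  have hρΛa : ∀ (ν : trivOn (N.subgroupOf G)) (χ : IrrOver G N hNG θ), ρΛ ν χ = ν • χ :=
    fun ν χ => rfl
  have hρSa : ∀ (s : S) (χ : IrrOver G N hNG θ), ρS s χ = s • χ := fun s χ => rfl
  -- nonempty
  have hθ₀ : IsIrrCharacter (N.subgroupOf G) ((θ : N → ℂ) ∘ (Subgroup.subgroupOfEquivOfLe hNG)) :=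
    isIrrCharacter_comp_mulEquiv θ.2 (Subgroup.subgroupOfEquivOfLe hNG)
  obtain ⟨χ₀⟩ : Nonempty (IrrOver G N hNG θ) := by
    obtain ⟨χ, hχ⟩ := exists_classInner_indFun_ne_zero (G := G) (N.subgroupOf G) hθ₀
    rw [frobenius_reciprocity _ _ (isClassFunction_irr χ), ← classInner_conj_symm,
      classInner_subgroupOf G N hNG] at hχ
    refine ⟨⟨χ, ?_⟩⟩
    intro h0
    apply hχ
    rw [h0, map_zero]
  -- transitivity
  have htrans : ∀ χ χ' : IrrOver G N hNG θ, ∃ ν : trivOn (N.subgroupOf G), ν • χ = χ' := by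
    intro χ χ'
    have h1 : classInner (fun n : N.subgroupOf G => (χ.1 : G → ℂ) n)
        ((θ : N → ℂ) ∘ (Subgroup.subgroupOfEquivOfLe hNG)) ≠ 0 := by
      rw [classInner_subgroupOf G N hNG]; exact χ.2
    have h2 : classInner (fun n : N.subgroupOf G => (χ'.1 : G → ℂ) n)
        ((θ : N → ℂ) ∘ (Subgroup.subgroupOfEquivOfLe hNG)) ≠ 0 := by
      rw [classInner_subgroupOf G N hNG]; exact χ'.2
    obtain ⟨ν, hνN, hν⟩ := exists_monoidHom_twist (N.subgroupOf G)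
      (fun x y => by
        rw [Subgroup.mem_subgroupOf]
        have := hab x x.2 y y.2
        simpa using this)
      ⟨_, hθ₀⟩ χ.1 χ'.1 h1 h2
    refine ⟨⟨ν, fun n hn => hνN ⟨n, hn⟩⟩, ?_⟩
    apply Subtype.ext
    apply Subtype.ext
    funext g
    rw [hΛsmul]
    exact (hν g).symm
  -- exponent
  have hexp : ∀ x : ρΛ.range, x ^ (N.relIndex G) = 1 := by
    rintro ⟨x, ν, rfl⟩
    apply Subtype.ext
    rw [Subgroup.coe_pow, Subgroup.coe_one, ← map_pow]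
    have h1 : ν ^ (N.relIndex G) = 1 := by
      apply Subtype.ext
      rw [Subgroup.coe_pow, Subgroup.coe_one]
      ext g
      rw [MonoidHom.pow_apply, ← map_pow, MonoidHom.one_apply]
      have h2 : g ^ (N.relIndex G) ∈ N.subgroupOf G := Subgroup.pow_index_mem _ g
      rw [ν.2 _ h2, Units.val_one]
    rw [h1, map_one]
  have hcardS : Nat.card ρS.range ∣ Nat.card S := Subgroup.card_range_dvd ρS
  have hcop' : (Nat.card ρΛ.range).Coprime (Nat.card ρS.range) :=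
    coprime_card_of_forall_pow_eq_one hexp (Nat.Coprime.coprime_dvd_right hcardS hcop)
  -- compatibility
  have hcompat : ∀ b ∈ ρS.range, ∀ a ∈ ρΛ.range, b * a * b⁻¹ ∈ ρΛ.range := by
    rintro _ ⟨s, rfl⟩ _ ⟨ν, rfl⟩
    refine ⟨⟨(ν : G →* ℂˣ).comp (conjInvEquiv G S hnorm s).toMonoidHom, ?_⟩, ?_⟩
    · intro n hn
      rw [MonoidHom.comp_apply]
      apply ν.2
      rw [Subgroup.mem_subgroupOf] at hn ⊢
      exact inv_conj_mem hNS s.2 hn
    · apply Equiv.ext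
      intro χ
      rw [Equiv.Perm.mul_apply, Equiv.Perm.mul_apply, ← map_inv, hρΛa, hρSa, hρSa, hρΛa]
      apply Subtype.ext
      apply Subtype.ext
      funext g
      rw [hΛsmul, hSsmul, hΛsmul, hSsmul]
      congr 1
      apply congrArg
      apply Subtype.ext
      simp [mul_assoc]
  have hsolvΛ : Group.IsSolvable ρΛ.range := by
    apply Group.isSolvable_of_comm
    rintro ⟨_, a, rfl⟩ ⟨_, b, rfl⟩
    apply Subtype.ext
    show ρΛ a * ρΛ b = ρΛ b * ρΛ a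
    rw [← map_mul, ← map_mul, mul_comm]
  obtain ⟨a, ha, hfix⟩ := glauberman_fixed_point_sub ρΛ.range ρS.range hcompat hcop'
    (Or.inr hsolvΛ) χ₀ (by
      rintro _ ⟨s, rfl⟩
      obtain ⟨ν, hν⟩ := htrans χ₀ (s • χ₀)
      exact ⟨ρΛ ν, ⟨ν, rfl⟩, hν⟩)
  refine ⟨(a • χ₀ : IrrOver G N hNG θ).1, (a • χ₀ : IrrOver G N hNG θ).2, ?_⟩
  intro s hs g g' hg'
  have h1 := hfix (ρS (⟨s, hs⟩⁻¹ : S)) ⟨_, rfl⟩
  have h2 : ((⟨s, hs⟩⁻¹ : S) • (a • χ₀ : IrrOver G N hNG θ)) = a • χ₀ := h1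
  have h3 := congrArg (fun χ : IrrOver G N hNG θ => (χ.1 : G → ℂ) g) h2
  beta_reduce at h3
  rw [hSsmul] at h3
  rw [← h3]
  apply congrArg
  apply Subtype.ext
  rw [hg']
  simp

end Cfsg.Agent.Lib.Helper79
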