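/-
Going up over a solvable quotient under coprime action (Isaacs 13.28 for `G / N` solvable)
(helper79).
-/
import Mathlib
import Cfsg.Agent.Lib.Helper79.GoingUpAbelian

set_option autoImplicit false

namespace Cfsg.Agent.Lib.Helper79

open Cfsg Cfsg.Agent.Lib.Helper81 Cfsg.Agent.Lib.Helper75 Cfsg.Agent.Lib.Helper78
open scoped ComplexConjugate commutatorElement

variable {Γ : Type*} [Group Γ]

/-- transitivity of "lies over" -/
theorem over_trans (G M N : Subgroup Γ) [Fintype M] [Fintype N] (hNM : N ≤ M) (hMG : M ≤ G)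
    (χ : IrrCharacter G) (η : IrrCharacter M) (θ : IrrCharacter N)
    (h1 : classInner (fun m : M => (χ : G → ℂ) ⟨m, hMG m.2⟩) (η : M → ℂ) ≠ 0)
    (h2 : classInner (fun n : N => (η : M → ℂ) ⟨n, hNM n.2⟩) (θ : N → ℂ) ≠ 0) :
    classInner (fun n : N => (χ : G → ℂ) ⟨n, hMG (hNM n.2)⟩) (θ : N → ℂ) ≠ 0 := by
  classical
  set A : M → ℂ := fun m : M => (χ : G → ℂ) ⟨m, hMG m.2⟩ with hA
  have hAc : IsCharacter M A :=
    isCharacter_comp (IsIrrCharacter.isCharacter χ.2) (Subgroup.inclusion hMG)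
  have hres : ∀ φ : IrrCharacter M, IsCharacter N (fun n : N => (φ : M → ℂ) ⟨n, hNM n.2⟩) :=
    fun φ => isCharacter_comp (IsIrrCharacter.isCharacter φ.2) (Subgroup.inclusion hNM)
  choose f hf using fun φ : IrrCharacter M => IsCharacter.exists_nat_classInner hAc φ
  choose g hg using fun φ : IrrCharacter M => IsCharacter.exists_nat_classInner (hres φ) θ
  have hdec := IsCharacter.eq_sum_irr hAc
  have h3 : (fun n : N => (χ : G → ℂ) ⟨n, hMG (hNM n.2)⟩) =
      ∑ φ : IrrCharacter M, (f φ : ℂ) • (fun n : N => (φ : M → ℂ) ⟨n, hNM n.2⟩) := by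
    funext n
    have h4 := congrFun hdec ⟨n, hNM n.2⟩
    rw [Finset.sum_apply] at h4 ⊢
    show A ⟨n, hNM n.2⟩ = _
    rw [h4]
    apply Finset.sum_congr rfl
    intro φ _
    rw [Pi.smul_apply, Pi.smul_apply, hf]
  have h5 : classInner (fun n : N => (χ : G → ℂ) ⟨n, hMG (hNM n.2)⟩) (θ : N → ℂ) =
      ((∑ φ : IrrCharacter M, f φ * g φ : ℕ) : ℂ) := by
    rw [h3, classInner_sum_left]
    push_cast
    apply Finset.sum_congr rfl
    intro φ _
    rw [classInner_smul_left, hg]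
  rw [h5]
  have h6 : f η * g η ≤ ∑ φ : IrrCharacter M, f φ * g φ :=
    Finset.single_le_sum (f := fun φ => f φ * g φ) (fun _ _ => Nat.zero_le _) (Finset.mem_univ η)
  have hfη : f η ≠ 0 := by
    intro h0
    apply h1
    rw [hf, h0, Nat.cast_zero]
  have hgη : g η ≠ 0 := by
    intro h0
    apply h2
    rw [hg, h0, Nat.cast_zero]
  have h7 : 0 < f η * g η := Nat.mul_pos (Nat.pos_of_ne_zero hfη) (Nat.pos_of_ne_zero hgη)
  have h8 : (∑ φ : IrrCharacter M, f φ * g φ) ≠ 0 := by omega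
  exact_mod_cast h8

/-- `⁅G, G⁆ ≤ G` -/
theorem commutator_self_le (G : Subgroup Γ) : ⁅G, G⁆ ≤ G :=
  Subgroup.commutator_le.mpr fun a ha b hb => by
    rw [commutatorElement_def]
    exact G.mul_mem (G.mul_mem (G.mul_mem ha hb) (G.inv_mem ha)) (G.inv_mem hb)

/-- if `G / N` is solvable and `N ⊔ ⁅G, G⁆ = G` then `G ≤ N` -/
theorem le_of_sup_commutator_eq (G N : Subgroup Γ) (hNG : N ≤ G) [hNn : (N.subgroupOf G).Normal]
    (hsolv : Group.IsSolvable (G ⧸ N.subgroupOf G)) (hM : N ⊔ ⁅G, G⁆ = G) : G ≤ N := by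
  set W : Subgroup Γ :=
    ((commutator (G ⧸ N.subgroupOf G)).comap (QuotientGroup.mk' (N.subgroupOf G))).map G.subtype
    with hW
  have hNW : N ≤ W := by
    intro n hn
    refine ⟨⟨n, hNG hn⟩, ?_, rfl⟩
    rw [SetLike.mem_coe, Subgroup.mem_comap]
    have : QuotientGroup.mk' (N.subgroupOf G) ⟨n, hNG hn⟩ = 1 := by
      rw [QuotientGroup.mk'_apply, QuotientGroup.eq_one_iff]
      exact hn
    rw [this]
    exact Subgroup.one_mem _
  have hCW : ⁅G, G⁆ ≤ W := by
    rw [Subgroup.commutator_le]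
    intro a ha b hb
    refine ⟨⁅(⟨a, ha⟩ : G), (⟨b, hb⟩ : G)⁆, ?_, ?_⟩
    · rw [SetLike.mem_coe, Subgroup.mem_comap, map_commutatorElement, commutator_def]
      exact Subgroup.commutator_mem_commutator (Subgroup.mem_top _) (Subgroup.mem_top _)
    · simp [commutatorElement_def]
  have hGW : G ≤ W := by
    rw [← hM]
    exact sup_le hNW hCW
  have htop : commutator (G ⧸ N.subgroupOf G) = ⊤ := by
    rw [eq_top_iff]
    intro q _
    obtain ⟨g, rfl⟩ := QuotientGroup.mk_surjective q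
    obtain ⟨g', hg', hgg'⟩ := hGW g.2
    have : g' = g := Subtype.ext hgg'
    rw [this] at hg'
    exact hg'
  have hsub : Subsingleton (G ⧸ N.subgroupOf G) := by
    by_contra hns
    rw [not_subsingleton_iff_nontrivial] at hns
    have := Group.IsSolvable.commutator_lt_top_of_nontrivial (G ⧸ N.subgroupOf G)
    rw [htop] at this
    exact lt_irrefl _ this
  have h1 := QuotientGroup.subgroup_eq_top_of_subsingleton _ hsub
  intro g hg
  have h2 : (⟨g, hg⟩ : G) ∈ N.subgroupOf G := by rw [h1]; exact Subgroup.mem_top _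
  exact h2

/-- solvability passes to `M / N` for `N ≤ M ≤ G` -/
theorem isSolvable_quotient_of_le (G M N : Subgroup Γ) (hMG : M ≤ G)
    [hNn : (N.subgroupOf G).Normal] [hNm : (N.subgroupOf M).Normal]
    (hsolv : Group.IsSolvable (G ⧸ N.subgroupOf G)) :
    Group.IsSolvable (M ⧸ N.subgroupOf M) := by
  have hle : N.subgroupOf M ≤ (N.subgroupOf G).comap (Subgroup.inclusion hMG) := by
    intro m hm
    exact hm
  set φ : M ⧸ N.subgroupOf M →* G ⧸ N.subgroupOf G :=
    QuotientGroup.map (N.subgroupOf M) (N.subgroupOf G) (Subgroup.inclusion hMG) hle with hφ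
  have hinj : Function.Injective φ := by
    rw [injective_iff_map_eq_one]
    intro q hq
    obtain ⟨m, rfl⟩ := QuotientGroup.mk_surjective q
    rw [hφ, QuotientGroup.map_mk, QuotientGroup.eq_one_iff] at hq
    rw [QuotientGroup.eq_one_iff]
    exact hq
  exact Group.isSolvable_of_isSolvable_injective hinj

/-- `S` normalizes `N ⊔ ⁅G, G⁆` -/
theorem conj_mem_sup_commutator (G S N : Subgroup Γ)
    (hnorm : ∀ s ∈ S, ∀ g ∈ G, s * g * s⁻¹ ∈ G) (hNS : ∀ s ∈ S, ∀ n ∈ N, s * n * s⁻¹ ∈ N) :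
    ∀ s ∈ S, ∀ m ∈ N ⊔ ⁅G, G⁆, s * m * s⁻¹ ∈ N ⊔ ⁅G, G⁆ := by
  intro s hs m hm
  have h1 : s ∈ Subgroup.normalizer (N : Set Γ) := le_normalizer_of_conj hNS hs
  have h2 : s ∈ Subgroup.normalizer (G : Set Γ) := le_normalizer_of_conj hnorm hs
  rw [Subgroup.mem_normalizer_iff_map_conj_eq] at h1 h2
  have h3 : (N ⊔ ⁅G, G⁆).map (MulAut.conj s : Γ →* Γ) = N ⊔ ⁅G, G⁆ := by
    rw [Subgroup.map_sup, Subgroup.map_commutator, h1, h2]
  rw [← h3]
  exact ⟨m, hm, by simp [MulAut.conj_apply]⟩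

/-- **Going up over a solvable quotient under coprime action** (Isaacs 13.28, solvable case). -/
theorem exists_invariant_over_of_solvable [Finite Γ] (S N : Subgroup Γ) [Fintype N]
    (hNS : ∀ s ∈ S, ∀ n ∈ N, s * n * s⁻¹ ∈ N) (θ : IrrCharacter N)
    (hinv : ∀ s ∈ S, ∀ g g' : N, (g' : Γ) = s * g * s⁻¹ → (θ : N → ℂ) g' = (θ : N → ℂ) g) :
    ∀ (k : ℕ) (G : Subgroup Γ) (hNG : N ≤ G) [hNn : (N.subgroupOf G).Normal],
      N.relIndex G = k → (∀ s ∈ S, ∀ g ∈ G, s * g * s⁻¹ ∈ G) →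
      (N.relIndex G).Coprime (Nat.card S) → Group.IsSolvable (G ⧸ N.subgroupOf G) →
      ∃ χ : IrrCharacter G,
        classInner (fun n : N => (χ : G → ℂ) ⟨n, hNG n.2⟩) (θ : N → ℂ) ≠ 0 ∧
        ∀ s ∈ S, ∀ g g' : G, (g' : Γ) = s * g * s⁻¹ → (χ : G → ℂ) g' = (χ : G → ℂ) g := by
  classical
  intro k
  induction k using Nat.strong_induction_on with
  | _ k ih =>
    intro G hNG hNn hk hnorm hcop hsolv
    by_cases hGN : G ≤ N
    · obtain rfl : G = N := le_antisymm hGN hNG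
      refine ⟨θ, ?_, hinv⟩
      have h1 : (fun n : G => (θ : G → ℂ) ⟨n, hNG n.2⟩) = (θ : G → ℂ) := by
        funext n
        rfl
      rw [h1, classInner_irr_self θ.2]
      exact one_ne_zero
    · -- the subgroup `M = N ⊔ ⁅G, G⁆`
      have hGNc : ∀ g ∈ G, ∀ n ∈ N, g * n * g⁻¹ ∈ N := conj_mem_of_normal_subgroupOf hNG hNn
      set M : Subgroup Γ := N ⊔ ⁅G, G⁆ with hM
      have hNM : N ≤ M := le_sup_left
      have hMG : M ≤ G := sup_le hNG (commutator_self_le G)
      have hMne : M ≠ G := fun h => hGN (le_of_sup_commutator_eq G N hNG hsolv h)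
      have hMS : ∀ s ∈ S, ∀ m ∈ M, s * m * s⁻¹ ∈ M := conj_mem_sup_commutator G S N hnorm hNS
      have hNm : (N.subgroupOf M).Normal :=
        Subgroup.normal_subgroupOf_of_le_normalizer
          (le_normalizer_of_conj fun m hm n hn => hGNc m (hMG hm) n hn)
      have hsolvM : Group.IsSolvable (M ⧸ N.subgroupOf M) :=
        isSolvable_quotient_of_le G M N hMG hsolv
      have hmul := Subgroup.relIndex_mul_relIndex N M G hNM hMG
      have hMG1 : M.relIndex G ≠ 1 := by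
        intro h
        exact hMne (le_antisymm hMG (Subgroup.relIndex_eq_one.mp h))
      have hMG0 : M.relIndex G ≠ 0 := Subgroup.index_ne_zero_of_finite (H := M.subgroupOf G)
      have hNM0 : N.relIndex M ≠ 0 := Subgroup.index_ne_zero_of_finite (H := N.subgroupOf M)
      have hlt : N.relIndex M < k := by
        rw [← hk, ← hmul]
        have : 2 ≤ M.relIndex G := by omega
        nlinarith [Nat.pos_of_ne_zero hNM0]
      have hcopM : (N.relIndex M).Coprime (Nat.card S) :=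
        Nat.Coprime.coprime_dvd_left (Dvd.intro _ hmul) hcop
      have hcopG : (M.relIndex G).Coprime (Nat.card S) :=
        Nat.Coprime.coprime_dvd_left (Dvd.intro_left _ hmul) hcop
      obtain ⟨η, hη1, hη2⟩ := ih (N.relIndex M) hlt M hNM rfl hMS hcopM hsolvM
      let _ : Fintype M := Fintype.ofFinite _
      let _ : Fintype G := Fintype.ofFinite _
      have hab : ∀ x ∈ G, ∀ y ∈ G, x * y * x⁻¹ * y⁻¹ ∈ M := by
        intro x hx y hy
        rw [← commutatorElement_def]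
        exact Subgroup.mem_sup_right (Subgroup.commutator_mem_commutator hx hy)
      obtain ⟨χ, hχ1, hχ2⟩ := exists_invariant_over_of_abelian G S M hnorm hMG hab hMS hcopG η hη2
      exact ⟨χ, over_trans G M N hNM hMG χ η θ hχ1 hη1, hχ2⟩

end Cfsg.Agent.Lib.Helper79
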