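import Mathlib
import Cfsg.Agent.Lib.Helper16.DualSubNT
import Cfsg.Agent.Lib.Helper82.CycloNorm
import Cfsg.Agent.Lib.Helper16.LocalRing

/-!
# A trace bound for totally positive cyclotomic integers divisible by `p^h`

Shared library by helper79 (for S4715).  For integers `c i` and `p^k`-th roots of unity `μ i` put
`A j = ∑ i, c i * μ i ^ j`.  If every `A j` (`j` prime to `p`) is a positive real number and
`A j / p^h` is a local integer at a `p`-modular maximal ideal, then
`∑_{j < p^k, (j, p) = 1} A j ≥ φ(p^k) p^h`: the product of the `A j` is a positive integer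
divisible by `p^(h φ(p^k))`, and the inequality of the arithmetic and geometric means applies.
-/

set_option autoImplicit false

namespace Cfsg.Agent.Lib.Helper79

open Cfsg Cfsg.Agent.Lib.Helper16 Cfsg.Agent.Lib.Helper82

variable {p : ℕ} {M : Ideal AlgInt}

/-- integer divisibility from local integrality -/
theorem pow_dvd_of_memLocalRing_div (hM : IsPModular p M) (N : ℤ) (m : ℕ)
    (h : MemLocalRing M ((N : ℂ) / (p : ℂ) ^ m)) : (p : ℤ) ^ m ∣ N := by
  have hMp : M.IsPrime := isPModular_isPrime hM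
  have hMtop : M ≠ ⊤ := hMp.ne_top
  have hp : p.Prime := isPModular_prime hM
  have hp0 : (p : ℂ) ≠ 0 := by exact_mod_cast hp.ne_zero
  have key : ∀ e : ℕ, e ≤ m → (p : ℤ) ^ e ∣ N := by
    intro e
    induction e with
    | zero => intro _; simp
    | succ e ih =>
      intro he
      obtain ⟨w, hw⟩ := ih (by omega)
      have h2 : (w : ℂ) = (N : ℂ) / (p : ℂ) ^ m * ((p : ℂ) ^ (m - e - 1) * (p : ℂ)) := by
        rw [hw]
        push_cast
        have : (p : ℂ) ^ m = (p : ℂ) ^ e * ((p : ℂ) ^ (m - e - 1) * (p : ℂ)) := by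
          rw [← pow_succ, ← pow_add]
          congr 1
          omega
        rw [this]
        field_simp
      have h3 : MemLocalIdeal M (w : ℂ) := by
        rw [h2]
        exact memLocalIdeal_mul_left h
          (memLocalIdeal_mul_left (memLocalRing_pow (memLocalRing_natCast hMtop p) _)
            (memLocalIdeal_p hM))
      obtain ⟨v, hv⟩ := (memLocalIdeal_intCast_iff hM w).mp h3
      refine ⟨v, ?_⟩
      rw [hw, hv, pow_succ]
      ring
  exact key _ le_rfl

/-- **The trace bound.** -/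
theorem totient_mul_pow_le_sum (hM : IsPModular p M) (k h : ℕ) {ι : Type*} (s : Finset ι)
    (c : ι → ℤ) (μ : ι → ℂ) (hμ : ∀ i ∈ s, μ i ^ (p ^ k) = 1) (r : ℕ → ℝ)
    (hr : ∀ j : ℕ, j.Coprime (p ^ k) →
      0 < r j ∧ ∑ i ∈ s, (c i : ℂ) * μ i ^ j = ((r j : ℝ) : ℂ))
    (hdiv : ∀ j : ℕ, j.Coprime (p ^ k) →
      MemLocalRing M ((∑ i ∈ s, (c i : ℂ) * μ i ^ j) / (p : ℂ) ^ h)) :
    ((p ^ k).totient : ℝ) * (p : ℝ) ^ h ≤
      ∑ j ∈ (Finset.range (p ^ k)).filter (fun j => j.Coprime (p ^ k)), r j := by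
  classical
  have hMp : M.IsPrime := isPModular_isPrime hM
  have hp : p.Prime := isPModular_prime hM
  have hp0 : (p : ℂ) ≠ 0 := by exact_mod_cast hp.ne_zero
  have hpR : (0 : ℝ) < (p : ℝ) := by exact_mod_cast hp.pos
  have hn : 0 < p ^ k := pow_pos hp.pos k
  set J := (Finset.range (p ^ k)).filter (fun j => j.Coprime (p ^ k)) with hJ
  have hJmem : ∀ j ∈ J, j.Coprime (p ^ k) := by
    intro j hj
    simp only [hJ, Finset.mem_filter] at hj
    exact hj.2
  obtain ⟨z, hz⟩ := exists_int_prod_units (p ^ k) hn s c μ hμ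
  rw [← hJ] at hz
  -- the product of the `r j`
  have hprodR : ∏ j ∈ J, r j = (z : ℝ) := by
    have h1 : ((∏ j ∈ J, r j : ℝ) : ℂ) = ((z : ℝ) : ℂ) := by
      push_cast
      rw [← hz]
      apply Finset.prod_congr rfl
      intro j hj
      exact ((hr j (hJmem j hj)).2).symm
    exact_mod_cast h1
  have hzpos : 0 < z := by
    have : (0 : ℝ) < ∏ j ∈ J, r j := Finset.prod_pos (fun j hj => (hr j (hJmem j hj)).1)
    rw [hprodR] at this
    exact_mod_cast this
  -- divisibility
  have hdvd : (p : ℤ) ^ (h * J.card) ∣ z := by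
    apply pow_dvd_of_memLocalRing_div hM
    have h1 : MemLocalRing M (∏ j ∈ J, (∑ i ∈ s, (c i : ℂ) * μ i ^ j) / (p : ℂ) ^ h) :=
      memLocalRing_prod _ _ (fun j hj => hdiv j (hJmem j hj))
    rw [Finset.prod_div_distrib, hz, Finset.prod_const, ← pow_mul] at h1
    exact h1
  have hzge : (p : ℤ) ^ (h * J.card) ≤ z := Int.le_of_dvd hzpos hdvd
  have hcard : J.card = (p ^ k).totient := by
    rw [hJ, Nat.totient_eq_card_coprime]
    congr 1
    ext j
    simp only [Finset.mem_filter, Finset.mem_range, Nat.coprime_comm]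
  -- AM-GM
  have hphR : (0 : ℝ) < (p : ℝ) ^ h := pow_pos hpR h
  have hAG := card_le_sum_of_one_le_prod J (fun j => r j / (p : ℝ) ^ h)
    (fun j hj => div_pos (hr j (hJmem j hj)).1 hphR) (by
      rw [Finset.prod_div_distrib, hprodR, Finset.prod_const, ← pow_mul, le_div_iff₀ (pow_pos hpR _),
        one_mul]
      exact_mod_cast hzge)
  rw [← Finset.sum_div, le_div_iff₀ hphR, hcard] at hAG
  exact hAG

end Cfsg.Agent.Lib.Helper79
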