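import Mathlib
import Cfsg.Agent.Lib.Helper79.HeightBoundNT
import Cfsg.Agent.Lib.Helper75.MajorSubFiveG

/-!
# The lower bound for the contributions of a major subsection

Shared library by helper79 (for S4715).  Let `(y, b)` be a major subsection of the block `B`
(`H = C_G(y)`, `b^G = B`, equal defects `d`), `y ^ p ^ k = 1`, and `χ ∈ B` of height `h`.  Then
the contributions `m_j = m^{(y^j, b)}_{χ χ}` are positive real numbers and
`∑_{j prime to p} p^d m_j ≥ φ(p^k) p^h`.
-/

set_option autoImplicit false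
set_option linter.unusedSectionVars false

namespace Cfsg.Agent.Lib.Helper79

open Cfsg Finset Cfsg.Agent.Lib.Helper16 Cfsg.Agent.Lib.Helper78 Cfsg.Agent.Lib.Helper82
  Cfsg.Agent.Lib.Helper75
open scoped ComplexConjugate

universe u

variable {G : Type u} [Group G] [Fintype G] {p : ℕ} [Fact p.Prime] {M : Ideal AlgInt}

/-- the diagonal contribution is a real number -/
theorem secM_self_im (u : G) (H : Subgroup G) [Fintype H] (b : Set (IrrCharacter H))
    (χ : G → ℂ) : (secM p u H b χ χ).im = 0 := by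
  have h := secM_conj p u H b χ χ
  have h2 := congrArg Complex.im h
  rw [Complex.conj_im] at h2
  linarith

open scoped Classical in
/-- the diagonal contribution of a major subsection is positive -/
theorem secM_self_pos (hM : IsPModular p M) {B : Set (IrrCharacter G)} (u : G)
    (hu : ∃ k : ℕ, orderOf u = p ^ k) (H : Subgroup G) [Fintype H]
    (hH : ∀ g : G, g ∈ H ↔ Commute u g) {b : Set (IrrCharacter H)}
    (hind : IsInducedBlock M H b B) (hbd : blockDefect p b = blockDefect p B)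
    {χ : IrrCharacter G} (hχ : χ ∈ B) :
    0 < (secM p u H b (χ : G → ℂ) (χ : G → ℂ)).re := by
  have hb : IsPBlock M b := hind.1
  obtain ⟨k, hk⟩ := hu
  -- the central element
  have huH : u ∈ H := (hH u).mpr (Commute.refl u)
  obtain ⟨z, hz⟩ : ∃ z : H, (z : G) = u := ⟨⟨u, huH⟩, rfl⟩
  have hzc : z ∈ Subgroup.center H := by
    rw [Subgroup.mem_center_iff]
    intro h
    apply Subtype.ext
    simp only [Subgroup.coe_mul, hz]
    exact ((hH h).mp h.2).eq.symm
  have hzn : z ^ p ^ k = 1 := by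
    apply Subtype.ext
    simp only [Subgroup.coe_pow, hz, Subgroup.coe_one]
    rw [← hk]
    exact pow_orderOf_eq_one u
  -- a character of height zero
  obtain ⟨ψ₀, hψ₀B, hψ₀⟩ := exists_min_factorization (p := p) (B := B) ⟨χ, hχ⟩
  have hψ₀h : blockHeight p B (ψ₀ : G → ℂ) = 0 := by
    unfold blockHeight
    omega
  have hne : secM p u H b (χ : G → ℂ) (ψ₀ : G → ℂ) ≠ 0 := by
    have := secM_ne_zero_of_height_zero hM H hind hbd hχ hψ₀B hψ₀h hzc
      (by rw [hz]; exact hH) hzn ⟨k, by rw [hz]; exact hk⟩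
    rwa [hz] at this
  have hsum := sum_secM_mul_conj hM u ⟨k, hk⟩ H hH hb (χ : G → ℂ)
  have hre : (secM p u H b (χ : G → ℂ) (χ : G → ℂ)).re =
      ∑ ψ : IrrCharacter G, Complex.normSq (secM p u H b (χ : G → ℂ) (ψ : G → ℂ)) := by
    rw [← hsum, Complex.re_sum]
    apply Finset.sum_congr rfl
    intro ψ _
    rw [Complex.mul_conj]
    exact Complex.ofReal_re _
  rw [hre]
  calc (0 : ℝ) < Complex.normSq (secM p u H b (χ : G → ℂ) (ψ₀ : G → ℂ)) :=
        Complex.normSq_pos.mpr hne
    _ ≤ _ := Finset.single_le_sum (f := fun ψ : IrrCharacter G =>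
        Complex.normSq (secM p u H b (χ : G → ℂ) (ψ : G → ℂ)))
        (fun ψ _ => Complex.normSq_nonneg _) (Finset.mem_univ ψ₀)

open scoped Classical in
/-- **The lower bound** for the contributions of the generators of `⟨y⟩`. -/
theorem sum_pow_mul_secM_ge (hM : IsPModular p M) (B : Set (IrrCharacter G)) (y : G) {k : ℕ}
    (hk : y ^ p ^ k = 1) (H : Subgroup G) [Fintype H] (hH : ∀ g : G, g ∈ H ↔ Commute y g)
    (b : Set (IrrCharacter H)) (hind : IsInducedBlock M H b B)
    (hbd : blockDefect p b = blockDefect p B) {χ : IrrCharacter G} (hχ : χ ∈ B) :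
    ((p ^ k).totient : ℝ) * (p : ℝ) ^ blockHeight p B (χ : G → ℂ) ≤
      ∑ j ∈ (Finset.range (p ^ k)).filter (fun j => j.Coprime (p ^ k)),
        (p : ℝ) ^ blockDefect p B * (secM p (y ^ j) H b (χ : G → ℂ) (χ : G → ℂ)).re := by
  have hp : p.Prime := Fact.out
  have hb : IsPBlock M b := hind.1
  have hpR : (0 : ℝ) < (p : ℝ) := by exact_mod_cast hp.pos
  -- the central element
  have hyH : y ∈ H := (hH y).mpr (Commute.refl y)
  obtain ⟨z, hz⟩ : ∃ z : H, (z : G) = y := ⟨⟨y, hyH⟩, rfl⟩
  have hzc : z ∈ Subgroup.center H := by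
    rw [Subgroup.mem_center_iff]
    intro h
    apply Subtype.ext
    simp only [Subgroup.coe_mul, hz]
    exact ((hH h).mp h.2).eq.symm
  have hzn : z ^ p ^ k = 1 := by
    apply Subtype.ext
    simp only [Subgroup.coe_pow, hz, Subgroup.coe_one]
    exact hk
  set sb := Finset.univ.filter (fun ξ : IrrCharacter H => ξ ∈ b) with hsb
  have hdvd : orderOf y ∣ p ^ k := orderOf_dvd_of_pow_eq_one hk
  obtain ⟨k', -, hk'⟩ := (Nat.dvd_prime_pow hp).mp hdvd
  -- facts about `y ^ j`
  have hfacts : ∀ j : ℕ, j.Coprime (p ^ k) →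
      orderOf (y ^ j) = p ^ k' ∧ (∀ g : G, g ∈ H ↔ Commute (y ^ j) g) := by
    intro j hj
    have hcop : (orderOf y).Coprime j := Nat.Coprime.coprime_dvd_left hdvd hj.symm
    refine ⟨by rw [hcop.orderOf_pow, hk'], ?_⟩
    intro g
    rw [hH g]
    constructor
    · intro h
      exact h.pow_left j
    · intro h
      obtain ⟨m, hm⟩ := exists_pow_eq_self_of_coprime hcop.symm
      rw [← hm]
      exact h.pow_left m
  have hAeq : ∀ j : ℕ, ∑ i ∈ sb ×ˢ sb, (secCoef p H b χ χ i : ℂ) * secRoot H z i ^ j =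
      (p : ℂ) ^ blockDefect p b * secM p (y ^ j) H b (χ : G → ℂ) (χ : G → ℂ) := by
    intro j
    rw [← hz]
    exact (pow_mul_secM_eq hM H hb χ χ hzc j).symm
  apply totient_mul_pow_le_sum hM k (blockHeight p B (χ : G → ℂ)) (sb ×ˢ sb)
    (secCoef p H b χ χ) (secRoot H z)
    (fun i _ => secRoot_pow_eq_one H hzc hzn i)
    (fun j => (p : ℝ) ^ blockDefect p B * (secM p (y ^ j) H b (χ : G → ℂ) (χ : G → ℂ)).re)
  · intro j hj
    obtain ⟨hord, hHj⟩ := hfacts j hj
    have hpos := secM_self_pos hM (y ^ j) ⟨k', hord⟩ H hHj hind hbd hχ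
    refine ⟨mul_pos (pow_pos hpR _) hpos, ?_⟩
    rw [hAeq j, hbd]
    have him := secM_self_im (p := p) (y ^ j) H b (χ : G → ℂ)
    apply Complex.ext
    · simp [Complex.mul_re, him, ← Complex.ofReal_natCast, ← Complex.ofReal_pow]
    · simp [Complex.mul_im, him, ← Complex.ofReal_natCast, ← Complex.ofReal_pow]
  · intro j hj
    obtain ⟨hord, hHj⟩ := hfacts j hj
    rw [hAeq j]
    have hzj : z ^ j ∈ Subgroup.center H := Subgroup.pow_mem _ hzc j
    have hcoe : ((z ^ j : H) : G) = y ^ j := by rw [Subgroup.coe_pow, hz]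
    have := memLocalRing_pow_mul_secM_div hM H hind hbd χ hχ hzj
      (by rw [hcoe]; exact hHj) ⟨k', by rw [hcoe]; exact hord⟩
    rwa [hcoe] at this

end Cfsg.Agent.Lib.Helper79
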