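import Mathlib

/-!
# Two abstract lemmas for Brauer's height bound

Shared library by helper79 (for S4715).

* `sum_re_le_of_orthogonal`: a Bessel type inequality.  Vectors `v x ∈ ℂ^ι` (`x ∈ S`) with
  `⟨v x, v x⟩ = (v x) χ`, such that `v x ⊥ v y` unless `R x y`, where every `x` is related to at
  most `e` elements: then `∑ x, (v x) χ ≤ e`.
* `card_filter_conj_le`: the orbit of `z` under a subgroup `T` has at most `|T : H ∩ T|` elements
  if `H` centralizes `z`.
-/

set_option autoImplicit false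

namespace Cfsg.Agent.Lib.Helper79

open Finset
open scoped ComplexConjugate

/-- A Bessel type inequality. -/
theorem sum_re_le_of_orthogonal {X ι : Type*} [Fintype ι] (S : Finset X)
    (v : X → ι → ℂ) (χ : ι) (R : X → X → Prop) [DecidableRel R] (e : ℕ)
    (h1 : ∀ x ∈ S, ∑ ψ, v x ψ * conj (v x ψ) = v x χ)
    (h2 : ∀ x ∈ S, ∀ y ∈ S, ¬ R x y → ∑ ψ, v x ψ * conj (v y ψ) = 0)
    (h3 : ∀ x ∈ S, (S.filter (fun y => R x y)).card ≤ e)
    (h3' : ∀ y ∈ S, (S.filter (fun x => R x y)).card ≤ e) :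
    ∑ x ∈ S, (v x χ).re ≤ e := by
  classical
  set m : X → ℝ := fun x => ∑ ψ, Complex.normSq (v x ψ) with hm
  have hm0 : ∀ x, 0 ≤ m x := fun x => Finset.sum_nonneg (fun ψ _ => Complex.normSq_nonneg _)
  have hvχ : ∀ x ∈ S, v x χ = (m x : ℂ) := by
    intro x hx
    rw [← h1 x hx]
    show _ = ((∑ ψ, Complex.normSq (v x ψ) : ℝ) : ℂ)
    rw [Complex.ofReal_sum]
    apply Finset.sum_congr rfl
    intro ψ _
    rw [Complex.mul_conj]
  set T : ℝ := ∑ x ∈ S, m x with hT
  have hT0 : 0 ≤ T := Finset.sum_nonneg (fun x _ => hm0 x)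
  have hsum : ∑ x ∈ S, (v x χ).re = T := by
    apply Finset.sum_congr rfl
    intro x hx
    rw [hvχ x hx, Complex.ofReal_re]
  rw [hsum]
  set u : ι → ℂ := fun ψ => ∑ x ∈ S, v x ψ with hu
  have huχ : u χ = (T : ℂ) := by
    show ∑ x ∈ S, v x χ = _
    rw [hT, Complex.ofReal_sum]
    exact Finset.sum_congr rfl (fun x hx => hvχ x hx)
  have hb : T ^ 2 ≤ ∑ ψ, Complex.normSq (u ψ) := by
    calc T ^ 2 = Complex.normSq (u χ) := by rw [huχ, Complex.normSq_ofReal]; ring
      _ ≤ _ := Finset.single_le_sum (f := fun ψ => Complex.normSq (u ψ))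
        (fun ψ _ => Complex.normSq_nonneg _) (Finset.mem_univ χ)
  have hc : ∑ ψ, Complex.normSq (u ψ) =
      ∑ x ∈ S, ∑ y ∈ S, (∑ ψ, v x ψ * conj (v y ψ)).re := by
    have hψ : ∀ ψ, Complex.normSq (u ψ) = ∑ x ∈ S, ∑ y ∈ S, (v x ψ * conj (v y ψ)).re := by
      intro ψ
      have h : (Complex.normSq (u ψ) : ℂ) = u ψ * conj (u ψ) := (Complex.mul_conj _).symm
      have h' : Complex.normSq (u ψ) = (u ψ * conj (u ψ)).re := by
        rw [← h, Complex.ofReal_re]
      rw [h']
      show ((∑ x ∈ S, v x ψ) * conj (∑ x ∈ S, v x ψ)).re = _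
      rw [map_sum, Finset.sum_mul_sum, Complex.re_sum]
      apply Finset.sum_congr rfl
      intro x _
      rw [Complex.re_sum]
    rw [Finset.sum_congr rfl (fun ψ _ => hψ ψ), Finset.sum_comm]
    apply Finset.sum_congr rfl
    intro x _
    rw [Finset.sum_comm]
    apply Finset.sum_congr rfl
    intro y _
    rw [Complex.re_sum]
  have hd : ∀ x ∈ S, ∀ y ∈ S, (∑ ψ, v x ψ * conj (v y ψ)).re ≤
      (if R x y then m x / 2 else 0) + (if R x y then m y / 2 else 0) := by
    intro x hx y hy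
    by_cases hR : R x y
    · rw [if_pos hR, if_pos hR, Complex.re_sum]
      have h : m x / 2 + m y / 2 =
          ∑ ψ, (Complex.normSq (v x ψ) + Complex.normSq (v y ψ)) / 2 := by
        show (∑ ψ, Complex.normSq (v x ψ)) / 2 + (∑ ψ, Complex.normSq (v y ψ)) / 2 = _
        rw [← add_div, ← Finset.sum_add_distrib, Finset.sum_div]
      rw [h]
      apply Finset.sum_le_sum
      intro ψ _
      have := Complex.normSq_nonneg (v x ψ - v y ψ)
      rw [Complex.normSq_sub] at this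
      linarith
    · rw [if_neg hR, if_neg hR, h2 x hx y hy hR]
      simp
  have he1 : ∑ x ∈ S, ∑ y ∈ S, (if R x y then m x / 2 else 0) ≤ (e : ℝ) * T / 2 := by
    have : (e : ℝ) * T / 2 = ∑ x ∈ S, (e : ℝ) * (m x / 2) := by
      rw [hT, Finset.mul_sum, Finset.sum_div]
      apply Finset.sum_congr rfl
      intro x _
      ring
    rw [this]
    apply Finset.sum_le_sum
    intro x hx
    rw [← Finset.sum_filter, Finset.sum_const, nsmul_eq_mul]
    apply mul_le_mul_of_nonneg_right _ (by have := hm0 x; linarith)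
    exact_mod_cast h3 x hx
  have he2 : ∑ x ∈ S, ∑ y ∈ S, (if R x y then m y / 2 else 0) ≤ (e : ℝ) * T / 2 := by
    have : (e : ℝ) * T / 2 = ∑ y ∈ S, (e : ℝ) * (m y / 2) := by
      rw [hT, Finset.mul_sum, Finset.sum_div]
      apply Finset.sum_congr rfl
      intro x _
      ring
    rw [this, Finset.sum_comm]
    apply Finset.sum_le_sum
    intro y hy
    rw [← Finset.sum_filter, Finset.sum_const, nsmul_eq_mul]
    apply mul_le_mul_of_nonneg_right _ (by have := hm0 y; linarith)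
    exact_mod_cast h3' y hy
  have hfin : T ^ 2 ≤ (e : ℝ) * T := by
    calc T ^ 2 ≤ ∑ x ∈ S, ∑ y ∈ S, (∑ ψ, v x ψ * conj (v y ψ)).re := hb.trans hc.le
      _ ≤ ∑ x ∈ S, ∑ y ∈ S, ((if R x y then m x / 2 else 0) + (if R x y then m y / 2 else 0)) :=
        Finset.sum_le_sum (fun x hx => Finset.sum_le_sum (fun y hy => hd x hx y hy))
      _ = ∑ x ∈ S, ∑ y ∈ S, (if R x y then m x / 2 else 0) +
          ∑ x ∈ S, ∑ y ∈ S, (if R x y then m y / 2 else 0) := by
        rw [← Finset.sum_add_distrib]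
        apply Finset.sum_congr rfl
        intro x _
        rw [Finset.sum_add_distrib]
      _ ≤ (e : ℝ) * T / 2 + (e : ℝ) * T / 2 := add_le_add he1 he2
      _ = (e : ℝ) * T := by ring
  by_contra hlt
  push Not at hlt
  have hTpos : 0 < T := lt_of_le_of_lt (Nat.cast_nonneg e) hlt
  have : (e : ℝ) * T < T * T := mul_lt_mul_of_pos_right hlt hTpos
  nlinarith

/-- The orbit of `z` under `T` has at most `|T : H ∩ T|` elements if `H` centralizes `z`. -/
theorem card_filter_conj_le {G : Type*} [Group G] [Finite G] (H T : Subgroup G) (z : G)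
    (hz : ∀ h ∈ H, h * z = z * h) (S : Finset G)
    [DecidablePred (fun z' : G => ∃ t ∈ T, t * z * t⁻¹ = z')] :
    (S.filter (fun z' => ∃ t ∈ T, t * z * t⁻¹ = z')).card ≤ H.relIndex T := by
  classical
  have : Fintype (T ⧸ H.subgroupOf T) := Fintype.ofFinite _
  have hidx : H.relIndex T = Fintype.card (T ⧸ H.subgroupOf T) := by
    rw [Subgroup.relIndex, Subgroup.index, Nat.card_eq_fintype_card]
  rw [hidx, ← Finset.card_univ]
  set F : T ⧸ H.subgroupOf T → G := fun q => ((Quotient.out q : T) : G) * z *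
    ((Quotient.out q : T) : G)⁻¹ with hF
  have hsub : S.filter (fun z' => ∃ t ∈ T, t * z * t⁻¹ = z') ⊆ Finset.univ.image F := by
    intro z' hz'
    rw [Finset.mem_filter] at hz'
    obtain ⟨-, t, ht, rfl⟩ := hz'
    rw [Finset.mem_image]
    refine ⟨QuotientGroup.mk (⟨t, ht⟩ : T), Finset.mem_univ _, ?_⟩
    set t' : T := Quotient.out (QuotientGroup.mk (⟨t, ht⟩ : T) : T ⧸ H.subgroupOf T) with ht'
    have hq : (QuotientGroup.mk t' : T ⧸ H.subgroupOf T) = QuotientGroup.mk (⟨t, ht⟩ : T) :=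
      QuotientGroup.out_eq' _
    have hmem : t'⁻¹ * (⟨t, ht⟩ : T) ∈ H.subgroupOf T := QuotientGroup.eq.mp hq
    rw [Subgroup.mem_subgroupOf] at hmem
    have hcomm := hz _ hmem
    simp only [Subgroup.coe_mul, Subgroup.coe_inv] at hcomm
    show (t' : G) * z * (t' : G)⁻¹ = t * z * t⁻¹
    have h1 : t = (t' : G) * ((t' : G)⁻¹ * t) := by group
    have h2 : ((t' : G)⁻¹ * t) * z * ((t' : G)⁻¹ * t)⁻¹ = z := by
      rw [hcomm]
      group
    calc (t' : G) * z * (t' : G)⁻¹
        = (t' : G) * (((t' : G)⁻¹ * t) * z * ((t' : G)⁻¹ * t)⁻¹) * (t' : G)⁻¹ := by rw [h2]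
      _ = t * z * t⁻¹ := by group
  exact (Finset.card_le_card hsub).trans Finset.card_image_le

end Cfsg.Agent.Lib.Helper79
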