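import Mathlib
import Cfsg.Agent.Lib.Helper79.HeightBoundLB
import Cfsg.Agent.Lib.Helper79.HeightBoundUB
import Cfsg.Agent.Lib.Helper16.CenterSubsec
import Cfsg.Agent.Lib.Helper16.SubsecOrth
import Cfsg.Agent.Lib.Helper78.DefectOrder

/-!
# Brauer's bound for the heights: `p^(h + c) ≤ e p^d`

Shared library by helper79 (for S4715).  Let `B` be a block with defect group `D`, `|D| = p^d`,
`|Z(D)| = p^c`, `H = D C_G(D)`, `b` a block of `H` with `b^G = B`, `T` the stabilizer of `b` in
`N_G(D)`.  Then every `χ ∈ B` of height `h` satisfies `p^(h + c) ≤ |T : H| p^d`.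

The proof sums the contributions `m_z = m^{(z, b_z)}_{χ χ}` of the major subsections attached to
the elements `z ∈ Z(D)` (helper16's `exists_center_family`): the lower bound
`∑_z p^d m_z ≥ p^(c + h)` comes from `sum_pow_mul_secM_ge`, the upper bound `∑_z m_z ≤ |T : H|`
from the orthogonality of the contributions of non-conjugate subsections
(helper16's `sum_secM_mul_conj_eq_zero`) and the Bessel type inequality `sum_re_le_of_orthogonal`.
-/

set_option autoImplicit false
set_option linter.unusedSectionVars false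

namespace Cfsg.Agent.Lib.Helper79

open Cfsg Finset Cfsg.Agent.Lib.Helper16 Cfsg.Agent.Lib.Helper78 Cfsg.Agent.Lib.Helper82
open scoped ComplexConjugate

universe u

variable {G : Type u} [Group G] [Fintype G] {p : ℕ} [Fact p.Prime] {M : Ideal AlgInt}

/-- membership in the centralizer of a cyclic subgroup -/
theorem mem_centralizer_zpowers_iff (z g : G) :
    g ∈ Subgroup.centralizer (Subgroup.zpowers z : Set G) ↔ Commute z g := by
  rw [Subgroup.mem_centralizer_iff]
  constructor
  · intro h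
    exact h z (Subgroup.mem_zpowers z)
  · intro h x hx
    obtain ⟨k, rfl⟩ := Subgroup.mem_zpowers_iff.mp hx
    exact (h.zpow_left k).eq

open scoped Classical in
/-- **Brauer's bound for the heights**, multiplicative form. -/
theorem pow_height_add_center_le (hM : IsPModular p M)
    {B : Set (IrrCharacter G)} (hB : IsPBlock M B) {D : Subgroup G}
    (hBD : IsDefectGroup p M B D) {H : Subgroup G}
    (hH : H = D ⊔ Subgroup.centralizer (D : Set G)) {b : Set (IrrCharacter H)}
    (hind : IsInducedBlock M H b B) {T : Subgroup G}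
    (hT : ∀ g : G, g ∈ T ↔ (g ∈ Subgroup.normalizer (D : Set G) ∧ ∀ θ ∈ b,
      ∀ θ' : IrrCharacter H, (∀ h h' : H, (h' : G) = g * h * g⁻¹ →
        (θ' : H → ℂ) h' = (θ : H → ℂ) h) → θ' ∈ b))
    {c : ℕ} (hc : Nat.card (Subgroup.center D) = p ^ c) {χ : IrrCharacter G} (hχ : χ ∈ B) :
    p ^ (blockHeight p B (χ : G → ℂ) + c) ≤ H.relIndex T * p ^ blockDefect p B := by
  have hp : p.Prime := Fact.out
  have hpR : (0 : ℝ) < (p : ℝ) := by exact_mod_cast hp.pos
  obtain ⟨f, hA1, hA2⟩ := exists_center_family hM hB hBD hH hind hT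
  have hDcard : Nat.card D = p ^ blockDefect p B := card_defectGroup hM hB hBD
  set dB := blockDefect p B with hdB
  -- the centre of `D` as a subgroup of `G`
  set ZD : Subgroup G := (Subgroup.center D).map D.subtype with hZD
  have hZDcard : Nat.card ZD = p ^ c := by
    rw [hZD, Subgroup.card_map_of_injective (Subgroup.subtype_injective _), hc]
  have hZDmem : ∀ z : G, z ∈ ZD → z ∈ D ∧ ∀ x ∈ D, x * z = z * x := by
    intro z hz
    rw [hZD, Subgroup.mem_map] at hz
    obtain ⟨w, hw, rfl⟩ := hz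
    refine ⟨w.2, ?_⟩
    intro x hx
    have := Subgroup.mem_center_iff.mp hw ⟨x, hx⟩
    exact congrArg Subtype.val this
  -- basic facts about `z ∈ Z(D)`
  have hzQ : ∀ z : G, z ∈ ZD → Subgroup.zpowers z ≤ D := by
    intro z hz
    rw [Subgroup.zpowers_le]
    exact (hZDmem z hz).1
  have hzQC : ∀ z : G, z ∈ ZD → D ≤ Subgroup.centralizer (Subgroup.zpowers z : Set G) := by
    intro z hz x hx
    rw [mem_centralizer_zpowers_iff]
    exact ((hZDmem z hz).2 x hx).symm
  have hzpow : ∀ z : G, z ∈ ZD → z ^ p ^ dB = 1 := by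
    intro z hz
    have h1 : (⟨z, (hZDmem z hz).1⟩ : D) ^ Nat.card D = 1 := pow_card_eq_one'
    rw [hDcard] at h1
    exact congrArg Subtype.val h1
  have hzord : ∀ z : G, z ∈ ZD → ∃ k : ℕ, orderOf z = p ^ k := by
    intro z hz
    obtain ⟨k, -, hk⟩ := (Nat.dvd_prime_pow hp).mp (orderOf_dvd_of_pow_eq_one (hzpow z hz))
    exact ⟨k, hk⟩
  have hzH : ∀ z : G, z ∈ ZD → ∀ h ∈ H, h * z = z * h := by
    intro z hz
    have hle : H ≤ Subgroup.centralizer (Subgroup.zpowers z : Set G) := by
      rw [hH]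
      apply sup_le (hzQC z hz)
      apply Subgroup.centralizer_le
      intro x hx
      exact hzQ z hz hx
    intro h hh
    exact (((mem_centralizer_zpowers_iff z h).mp (hle hh)).eq).symm
  -- the contributions
  set mm : Subgroup G → G → (G → ℂ) → ℂ := fun Q u ψ =>
    secM p u (Subgroup.centralizer (Q : Set G)) (f Q) (χ : G → ℂ) ψ with hmm
  set Zfin : Finset G := Finset.univ.filter (fun z => z ∈ ZD) with hZfin
  have hZfinmem : ∀ z : G, z ∈ Zfin ↔ z ∈ ZD := by
    intro z
    rw [hZfin, Finset.mem_filter]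
    simp
  have hZfincard : Zfin.card = p ^ c := by
    rw [← hZDcard, Nat.card_eq_fintype_card, Fintype.card_subtype]
  -- the upper bound
  have hUB : ∑ z ∈ Zfin, (mm (Subgroup.zpowers z) z (χ : G → ℂ)).re ≤ (H.relIndex T : ℝ) := by
    have := sum_re_le_of_orthogonal Zfin
      (fun z (ψ : IrrCharacter G) => mm (Subgroup.zpowers z) z (ψ : G → ℂ)) χ
      (fun z z' => ∃ t ∈ T, t * z * t⁻¹ = z') (H.relIndex T) ?_ ?_ ?_ ?_
    · exact_mod_cast this
    · intro z hz
      rw [hZfinmem] at hz
      exact sum_secM_mul_conj hM z (hzord z hz) _ (mem_centralizer_zpowers_iff z)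
        (hA1 _ (hzQ z hz) (hzQC z hz)).1.1 (χ : G → ℂ)
    · intro z hz z' hz' hR
      rw [hZfinmem] at hz hz'
      apply sum_secM_mul_conj_eq_zero hM z z' (hzord z hz) (hzord z' hz') _ _
        (mem_centralizer_zpowers_iff z) (mem_centralizer_zpowers_iff z')
        (hA1 _ (hzQ z hz) (hzQC z hz)).1.1 (hA1 _ (hzQ z' hz') (hzQC z' hz')).1.1
      intro g hg hex
      apply hR
      have hmap : (Subgroup.zpowers z).map (MulAut.conj g).toMonoidHom = Subgroup.zpowers z' := by
        rw [MonoidHom.map_zpowers]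
        congr 1
      obtain ⟨t, ht, htx⟩ := hA2 _ _ (hzQ z hz) (hzQC z hz) (hzQ z' hz') (hzQC z' hz') g hmap hex
      exact ⟨t, ht, by rw [htx z (Subgroup.mem_zpowers z), hg]⟩
    · intro z hz
      rw [hZfinmem] at hz
      exact card_filter_conj_le H T z (hzH z hz) Zfin
    · intro z' hz'
      rw [hZfinmem] at hz'
      have hcongr : Zfin.filter (fun z => ∃ t ∈ T, t * z * t⁻¹ = z') =
          Zfin.filter (fun z => ∃ t ∈ T, t * z' * t⁻¹ = z) := by
        apply Finset.filter_congr
        intro z _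
        constructor
        · rintro ⟨t, ht, rfl⟩
          exact ⟨t⁻¹, T.inv_mem ht, by group⟩
        · rintro ⟨t, ht, rfl⟩
          exact ⟨t⁻¹, T.inv_mem ht, by group⟩
      rw [hcongr]
      exact card_filter_conj_le H T z' (hzH z' hz') Zfin
  -- the lower bound
  set N := p ^ dB with hN
  set J := (Finset.range N).filter (fun j => j.Coprime N) with hJ
  have hJcard : J.card = N.totient := by
    rw [hJ, Nat.totient_eq_card_coprime]
    congr 1
    ext j
    simp only [Finset.mem_filter, Finset.mem_range, Nat.coprime_comm]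
  set gg : G → ℝ := fun w => (p : ℝ) ^ dB * (mm (Subgroup.zpowers w) w (χ : G → ℂ)).re with hgg
  have hLBz : ∀ z ∈ Zfin, (N.totient : ℝ) * (p : ℝ) ^ blockHeight p B (χ : G → ℂ) ≤
      ∑ j ∈ J, gg (z ^ j) := by
    intro z hz
    rw [hZfinmem] at hz
    have h1 := sum_pow_mul_secM_ge hM B z (hzpow z hz) _ (mem_centralizer_zpowers_iff z)
      (f (Subgroup.zpowers z)) (hA1 _ (hzQ z hz) (hzQC z hz)).1 (hA1 _ (hzQ z hz) (hzQC z hz)).2 hχ
    refine h1.trans (le_of_eq ?_)
    apply Finset.sum_congr rfl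
    intro j hj
    have hjc : j.Coprime N := (Finset.mem_filter.mp hj).2
    have hcop : j.Coprime (orderOf z) :=
      Nat.Coprime.coprime_dvd_right (orderOf_dvd_of_pow_eq_one (hzpow z hz)) hjc
    have hzp : Subgroup.zpowers (z ^ j) = Subgroup.zpowers z := by
      apply le_antisymm
      · rw [Subgroup.zpowers_le]
        exact Subgroup.pow_mem _ (Subgroup.mem_zpowers z) j
      · rw [Subgroup.zpowers_le]
        obtain ⟨m, hm⟩ := exists_pow_eq_self_of_coprime hcop
        have hmem : (z ^ j) ^ m ∈ Subgroup.zpowers (z ^ j) :=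
          Subgroup.pow_mem _ (Subgroup.mem_zpowers (z ^ j)) m
        rwa [hm] at hmem
    show _ = (p : ℝ) ^ dB * (mm (Subgroup.zpowers (z ^ j)) (z ^ j) (χ : G → ℂ)).re
    rw [hzp]
  have hbij : ∀ j ∈ J, ∑ z ∈ Zfin, gg (z ^ j) = ∑ z ∈ Zfin, gg z := by
    intro j hj
    have hjc : j.Coprime N := (Finset.mem_filter.mp hj).2
    have hcop : (Nat.card ZD).Coprime j := by
      rw [hZDcard]
      rcases Nat.eq_zero_or_pos c with h0 | hpos
      · rw [h0, pow_zero]
        exact Nat.coprime_one_left j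
      · apply Nat.Coprime.pow_left
        rcases Nat.eq_zero_or_pos dB with hd0 | hdpos
        · -- then `D` is trivial, so `c = 0`
          exfalso
          have h1 : Nat.card ZD ∣ Nat.card D := by
            rw [hZD, Subgroup.card_map_of_injective (Subgroup.subtype_injective _)]
            exact Subgroup.card_subgroup_dvd_card _
          rw [hZDcard, hDcard, hN, hd0, pow_zero, Nat.dvd_one] at h1
          have : 1 < p ^ c := Nat.one_lt_pow hpos.ne' hp.one_lt
          omega
        · have : j.Coprime p := Nat.Coprime.coprime_dvd_right (dvd_pow_self p hdpos.ne') hjc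
          exact this.symm
    rw [Finset.sum_subtype Zfin hZfinmem (fun z => gg (z ^ j)),
      Finset.sum_subtype Zfin hZfinmem gg]
    exact Equiv.sum_comp (powCoprime hcop) (fun z : ZD => gg (z : G))
  have hLB : (p : ℝ) ^ c * (p : ℝ) ^ blockHeight p B (χ : G → ℂ) ≤ ∑ z ∈ Zfin, gg z := by
    have hφ : (0 : ℝ) < (N.totient : ℝ) := by
      have : 0 < N.totient := Nat.totient_pos.mpr (pow_pos hp.pos _)
      exact_mod_cast this
    have h1 : (Zfin.card : ℝ) * ((N.totient : ℝ) * (p : ℝ) ^ blockHeight p B (χ : G → ℂ)) ≤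
        ∑ z ∈ Zfin, ∑ j ∈ J, gg (z ^ j) := by
      rw [← nsmul_eq_mul, ← Finset.sum_const]
      exact Finset.sum_le_sum hLBz
    rw [Finset.sum_comm, Finset.sum_congr rfl hbij, Finset.sum_const, nsmul_eq_mul, hJcard,
      hZfincard] at h1
    have h2 : (N.totient : ℝ) * ((p : ℝ) ^ c * (p : ℝ) ^ blockHeight p B (χ : G → ℂ)) ≤
        (N.totient : ℝ) * ∑ z ∈ Zfin, gg z := by
      push_cast at h1
      linarith
    exact le_of_mul_le_mul_left h2 hφ
  -- conclusion
  have hfin : (p : ℝ) ^ (blockHeight p B (χ : G → ℂ) + c) ≤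
      (H.relIndex T : ℝ) * (p : ℝ) ^ dB := by
    calc (p : ℝ) ^ (blockHeight p B (χ : G → ℂ) + c)
        = (p : ℝ) ^ c * (p : ℝ) ^ blockHeight p B (χ : G → ℂ) := by rw [pow_add, mul_comm]
      _ ≤ ∑ z ∈ Zfin, gg z := hLB
      _ = (p : ℝ) ^ dB * ∑ z ∈ Zfin, (mm (Subgroup.zpowers z) z (χ : G → ℂ)).re := by
        rw [Finset.mul_sum]
      _ ≤ (p : ℝ) ^ dB * (H.relIndex T : ℝ) :=
        mul_le_mul_of_nonneg_left hUB (pow_pos hpR _).le
      _ = _ := mul_comm _ _
  exact_mod_cast hfin

end Cfsg.Agent.Lib.Helper79
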