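import Mathlib

/-!
# Extracting a nonsingular minor from a right-invertible matrix (helper79)
-/

set_option autoImplicit false

namespace Cfsg.Agent.Lib.Helper79

open Module in
/-- If `Ω * Φ` is a nonzero scalar matrix (`Ω` of size `r × β`), some `r` distinct columns of `Ω`
form a nonsingular matrix. -/
theorem exists_nonsingular_minor {k : Type*} [Field k] {β : Type*} [Fintype β] [DecidableEq β]
    {r : ℕ} (Ω : Matrix (Fin r) β k) (Φ : Matrix β (Fin r) k) (c : k) (hc : c ≠ 0)
    (h : Ω * Φ = c • (1 : Matrix (Fin r) (Fin r) k)) :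
    ∃ e : Fin r → β, Function.Injective e ∧
      (Matrix.of fun i j : Fin r => Ω j (e i)).det ≠ 0 := by
  classical
  set col : β → (Fin r → k) := fun B i => Ω i B with hcol
  have hspan : Submodule.span k (Set.range col) = ⊤ := by
    rw [eq_top_iff]
    intro v _
    have h1 : (Ω * Φ).mulVec v = c • v := by
      rw [h, Matrix.smul_mulVec, Matrix.one_mulVec]
    have h2 : (Ω * Φ).mulVec v = ∑ B : β, (Φ.mulVec v B) • col B := by
      rw [← Matrix.mulVec_mulVec]
      funext i
      simp only [Matrix.mulVec, dotProduct, Finset.sum_apply, Pi.smul_apply, smul_eq_mul, hcol]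
      apply Finset.sum_congr rfl
      intro B _
      ring
    have h3 : v = c⁻¹ • ∑ B : β, (Φ.mulVec v B) • col B := by
      rw [← h2, h1, smul_smul, inv_mul_cancel₀ hc, one_smul]
    rw [h3]
    apply Submodule.smul_mem
    apply Submodule.sum_mem
    intro B _
    exact Submodule.smul_mem _ _ (Submodule.subset_span ⟨B, rfl⟩)
  obtain ⟨f, hf1, -, hf3⟩ := Submodule.exists_fun_fin_finrank_span_eq k (Set.range col)
  have hn : finrank k (Submodule.span k (Set.range col)) = r := by
    rw [hspan, finrank_top, Module.finrank_fin_fun]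
  generalize finrank k (Submodule.span k (Set.range col)) = m at f hf1 hf3 hn
  subst hn
  choose e he using hf1
  have hfe : f = col ∘ e := by funext i; exact (he i).symm
  refine ⟨e, ?_, ?_⟩
  · intro i j hij
    apply hf3.injective
    rw [hfe]
    simp only [Function.comp_apply, hij]
  · set A : Matrix (Fin m) (Fin m) k := Matrix.of fun i j : Fin m => Ω j (e i) with hA
    have hrow : A.row = f := by
      rw [hfe]
      funext i j
      rfl
    have hU : IsUnit A := by
      rw [← Matrix.linearIndependent_rows_iff_isUnit, hrow]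
      exact hf3
    exact ((Matrix.isUnit_iff_isUnit_det A).mp hU).ne_zero

/-- Local-ring version: if `∑_B Ω B i * Φ B j ≡ c δ_{ij}` modulo a maximal ideal `𝔪` with
`c ∉ 𝔪`, then some `r` distinct indices `e i` make every matrix congruent to `(Ω (e i) j)`
modulo `𝔪` have determinant outside `𝔪`. -/
theorem exists_minor_of_congr {R : Type*} [CommRing R] (𝔪 : Ideal R) [hmax : 𝔪.IsMaximal]
    {β : Type*} [Fintype β] [DecidableEq β] {r : ℕ} (Ω Φ : β → Fin r → R) (c : R) (hc : c ∉ 𝔪)
    (h : ∀ i j : Fin r, (if i = j then c else 0) - ∑ B : β, Ω B i * Φ B j ∈ 𝔪) :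
    ∃ e : Fin r → β, Function.Injective e ∧
      ∀ A : Matrix (Fin r) (Fin r) R, (∀ i j, A i j - Ω (e i) j ∈ 𝔪) → A.det ∉ 𝔪 := by
  classical
  let _ : Field (R ⧸ 𝔪) := Ideal.Quotient.field 𝔪
  set π : R →+* R ⧸ 𝔪 := Ideal.Quotient.mk 𝔪 with hπ
  set Ωb : Matrix (Fin r) β (R ⧸ 𝔪) := Matrix.of fun i B => π (Ω B i) with hΩb
  set Φb : Matrix β (Fin r) (R ⧸ 𝔪) := Matrix.of fun B j => π (Φ B j) with hΦb
  have hcb : π c ≠ 0 := by
    intro h0
    exact hc (Ideal.Quotient.eq_zero_iff_mem.mp h0)
  have hmul : Ωb * Φb = π c • (1 : Matrix (Fin r) (Fin r) (R ⧸ 𝔪)) := by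
    ext i j
    rw [Matrix.mul_apply, Matrix.smul_apply, Matrix.one_apply, smul_eq_mul]
    simp only [hΩb, hΦb, Matrix.of_apply]
    have h1 : ∑ B : β, π (Ω B i) * π (Φ B j) = π (∑ B : β, Ω B i * Φ B j) := by
      rw [map_sum]
      apply Finset.sum_congr rfl
      intro B _
      rw [map_mul]
    rw [h1]
    have h2 : π (if i = j then c else 0) = π (∑ B : β, Ω B i * Φ B j) :=
      Ideal.Quotient.eq.mpr (h i j)
    rw [← h2]
    split_ifs <;> simp
  obtain ⟨e, hinj, hdet⟩ := exists_nonsingular_minor Ωb Φb (π c) hcb hmul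
  refine ⟨e, hinj, ?_⟩
  intro A hA hmem
  apply hdet
  have h3 : π A.det = 0 := Ideal.Quotient.eq_zero_iff_mem.mpr hmem
  rw [RingHom.map_det] at h3
  rw [← h3]
  congr 1
  ext i j
  simp only [Matrix.of_apply, hΩb, RingHom.mapMatrix_apply, Matrix.map_apply]
  exact (Ideal.Quotient.eq.mpr (hA i j)).symm

end Cfsg.Agent.Lib.Helper79
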