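import Cfsg.Agent.S0961
import Cfsg.Agent.Lib.Helper79.ClassCount

/-!
# The indicator of the `p`-elements as a generalized character (helper79)

`pElemFun p G` takes the value `|G|_{p'}` at the `p`-elements and `0` elsewhere.  By Brauer's
characterization it is a generalized character, hence `∑_{u p-element} χ(u⁻¹) = p^a * n` with `n`
an integer.
-/

set_option autoImplicit false

namespace Cfsg.Agent.Lib.Helper79

open Cfsg
open scoped ComplexConjugate

section Elementary

variable {E : Type*} [Group E] [Finite E]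

/-- An elementary group is nilpotent. -/
theorem isNilpotent_of_isElementary (q : ℕ) [Fact q.Prime] (hE : IsElementary q E) :
    Group.IsNilpotent E := by
  obtain ⟨x, hxc, -, k, hk⟩ := hE
  have hle : Subgroup.zpowers x ≤ Subgroup.center E := by
    intro n hn
    obtain ⟨i, rfl⟩ := Subgroup.mem_zpowers_iff.mp hn
    exact Subgroup.zpow_mem _ hxc i
  have hZn : (Subgroup.zpowers x).Normal := by
    constructor
    intro n hn g
    have hnc : n ∈ Subgroup.center E := hle hn
    have : g * n * g⁻¹ = n := by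
      rw [Subgroup.mem_center_iff] at hnc
      rw [hnc g, mul_inv_cancel_right]
    rwa [this]
  have hq : IsPGroup q (E ⧸ Subgroup.zpowers x) := by
    apply IsPGroup.of_card (n := k)
    rw [← hk, Subgroup.index_eq_card]
  have hnil : Group.IsNilpotent (E ⧸ Subgroup.zpowers x) := hq.isNilpotent
  apply Subgroup.isNilpotent_of_ker_le_center (QuotientGroup.mk' (Subgroup.zpowers x))
  rw [QuotientGroup.ker_mk']
  exact hle

/-- In a finite nilpotent group, the `p`-elements are the elements of the Sylow `p`-subgroup. -/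
theorem mem_sylow_iff_of_normal (p : ℕ) [Fact p.Prime] (P : Sylow p E)
    (hP : (P : Subgroup E).Normal) (e : E) :
    e ∈ (P : Subgroup E) ↔ ∃ k : ℕ, orderOf e = p ^ k := by
  constructor
  · intro he
    obtain ⟨k, hk⟩ := (IsPGroup.iff_orderOf.mp P.isPGroup') ⟨e, he⟩
    exact ⟨k, by rw [← hk, Subgroup.orderOf_mk]⟩
  · rintro ⟨k, hk⟩
    have hz : IsPGroup p (Subgroup.zpowers e) := by
      apply IsPGroup.of_card (n := k)
      rw [Nat.card_zpowers, hk]
    obtain ⟨Q, hQ⟩ := hz.exists_le_sylow
    obtain ⟨g, hg⟩ := MulAction.exists_smul_eq E P Q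
    have : Q = P := by rw [← hg]; exact Sylow.smul_eq_of_normal
    rw [← this]
    exact hQ (Subgroup.mem_zpowers e)

end Elementary

section Main

variable {G : Type*} [Group G] [Finite G]

open Classical in
/-- the value `|G|_{p'}` on `p`-elements, zero elsewhere -/
noncomputable def pElemFun (p : ℕ) (G : Type*) [Group G] : G → ℂ :=
  fun g => if ∃ k : ℕ, orderOf g = p ^ k then
    ((Nat.card G / p ^ (Nat.card G).factorization p : ℕ) : ℂ) else 0

omit [Finite G] in
theorem isClassFunction_pElemFun (p : ℕ) : IsClassFunction G (pElemFun p G) := by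
  intro g h
  unfold pElemFun
  have ho : orderOf (h * g * h⁻¹) = orderOf g := by
    have := MulEquiv.orderOf_eq (MulAut.conj h) g
    simpa [MulAut.conj_apply] using this
  rw [ho]

theorem isGeneralizedCharacter_pElemFun (p : ℕ) [Fact p.Prime] :
    IsGeneralizedCharacter G (pElemFun p G) := by
  classical
  have hp : p.Prime := Fact.out
  apply Cfsg.Agent.S0164.result _ (isClassFunction_pElemFun p)
  intro E q hq hE
  have : Fact q.Prime := ⟨hq⟩
  have : Fintype E := Fintype.ofFinite E
  have hnil : Group.IsNilpotent E := isNilpotent_of_isElementary q hE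
  obtain ⟨P⟩ : Nonempty (Sylow p E) := inferInstance
  have hPn : (P : Subgroup E).Normal := inferInstance
  -- the index of `P` divides `|G|_{p'}`
  set g' : ℕ := Nat.card G / p ^ (Nat.card G).factorization p with hg'
  have hidx : (P : Subgroup E).index ∣ g' := by
    have h1 : (P : Subgroup E).index ∣ Nat.card G :=
      (Subgroup.index_dvd_card _).trans (Subgroup.card_subgroup_dvd_card E)
    have h2 : ¬ p ∣ (P : Subgroup E).index := P.not_dvd_index
    have h3 : Nat.card G = p ^ (Nat.card G).factorization p * g' :=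
      (Nat.ordProj_mul_ordCompl_eq_self (Nat.card G) p).symm
    rw [h3] at h1
    exact (Nat.Coprime.pow_right _ ((Nat.Prime.coprime_iff_not_dvd hp).mpr h2).symm).dvd_of_dvd_mul_left h1
  obtain ⟨m, hm⟩ := hidx
  have hone : IsCharacter (P : Subgroup E) (fun _ : (P : Subgroup E) => (1 : ℂ)) :=
    Helper78.IsIrrCharacter.isCharacter Helper78.isIrrCharacter_one
  have hind : IsCharacter E (indFun (P : Subgroup E) (fun _ : (P : Subgroup E) => (1 : ℂ))) :=
    Cfsg.Agent.S0148.result _ _ hone
  have hmain : IsCharacter E ((m : ℂ) • indFun (P : Subgroup E)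
      (fun _ : (P : Subgroup E) => (1 : ℂ))) := Helper78.IsCharacter.nsmul hind m
  refine ⟨_, 0, hmain, Helper78.isCharacter_zero, ?_⟩
  funext e
  have hcl : IsClassFunction E (fun _ : E => (1 : ℂ)) := fun _ _ => rfl
  rw [sub_zero, Pi.smul_apply, smul_eq_mul,
    Cfsg.Agent.S0961.indFun_res_normal (P : Subgroup E) hcl]
  unfold pElemFun
  rw [Subgroup.orderOf_coe]
  by_cases he : e ∈ (P : Subgroup E)
  · rw [if_pos he, if_pos ((mem_sylow_iff_of_normal p P hPn e).mp he), ← hg', hm]
    push_cast
    ring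
  · rw [if_neg he, if_neg (fun h => he ((mem_sylow_iff_of_normal p P hPn e).mpr h)), mul_zero]

end Main

section Sums

variable {G : Type*} [Group G] [Fintype G]

/-- the inner product of `pElemFun` with an irreducible character is an integer -/
theorem exists_int_classInner_pElemFun (p : ℕ) [Fact p.Prime] (χ : IrrCharacter G) :
    ∃ n : ℤ, classInner (pElemFun p G) (χ : G → ℂ) = n := by
  obtain ⟨α, β, hα, hβ, h⟩ := isGeneralizedCharacter_pElemFun (G := G) p
  obtain ⟨a, ha⟩ := Helper78.IsCharacter.exists_nat_classInner hα χ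
  obtain ⟨b, hb⟩ := Helper78.IsCharacter.exists_nat_classInner hβ χ
  refine ⟨(a : ℤ) - b, ?_⟩
  rw [h]
  have : classInner (α - β) (χ : G → ℂ) = classInner α (χ : G → ℂ) - classInner β (χ : G → ℂ) := by
    unfold classInner
    simp only [Pi.sub_apply, sub_mul, Finset.sum_sub_distrib, mul_sub]
  rw [this, ha, hb]
  push_cast
  ring

/-- `∑_{u p-element} χ(u⁻¹) = p^a * n` -/
theorem sum_pElem_inv (p : ℕ) [Fact p.Prime] (χ : IrrCharacter G) (n : ℤ)
    (hn : classInner (pElemFun p G) (χ : G → ℂ) = n)
    [DecidablePred fun u : G => ∃ k : ℕ, orderOf u = p ^ k] :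
    ∑ u ∈ Finset.univ.filter (fun u : G => ∃ k : ℕ, orderOf u = p ^ k), (χ : G → ℂ) u⁻¹ =
      ((p ^ (Nat.card G).factorization p : ℕ) : ℂ) * n := by
  have hp : p.Prime := Fact.out
  have hχc : IsCharacter G (χ : G → ℂ) := Helper78.IsIrrCharacter.isCharacter χ.2
  rw [← hn]
  unfold classInner
  have h1 : ∀ g : G, pElemFun p G g * conj ((χ : G → ℂ) g) =
      if (∃ k : ℕ, orderOf g = p ^ k) then
        ((Nat.card G / p ^ (Nat.card G).factorization p : ℕ) : ℂ) * (χ : G → ℂ) g⁻¹ else 0 := by
    intro g
    unfold pElemFun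
    by_cases h : ∃ k : ℕ, orderOf g = p ^ k
    · rw [if_pos h, if_pos h, Helper78.IsCharacter.inv hχc]
    · rw [if_neg h, if_neg h, zero_mul]
  simp only [h1]
  rw [← Finset.sum_filter, ← Finset.mul_sum]
  have h3 : (Nat.card G : ℂ) = ((p ^ (Nat.card G).factorization p : ℕ) : ℂ) *
      ((Nat.card G / p ^ (Nat.card G).factorization p : ℕ) : ℂ) := by
    rw [← Nat.cast_mul, Nat.ordProj_mul_ordCompl_eq_self]
  have hG : (Nat.card G : ℂ) ≠ 0 := by exact_mod_cast Nat.card_pos.ne'
  have h4 : ((Nat.card G / p ^ (Nat.card G).factorization p : ℕ) : ℂ) ≠ 0 := by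
    intro h; rw [h, mul_zero] at h3; exact hG h3
  have h5 : ((p ^ (Nat.card G).factorization p : ℕ) : ℂ) ≠ 0 := by
    intro h; rw [h, zero_mul] at h3; exact hG h3
  rw [h3]
  field_simp

end Sums

end Cfsg.Agent.Lib.Helper79
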