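import Cfsg.Agent.Lib.Helper79.SepBlocks
import Cfsg.Agent.Lib.Helper79.ClassCount
import Cfsg.Agent.Lib.Helper78.BlockCount

/-!
# Tools for Robinson's count of blocks with a given normal defect group (helper79)
-/

set_option autoImplicit false

namespace Cfsg.Agent.Lib.Helper79

open Cfsg Cfsg.Agent.Lib.Helper16
open scoped ComplexConjugate

variable {G : Type*} [Group G] [Fintype G]

/-- identification of the defect group from a nonvanishing central character and a nonvanishing
idempotent coefficient -/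
theorem isDefectGroup_of_nonvanishing_coeff (p : ℕ) [Fact p.Prime] (M : Ideal AlgInt)
    (hM : IsPModular p M) (B : Set (IrrCharacter G)) (hB : IsPBlock M B)
    (D : Subgroup G) (xi xj : G)
    (hDi : ∃ S : Sylow p ↥(Subgroup.centralizer ({xi} : Set G)),
      (S : Subgroup ↥(Subgroup.centralizer ({xi} : Set G))).map
        (Subgroup.centralizer ({xi} : Set G)).subtype = D)
    (hDj : ∃ S : Sylow p ↥(Subgroup.centralizer ({xj} : Set G)),
      (S : Subgroup ↥(Subgroup.centralizer ({xj} : Set G))).map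
        (Subgroup.centralizer ({xj} : Set G)).subtype = D)
    (ψ : IrrCharacter G) (hψ : ψ ∈ B)
    (h1 : ¬ MemLocalIdeal M (centralChar (ψ : G → ℂ) xi))
    (hbc : ¬ MemLocalIdeal M (blockCoeff B xj)) :
    IsDefectGroup p M B D := by
  classical
  have hp : p.Prime := Fact.out
  have hMp : M.IsPrime := isPModular_isPrime hM
  have hMtop : M ≠ ⊤ := hMp.ne_top
  obtain ⟨g, hg⟩ := exists_isDefectClass (M := M) hB
  obtain ⟨DB⟩ : Nonempty (Sylow p ↥(Subgroup.centralizer ({g} : Set G))) := inferInstance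
  set DBm := (DB : Subgroup ↥(Subgroup.centralizer ({g} : Set G))).map
    (Subgroup.centralizer ({g} : Set G)).subtype with hDBm
  have hDBdef : IsDefectGroup p M B DBm := ⟨g, hg, DB, rfl⟩
  -- first inequality
  obtain ⟨x, Q, hQ⟩ := (Cfsg.Agent.S0911.result p M hM B hB g hg DB xi).2 ⟨ψ, hψ, h1⟩
  -- second inequality
  have hbr : MemLocalRing M (blockCoeff B xj) := Cfsg.Agent.S0913.result p M hM B hB xj
  obtain ⟨x', Q', hQ'⟩ := (Cfsg.Agent.S0911.result p M hM B hB g hg DB xj).1 hbr hbc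
  -- cardinalities
  obtain ⟨Si, hSi⟩ := hDi
  obtain ⟨Sj, hSj⟩ := hDj
  have hcDi : Nat.card D = p ^ (Nat.card (Subgroup.centralizer ({xi} : Set G))).factorization p := by
    rw [← hSi, card_sylow_map]
  have hcDj : Nat.card D = p ^ (Nat.card (Subgroup.centralizer ({xj} : Set G))).factorization p := by
    rw [← hSj, card_sylow_map]
  have hc1 : Nat.card DBm ≤ Nat.card D := by
    rw [hcDi, ← card_sylow_map Q, ← card_map_conj DBm x]
    exact Subgroup.card_le_of_le hQ
  have hc2 : Nat.card D ≤ Nat.card DBm := by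
    calc Nat.card D = p ^ (Nat.card (Subgroup.centralizer ({xj} : Set G))).factorization p := hcDj
      _ = Nat.card ((Q' : Subgroup ↥(Subgroup.centralizer ({xj} : Set G))).map
          (Subgroup.centralizer ({xj} : Set G)).subtype) := (card_sylow_map Q').symm
      _ ≤ Nat.card (DBm.map (MulAut.conj x').toMonoidHom) := Subgroup.card_le_of_le hQ'
      _ = Nat.card DBm := card_map_conj DBm x'
  have hcard : Nat.card DBm = Nat.card D := le_antisymm hc1 hc2
  -- conjugacy
  set Tm := DBm.map (MulAut.conj x).toMonoidHom with hTm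
  have hTle : Tm ≤ Subgroup.centralizer ({xi} : Set G) := by
    intro y hy
    obtain ⟨c, _, rfl⟩ := hQ hy
    exact c.2
  have hTcard : Nat.card Tm = Nat.card D := by rw [hTm, card_map_conj, hcard]
  have hTp : IsPGroup p Tm := by
    apply IsPGroup.of_card (n := (Nat.card (Subgroup.centralizer ({xi} : Set G))).factorization p)
    rw [hTcard, hcDi]
  obtain ⟨z, _, hz⟩ := exists_conj_sylow_map_ge (Subgroup.centralizer ({xi} : Set G)) Si Tm hTp hTle
  rw [hSi] at hz
  have hTz : Tm = D.map (MulAut.conj z).toMonoidHom :=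
    Subgroup.eq_of_le_of_card_ge hz (by rw [card_map_conj, hTcard])
  have hD : D = DBm.map (MulAut.conj (z⁻¹ * x)).toMonoidHom := by
    rw [← map_conj_map_conj, ← hTm, hTz, map_conj_map_conj]
    ext y
    rw [mem_map_conj_iff]
    have : (z⁻¹ * z)⁻¹ * y * (z⁻¹ * z) = y := by group
    rw [this]
  rw [hD]
  exact Cfsg.Agent.S4433.isDefectGroup_conj p M B DBm hDBdef (z⁻¹ * x)

/-- The `B`-part of the trivial-multiplicity function of a `p`-subgroup `P`, at a `p`-regular
element, is `|G|/|P|` times the idempotent coefficient. -/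
theorem sum_block_subgroup_mul_pReg (p : ℕ) [Fact p.Prime] (M : Ideal AlgInt) (hM : IsPModular p M)
    (B : Set (IrrCharacter G)) (hB : IsPBlock M B) (T : Finset (IrrCharacter G))
    (hT : ∀ χ, χ ∈ T ↔ χ ∈ B) (P : Subgroup G) [Fintype P] (hP : IsPGroup p P)
    (m : IrrCharacter G → ℕ)
    (hm : ∀ χ : IrrCharacter G, ∑ u : P, (χ : G → ℂ) ((u : G)⁻¹) = (Nat.card P : ℂ) * m χ)
    (w : G) (hw : ¬ p ∣ orderOf w) :
    (Nat.card P : ℂ) * ∑ χ ∈ T, (m χ : ℂ) * (χ : G → ℂ) w =
      (Nat.card G : ℂ) * blockCoeff B w⁻¹ := by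
  classical
  have hp : p.Prime := Fact.out
  have hG : (Nat.card G : ℂ) ≠ 0 := by exact_mod_cast Nat.card_pos.ne'
  -- block orthogonality kills `u ≠ 1`
  have horth : ∀ u : P, u ≠ 1 → ∑ χ ∈ T, (χ : G → ℂ) w * (χ : G → ℂ) (u : G)⁻¹ = 0 := by
    intro u hu1
    have hw1 : IsPPart p w 1 := by
      refine ⟨w, one_mul w, Commute.one_left w, ⟨0, by rw [orderOf_one, pow_zero]⟩, hw⟩
    have hupow : ∃ k : ℕ, orderOf (u : G) = p ^ k := by
      obtain ⟨k, hk⟩ := hP u
      have h1 : orderOf u ∣ p ^ k := orderOf_dvd_of_pow_eq_one hk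
      obtain ⟨j, -, hj⟩ := (Nat.dvd_prime_pow hp).mp h1
      exact ⟨j, by rw [Subgroup.orderOf_coe, hj]⟩
    have huu : IsPPart p (u : G) (u : G) := by
      refine ⟨1, mul_one _, Commute.one_right _, hupow, ?_⟩
      rw [orderOf_one]
      exact hp.one_lt.ne' ∘ Nat.dvd_one.mp
    have hnc : ¬ IsConj (1 : G) (u : G) := by
      intro h
      apply hu1
      have := isConj_one_left.mp h.symm
      exact Subtype.ext this
    have := (Cfsg.Agent.S0925.result p M hM).2 w (u : G) 1 (u : G) hw1 huu hnc B hB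
    rw [finsum_mem_eq_finite_toFinset_sum _ (Set.toFinite B)] at this
    rw [← this]
    apply Finset.sum_congr
    · ext χ; rw [hT, Set.Finite.mem_toFinset]
    · intro χ _; rfl
  have h1 : (Nat.card P : ℂ) * ∑ χ ∈ T, (m χ : ℂ) * (χ : G → ℂ) w =
      ∑ χ ∈ T, (χ : G → ℂ) w * (χ : G → ℂ) 1 := by
    rw [Finset.mul_sum]
    have h2 : ∀ χ ∈ T, (Nat.card P : ℂ) * ((m χ : ℂ) * (χ : G → ℂ) w) =
        ∑ u : P, (χ : G → ℂ) w * (χ : G → ℂ) (u : G)⁻¹ := by
      intro χ _
      rw [← Finset.mul_sum, hm χ]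
      ring
    rw [Finset.sum_congr rfl h2, Finset.sum_comm]
    rw [Finset.sum_eq_single (1 : P) (fun u _ hu1 => horth u hu1)
      (fun h => absurd (Finset.mem_univ _) h)]
    simp
  have h6 : blockCoeff B w⁻¹ = (Nat.card G : ℂ)⁻¹ * ∑ χ ∈ T, (χ : G → ℂ) w * (χ : G → ℂ) 1 := by
    unfold blockCoeff
    rw [finsum_mem_eq_finite_toFinset_sum _ (Set.toFinite B)]
    congr 1
    apply Finset.sum_congr
    · ext χ; rw [hT, Set.Finite.mem_toFinset]
    · intro χ _
      have hχc : IsCharacter G (χ : G → ℂ) := Helper78.IsIrrCharacter.isCharacter χ.2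
      rw [Helper78.IsCharacter.inv hχc, Complex.conj_conj]
      ring
  rw [h6, ← h1]
  field_simp

/-- conjugator pairs versus pairs of conjugates -/
theorem card_conjugator_pairs [DecidableEq G] (x y : G) (Pr : G → G → Prop) [DecidableRel Pr] :
    (Finset.univ.filter
      (fun ab : G × G => Pr (ab.1 * x * ab.1⁻¹) (ab.2 * y * ab.2⁻¹))).card =
      Nat.card (Subgroup.centralizer ({x} : Set G)) *
        Nat.card (Subgroup.centralizer ({y} : Set G)) *
        Nat.card {yz : G × G // IsConj x yz.1 ∧ IsConj y yz.2 ∧ Pr yz.1 yz.2} := by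
  classical
  set s := Finset.univ.filter
      (fun ab : G × G => Pr (ab.1 * x * ab.1⁻¹) (ab.2 * y * ab.2⁻¹)) with hs
  set t := Finset.univ.filter
      (fun yz : G × G => IsConj x yz.1 ∧ IsConj y yz.2 ∧ Pr yz.1 yz.2) with ht
  set f : G × G → G × G := fun ab => (ab.1 * x * ab.1⁻¹, ab.2 * y * ab.2⁻¹) with hf
  have hmaps : ∀ ab ∈ s, f ab ∈ t := by
    intro ab hab
    rw [hs, Finset.mem_filter] at hab
    rw [ht, Finset.mem_filter]
    exact ⟨Finset.mem_univ _, isConj_iff.mpr ⟨ab.1, rfl⟩, isConj_iff.mpr ⟨ab.2, rfl⟩, hab.2⟩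
  have h1 : s.card = ∑ yz ∈ t, (s.filter (fun ab => f ab = yz)).card :=
    Finset.card_eq_sum_card_fiberwise hmaps
  have h2 : ∀ yz ∈ t, (s.filter (fun ab => f ab = yz)).card =
      Nat.card (Subgroup.centralizer ({x} : Set G)) *
        Nat.card (Subgroup.centralizer ({y} : Set G)) := by
    intro yz hyz
    rw [ht, Finset.mem_filter] at hyz
    have h3 : s.filter (fun ab => f ab = yz) =
        (Finset.univ.filter (fun a : G => a * x * a⁻¹ = yz.1)) ×ˢ
          (Finset.univ.filter (fun b : G => b * y * b⁻¹ = yz.2)) := by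
      ext ab
      simp only [hs, hf, Finset.mem_filter, Finset.mem_univ, true_and, Finset.mem_product,
        Prod.ext_iff]
      constructor
      · rintro ⟨-, h⟩
        exact h
      · rintro ⟨ha, hb⟩
        refine ⟨?_, ha, hb⟩
        rw [ha, hb]
        exact hyz.2.2.2
    rw [h3, Finset.card_product]
    congr 1
    · rw [← Cfsg.Agent.Lib.Helper81.card_conjugators_of_isConj hyz.2.1, Nat.card_eq_fintype_card,
        Fintype.card_subtype]
    · rw [← Cfsg.Agent.Lib.Helper81.card_conjugators_of_isConj hyz.2.2.1, Nat.card_eq_fintype_card,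
        Fintype.card_subtype]
  rw [h1, Finset.sum_congr rfl h2, Finset.sum_const, smul_eq_mul, mul_comm]
  congr 1
  rw [Nat.card_eq_fintype_card, Fintype.card_subtype]

/-- Summing `card_conj_pairs` over a subgroup `P`, with the multiplicities made explicit. -/
theorem sum_card_conj_pairs_subgroup' [DecidableEq G]
    (x y : G) (P : Subgroup G) [Fintype P] (m : IrrCharacter G → ℕ)
    (hm : ∀ χ : IrrCharacter G, ∑ u : P, (χ : G → ℂ) ((u : G)⁻¹) = (Nat.card P : ℂ) * m χ) :
      (∑ u : P, ((Finset.univ.filter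
          (fun ab : G × G => ab.1 * x * ab.1⁻¹ * (ab.2 * y * ab.2⁻¹) = (u : G))).card : ℂ)) =
        (Nat.card G : ℂ) * (Nat.card P : ℂ) * ∑ χ : Cfsg.IrrCharacter G,
          (m χ : ℂ) * ((χ : G → ℂ) x * (χ : G → ℂ) y) / (χ : G → ℂ) 1 := by
  simp only [card_conj_pairs]
  rw [← Finset.mul_sum, Finset.sum_comm, mul_assoc]
  congr 1
  rw [Finset.mul_sum]
  apply Finset.sum_congr rfl
  intro χ _
  have : ∀ u : P, (χ : G → ℂ) x * (χ : G → ℂ) y * (χ : G → ℂ) ((u : G)⁻¹) / (χ : G → ℂ) 1 =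
      ((χ : G → ℂ) x * (χ : G → ℂ) y / (χ : G → ℂ) 1) * (χ : G → ℂ) ((u : G)⁻¹) := by
    intro u; ring
  rw [Finset.sum_congr rfl (fun u _ => this u), ← Finset.mul_sum, hm χ]
  ring

/-- Robinson's count: the number of pairs of conjugates of `x` and `y` whose quotient lies in `P`,
times `|C(y)|`, as a character sum. -/
theorem robinson_count (x y : G) (P : Subgroup G) [Fintype P] (m : IrrCharacter G → ℕ)
    (hm : ∀ χ : IrrCharacter G, ∑ u : P, (χ : G → ℂ) ((u : G)⁻¹) = (Nat.card P : ℂ) * m χ) :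
    (Nat.card (Subgroup.centralizer ({y} : Set G)) : ℂ) *
      (Nat.card {yz : G × G // IsConj x yz.1 ∧ IsConj y yz.2 ∧ yz.2 * yz.1⁻¹ ∈ P} : ℂ) =
    (Nat.card P : ℂ) * ∑ χ : IrrCharacter G,
      (m χ : ℂ) * (centralChar (χ : G → ℂ) x * (χ : G → ℂ) y⁻¹) := by
  classical
  have hcount := card_conjugator_pairs x y (fun u v => v * u⁻¹ ∈ P)
  -- rewrite the conjugator-pair count as a sum over `P`
  set s := Finset.univ.filter
      (fun ab : G × G => (ab.2 * y * ab.2⁻¹) * (ab.1 * x * ab.1⁻¹)⁻¹ ∈ P) with hs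
  have hinv : ∀ b : G, (b * y * b⁻¹)⁻¹ = b * y⁻¹ * b⁻¹ := by intro b; group
  set f : G × G → G := fun ab => ab.1 * x * ab.1⁻¹ * (ab.2 * y⁻¹ * ab.2⁻¹) with hf
  set t : Finset G := Finset.univ.filter (fun u : G => u ∈ P) with ht
  have hfs : ∀ ab : G × G, ab ∈ s ↔ f ab ∈ P := by
    intro ab
    simp only [hs, Finset.mem_filter, Finset.mem_univ, true_and, hf]
    rw [← hinv, ← P.inv_mem_iff]
    have : ((ab.2 * y * ab.2⁻¹) * (ab.1 * x * ab.1⁻¹)⁻¹)⁻¹ =
        ab.1 * x * ab.1⁻¹ * (ab.2 * y * ab.2⁻¹)⁻¹ := by group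
    rw [this]
  have hmaps : ∀ ab ∈ s, f ab ∈ t := by
    intro ab hab
    rw [ht, Finset.mem_filter]
    exact ⟨Finset.mem_univ _, (hfs ab).mp hab⟩
  have h1 : s.card = ∑ u ∈ t, (s.filter (fun ab => f ab = u)).card :=
    Finset.card_eq_sum_card_fiberwise hmaps
  have h2 : ∀ u ∈ t, s.filter (fun ab => f ab = u) =
      Finset.univ.filter (fun ab : G × G => ab.1 * x * ab.1⁻¹ * (ab.2 * y⁻¹ * ab.2⁻¹) = u) := by
    intro u hu
    rw [ht, Finset.mem_filter] at hu
    ext ab
    simp only [Finset.mem_filter, Finset.mem_univ, true_and]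
    constructor
    · exact fun h => h.2
    · intro h
      refine ⟨(hfs ab).mpr ?_, h⟩
      rw [hf]
      simp only
      rw [h]
      exact hu.2
  have h3 : (s.card : ℂ) = ∑ u : P, ((Finset.univ.filter
      (fun ab : G × G => ab.1 * x * ab.1⁻¹ * (ab.2 * y⁻¹ * ab.2⁻¹) = (u : G))).card : ℂ) := by
    rw [h1, Finset.sum_congr rfl (fun u hu => by rw [h2 u hu])]
    push_cast
    rw [Finset.sum_subtype t (p := fun u : G => u ∈ P) (by intro u; simp [ht])]
  rw [sum_card_conj_pairs_subgroup' x y⁻¹ P m hm] at h3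
  have hcx : (Nat.card (Subgroup.centralizer ({x} : Set G)) : ℂ) ≠ 0 := by
    exact_mod_cast Nat.card_pos.ne'
  have hG : (Nat.card G : ℂ) ≠ 0 := by exact_mod_cast Nat.card_pos.ne'
  have hidx : ((Subgroup.centralizer ({x} : Set G)).index : ℂ) *
      (Nat.card (Subgroup.centralizer ({x} : Set G)) : ℂ) = (Nat.card G : ℂ) := by
    rw [← Nat.cast_mul, mul_comm, Subgroup.card_mul_index]
  have h4 : (s.card : ℂ) = (Nat.card (Subgroup.centralizer ({x} : Set G)) : ℂ) *
      (Nat.card (Subgroup.centralizer ({y} : Set G)) : ℂ) *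
      (Nat.card {yz : G × G // IsConj x yz.1 ∧ IsConj y yz.2 ∧ yz.2 * yz.1⁻¹ ∈ P} : ℂ) := by
    rw [hs, hcount]
    push_cast
    ring
  rw [h4] at h3
  have h5 : ∑ χ : IrrCharacter G, (m χ : ℂ) * (centralChar (χ : G → ℂ) x * (χ : G → ℂ) y⁻¹) =
      ((Subgroup.centralizer ({x} : Set G)).index : ℂ) * ∑ χ : IrrCharacter G,
          (m χ : ℂ) * ((χ : G → ℂ) x * (χ : G → ℂ) y⁻¹) / (χ : G → ℂ) 1 := by
    rw [Finset.mul_sum]
    apply Finset.sum_congr rfl
    intro χ _
    unfold centralChar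
    ring
  rw [h5]
  apply mul_left_cancel₀ hcx
  rw [← mul_assoc, h3, ← hidx]
  ring

omit [Fintype G] in
/-- a normal subgroup is fixed by conjugation -/
theorem map_conj_eq_of_normal (D : Subgroup G) [hD : D.Normal] (y : G) :
    D.map (MulAut.conj y).toMonoidHom = D := by
  ext z
  rw [mem_map_conj_iff]
  constructor
  · intro h
    have := hD.conj_mem _ h y
    have h2 : y * (y⁻¹ * z * y) * y⁻¹ = z := by group
    rwa [h2] at this
  · intro h
    have := hD.conj_mem _ h y⁻¹
    rwa [inv_inv] at this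

/-- For blocks `B, B'` with the normal defect group `D`, an element at which both the idempotent
coefficient of `B` and a central character of `B'` survive modulo `M` is `p`-regular with `D` a
Sylow `p`-subgroup of its centralizer. -/
theorem sylow_centralizer_eq_of_nonvanishing (p : ℕ) [Fact p.Prime] (M : Ideal AlgInt)
    (hM : IsPModular p M) (D : Subgroup G) [D.Normal]
    (B B' : Set (IrrCharacter G)) (hB : IsPBlock M B) (hB' : IsPBlock M B')
    (hBD : IsDefectGroup p M B D) (hBD' : IsDefectGroup p M B' D)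
    (ψ : IrrCharacter G) (hψ : ψ ∈ B') (x : G)
    (hf : ¬ MemLocalIdeal M (blockCoeff B x))
    (hw : ¬ MemLocalIdeal M (centralChar (ψ : G → ℂ) x)) :
    ¬ p ∣ orderOf x ∧ ∃ Q : Sylow p ↥(Subgroup.centralizer ({x} : Set G)),
      (Q : Subgroup ↥(Subgroup.centralizer ({x} : Set G))).map
        (Subgroup.centralizer ({x} : Set G)).subtype = D := by
  classical
  have hp : p.Prime := Fact.out
  have hMp : M.IsPrime := isPModular_isPrime hM
  constructor
  · intro hdiv
    apply hf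
    have h1 := Cfsg.Agent.Lib.Helper78.weak_block_orthogonality hM hB (1 : G) x
      (by simp [hp.one_lt.ne']) hdiv
    have h2 : blockCoeff B x = 0 := by
      unfold blockCoeff
      rw [h1, mul_zero]
    rw [h2]
    exact memLocalIdeal_zero hMp.ne_top
  · obtain ⟨g, hg, P, hDP⟩ := hBD
    obtain ⟨g', hg', P', hDP'⟩ := hBD'
    have hbr : MemLocalRing M (blockCoeff B x) := Cfsg.Agent.S0913.result p M hM B hB x
    obtain ⟨y, Q, hQ⟩ := (Cfsg.Agent.S0911.result p M hM B hB g hg P x).1 hbr hf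
    obtain ⟨y', Q', hQ'⟩ := (Cfsg.Agent.S0911.result p M hM B' hB' g' hg' P' x).2 ⟨ψ, hψ, hw⟩
    rw [← hDP, map_conj_eq_of_normal] at hQ
    rw [← hDP', map_conj_eq_of_normal] at hQ'
    refine ⟨Q', ?_⟩
    symm
    apply Subgroup.eq_of_le_of_card_ge hQ'
    rw [card_sylow_map Q', ← card_sylow_map Q]
    exact Subgroup.card_le_of_le hQ

end Cfsg.Agent.Lib.Helper79
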