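import Cfsg.Agent.Lib.Helper79.SepIdentity
import Cfsg.Agent.Lib.Helper79.Schur
import Cfsg.Agent.Lib.Helper16.DefectConj
import Cfsg.Agent.Lib.Helper16.DefectClass
import Cfsg.Agent.Lib.Helper76.PRegular
import Cfsg.Agent.S0913
import Cfsg.Agent.S0925
import Cfsg.Agent.S4433

/-!
# Blocks detected by classes separated by `p`-elements (helper79)
-/

set_option autoImplicit false

namespace Cfsg.Agent.Lib.Helper79

open Cfsg Cfsg.Agent.Lib.Helper16
open scoped ComplexConjugate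

variable {G : Type*} [Group G] [Fintype G]

/-- central-character form of `sep_identity`, diagonal case -/
theorem sep_centralChar_self (p : ℕ) [Fact p.Prime] (x : G)
    (hsep : ∀ a b : G, (∃ k : ℕ, orderOf (a * x * a⁻¹ * (b * x * b⁻¹)⁻¹) = p ^ k) →
      a * x * a⁻¹ = b * x * b⁻¹)
    (n : IrrCharacter G → ℤ) (hn : ∀ χ : IrrCharacter G,
      classInner (pElemFun p G) (χ : G → ℂ) = n χ) :
    ∑ χ : IrrCharacter G, (n χ : ℂ) * (centralChar (χ : G → ℂ) x * (χ : G → ℂ) x⁻¹) =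
      ((Nat.card G / p ^ (Nat.card G).factorization p : ℕ) : ℂ) := by
  classical
  have h := sep_identity p x x hsep n hn
  rw [card_conj_eq_self] at h
  have hG : (Nat.card G : ℂ) ≠ 0 := by exact_mod_cast Nat.card_pos.ne'
  have h3 : (Nat.card G : ℂ) = ((p ^ (Nat.card G).factorization p : ℕ) : ℂ) *
      ((Nat.card G / p ^ (Nat.card G).factorization p : ℕ) : ℂ) := by
    rw [← Nat.cast_mul, Nat.ordProj_mul_ordCompl_eq_self]
  have h5 : ((p ^ (Nat.card G).factorization p : ℕ) : ℂ) ≠ 0 := by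
    intro h'; rw [h', zero_mul] at h3; exact hG h3
  have hidx : ((Subgroup.centralizer ({x} : Set G)).index : ℂ) *
      (Nat.card (Subgroup.centralizer ({x} : Set G)) : ℂ) = (Nat.card G : ℂ) := by
    rw [← Nat.cast_mul, mul_comm, Subgroup.card_mul_index]
  have hC : (Nat.card (Subgroup.centralizer ({x} : Set G)) : ℂ) ≠ 0 := by
    exact_mod_cast Nat.card_pos.ne'
  have h6 : ∑ χ : IrrCharacter G, (n χ : ℂ) * (centralChar (χ : G → ℂ) x * (χ : G → ℂ) x⁻¹) =
      ((Subgroup.centralizer ({x} : Set G)).index : ℂ) *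
        ∑ χ : IrrCharacter G, (n χ : ℂ) * ((χ : G → ℂ) x * (χ : G → ℂ) x⁻¹ / (χ : G → ℂ) 1) := by
    rw [Finset.mul_sum]
    apply Finset.sum_congr rfl
    intro χ _
    unfold centralChar
    ring
  rw [h6]
  push_cast at h
  have h7 : ∑ χ : IrrCharacter G, (n χ : ℂ) *
      ((χ : G → ℂ) x * (χ : G → ℂ) x⁻¹ / (χ : G → ℂ) 1) =
      (Nat.card (Subgroup.centralizer ({x} : Set G)) : ℂ) /
        ((p : ℂ) ^ (Nat.card G).factorization p) := by
    have h5' : ((p : ℂ) ^ (Nat.card G).factorization p) ≠ 0 := by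
      simpa using h5
    field_simp
    field_simp at h
    linear_combination h
  rw [h7]
  push_cast at h3 h5
  have h5' : ((p : ℂ) ^ (Nat.card G).factorization p) ≠ 0 := h5
  have : ((Nat.card G / p ^ (Nat.card G).factorization p : ℕ) : ℂ) =
      (Nat.card G : ℂ) / ((p : ℂ) ^ (Nat.card G).factorization p) := by
    rw [h3]; field_simp
  rw [this, ← hidx]
  field_simp

/-- central-character form of `sep_identity`, off-diagonal case -/
theorem sep_centralChar_ne (p : ℕ) [Fact p.Prime] (x y : G) (hxy : ¬ IsConj x y)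
    (hsep : ∀ a b : G, (∃ k : ℕ, orderOf (a * x * a⁻¹ * (b * y * b⁻¹)⁻¹) = p ^ k) →
      a * x * a⁻¹ = b * y * b⁻¹)
    (n : IrrCharacter G → ℤ) (hn : ∀ χ : IrrCharacter G,
      classInner (pElemFun p G) (χ : G → ℂ) = n χ) :
    ∑ χ : IrrCharacter G, (n χ : ℂ) * (centralChar (χ : G → ℂ) x * (χ : G → ℂ) y⁻¹) = 0 := by
  classical
  have h := sep_identity p x y hsep n hn
  have hempty : Finset.univ.filter
      (fun ab : G × G => ab.1 * x * ab.1⁻¹ = ab.2 * y * ab.2⁻¹) = ∅ := by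
    rw [Finset.filter_eq_empty_iff]
    intro ab _ hab
    apply hxy
    rw [isConj_iff]
    refine ⟨ab.2⁻¹ * ab.1, ?_⟩
    calc ab.2⁻¹ * ab.1 * x * (ab.2⁻¹ * ab.1)⁻¹ = ab.2⁻¹ * (ab.1 * x * ab.1⁻¹) * ab.2 := by group
      _ = ab.2⁻¹ * (ab.2 * y * ab.2⁻¹) * ab.2 := by rw [hab]
      _ = y := by group
  rw [hempty, Finset.card_empty, Nat.cast_zero] at h
  have hG : (Nat.card G : ℂ) ≠ 0 := by exact_mod_cast Nat.card_pos.ne'
  have hp : p.Prime := Fact.out
  have h5 : ((p ^ (Nat.card G).factorization p : ℕ) : ℂ) ≠ 0 := by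
    exact_mod_cast (pow_pos hp.pos _).ne'
  have h0 : ∑ χ : IrrCharacter G, (n χ : ℂ) *
      ((χ : G → ℂ) x * (χ : G → ℂ) y⁻¹ / (χ : G → ℂ) 1) = 0 := by
    rcases mul_eq_zero.mp h with h' | h'
    · rcases mul_eq_zero.mp h' with h'' | h''
      · exact absurd h'' hG
      · exact absurd h'' h5
    · exact h'
  have h6 : ∑ χ : IrrCharacter G, (n χ : ℂ) * (centralChar (χ : G → ℂ) x * (χ : G → ℂ) y⁻¹) =
      ((Subgroup.centralizer ({x} : Set G)).index : ℂ) *
        ∑ χ : IrrCharacter G, (n χ : ℂ) * ((χ : G → ℂ) x * (χ : G → ℂ) y⁻¹ / (χ : G → ℂ) 1) := by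
    rw [Finset.mul_sum]
    apply Finset.sum_congr rfl
    intro χ _
    unfold centralChar
    ring
  rw [h6, h0, mul_zero]


/-- `p`-regular case: the `B`-part of `pElemFun` at a `p`-regular element is `|G|_{p'}` times
the idempotent coefficient. -/
theorem sum_block_int_mul_pReg (p : ℕ) [Fact p.Prime] (M : Ideal AlgInt) (hM : IsPModular p M)
    (B : Set (IrrCharacter G)) (hB : IsPBlock M B) (T : Finset (IrrCharacter G))
    (hT : ∀ χ, χ ∈ T ↔ χ ∈ B)
    (n : IrrCharacter G → ℤ) (hn : ∀ χ : IrrCharacter G,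
      classInner (pElemFun p G) (χ : G → ℂ) = n χ) (w : G) (hw : ¬ p ∣ orderOf w) :
    ∑ χ ∈ T, (n χ : ℂ) * (χ : G → ℂ) w =
      ((Nat.card G / p ^ (Nat.card G).factorization p : ℕ) : ℂ) * blockCoeff B w⁻¹ := by
  classical
  have hp : p.Prime := Fact.out
  have hG : (Nat.card G : ℂ) ≠ 0 := by exact_mod_cast Nat.card_pos.ne'
  have h3 : (Nat.card G : ℂ) = ((p ^ (Nat.card G).factorization p : ℕ) : ℂ) *
      ((Nat.card G / p ^ (Nat.card G).factorization p : ℕ) : ℂ) := by
    rw [← Nat.cast_mul, Nat.ordProj_mul_ordCompl_eq_self]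
  have h5 : ((p ^ (Nat.card G).factorization p : ℕ) : ℂ) ≠ 0 := by
    exact_mod_cast (pow_pos hp.pos _).ne'
  set t := Finset.univ.filter (fun u : G => ∃ k : ℕ, orderOf u = p ^ k) with ht
  -- block orthogonality kills `u ≠ 1`
  have horth : ∀ u ∈ t, u ≠ 1 → ∑ χ ∈ T, (χ : G → ℂ) w * (χ : G → ℂ) u⁻¹ = 0 := by
    intro u hu hu1
    rw [ht, Finset.mem_filter] at hu
    have hw1 : IsPPart p w 1 := by
      refine ⟨w, one_mul w, Commute.one_left w, ⟨0, by rw [orderOf_one, pow_zero]⟩, hw⟩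
    have huu : IsPPart p u u := by
      refine ⟨1, mul_one u, Commute.one_right u, hu.2, ?_⟩
      rw [orderOf_one]
      exact hp.one_lt.ne' ∘ Nat.dvd_one.mp
    have hnc : ¬ IsConj (1 : G) u := by
      intro h
      exact hu1 (isConj_one_left.mp h.symm)
    have := (Cfsg.Agent.S0925.result p M hM).2 w u 1 u hw1 huu hnc B hB
    rw [finsum_mem_eq_finite_toFinset_sum _ (Set.toFinite B)] at this
    rw [← this]
    apply Finset.sum_congr
    · ext χ; rw [hT, Set.Finite.mem_toFinset]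
    · intro χ _; rfl
  have h1 : ((p ^ (Nat.card G).factorization p : ℕ) : ℂ) * ∑ χ ∈ T, (n χ : ℂ) * (χ : G → ℂ) w =
      ∑ χ ∈ T, (χ : G → ℂ) w * (χ : G → ℂ) 1 := by
    rw [Finset.mul_sum]
    have h2 : ∀ χ ∈ T, ((p ^ (Nat.card G).factorization p : ℕ) : ℂ) * ((n χ : ℂ) * (χ : G → ℂ) w) =
        ∑ u ∈ t, (χ : G → ℂ) w * (χ : G → ℂ) u⁻¹ := by
      intro χ _
      rw [← Finset.mul_sum, sum_pElem_inv p χ (n χ) (hn χ)]
      ring
    rw [Finset.sum_congr rfl h2, Finset.sum_comm]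
    have h1t : (1 : G) ∈ t := by
      rw [ht, Finset.mem_filter]
      exact ⟨Finset.mem_univ _, 0, by rw [orderOf_one, pow_zero]⟩
    rw [Finset.sum_eq_single_of_mem 1 h1t (fun u hu hu1 => horth u hu hu1), inv_one]
  have h6 : blockCoeff B w⁻¹ = (Nat.card G : ℂ)⁻¹ * ∑ χ ∈ T, (χ : G → ℂ) w * (χ : G → ℂ) 1 := by
    unfold blockCoeff
    rw [finsum_mem_eq_finite_toFinset_sum _ (Set.toFinite B)]
    congr 1
    apply Finset.sum_congr
    · ext χ; rw [hT, Set.Finite.mem_toFinset]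
    · intro χ _
      have hχc : IsCharacter G (χ : G → ℂ) := Helper78.IsIrrCharacter.isCharacter χ.2
      rw [Helper78.IsCharacter.inv hχc, Complex.conj_conj]
      ring
  have h4 : ((Nat.card G / p ^ (Nat.card G).factorization p : ℕ) : ℂ) ≠ 0 := by
    intro h'; rw [h', mul_zero] at h3; exact hG h3
  rw [h6, ← h1, h3]
  field_simp

/-- general case: congruence modulo the local ideal. -/
theorem sum_block_int_mul_congr (p : ℕ) [Fact p.Prime] (M : Ideal AlgInt) (hM : IsPModular p M)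
    (B : Set (IrrCharacter G)) (hB : IsPBlock M B) (T : Finset (IrrCharacter G))
    (hT : ∀ χ, χ ∈ T ↔ χ ∈ B)
    (n : IrrCharacter G → ℤ) (hn : ∀ χ : IrrCharacter G,
      classInner (pElemFun p G) (χ : G → ℂ) = n χ) (z a : G) (ha : IsPPart p z a) :
    MemLocalIdeal M (∑ χ ∈ T, (n χ : ℂ) * (χ : G → ℂ) z -
      ((Nat.card G / p ^ (Nat.card G).factorization p : ℕ) : ℂ) * blockCoeff B (a⁻¹ * z)⁻¹) := by
  have hMp : M.IsPrime := isPModular_isPrime hM
  have hMtop : M ≠ ⊤ := hMp.ne_top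
  have hw : ¬ p ∣ orderOf (a⁻¹ * z) := by
    obtain ⟨y, hay, -, -, hy⟩ := ha
    have : a⁻¹ * z = y := by rw [← hay]; group
    rwa [this]
  rw [← sum_block_int_mul_pReg p M hM B hB T hT n hn (a⁻¹ * z) hw, ← Finset.sum_sub_distrib]
  apply memLocalIdeal_sum
  intro χ _
  rw [← mul_sub]
  apply memLocalIdeal_mul_left (memLocalRing_intCast hMtop _)
  exact Cfsg.Agent.Lib.Helper76.memLocalIdeal_irr_sub_pPart p M hM χ z a ha

omit [Fintype G] in
/-- the centralizer of `x` is contained in the centralizer of any power of `x` -/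
theorem centralizer_le_of_mem_zpowers {x w : G} (hw : w ∈ Subgroup.zpowers x) :
    Subgroup.centralizer ({x} : Set G) ≤ Subgroup.centralizer ({w} : Set G) := by
  intro c hc
  rw [Subgroup.mem_centralizer_singleton_iff] at hc ⊢
  obtain ⟨k, rfl⟩ := Subgroup.mem_zpowers_iff.mp hw
  have h : Commute c x := hc
  exact (h.zpow_right k).eq

/-- identification of the defect group -/
theorem isDefectGroup_of_nonvanishing (p : ℕ) [Fact p.Prime] (M : Ideal AlgInt)
    (hM : IsPModular p M) (B : Set (IrrCharacter G)) (hB : IsPBlock M B)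
    (T : Finset (IrrCharacter G)) (hT : ∀ χ, χ ∈ T ↔ χ ∈ B)
    (n : IrrCharacter G → ℤ) (hn : ∀ χ : IrrCharacter G,
      classInner (pElemFun p G) (χ : G → ℂ) = n χ)
    (D : Subgroup G) (xi xj : G)
    (hDi : ∃ S : Sylow p ↥(Subgroup.centralizer ({xi} : Set G)),
      (S : Subgroup ↥(Subgroup.centralizer ({xi} : Set G))).map
        (Subgroup.centralizer ({xi} : Set G)).subtype = D)
    (hDj : ∃ S : Sylow p ↥(Subgroup.centralizer ({xj} : Set G)),
      (S : Subgroup ↥(Subgroup.centralizer ({xj} : Set G))).map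
        (Subgroup.centralizer ({xj} : Set G)).subtype = D)
    (ψ : IrrCharacter G) (hψ : ψ ∈ B)
    (h1 : ¬ MemLocalIdeal M (centralChar (ψ : G → ℂ) xi))
    (h2 : ¬ MemLocalIdeal M (∑ χ ∈ T, (n χ : ℂ) * (χ : G → ℂ) xj⁻¹)) :
    IsDefectGroup p M B D := by
  classical
  have hp : p.Prime := Fact.out
  have hMp : M.IsPrime := isPModular_isPrime hM
  have hMtop : M ≠ ⊤ := hMp.ne_top
  obtain ⟨g, hg⟩ := exists_isDefectClass (M := M) hB
  obtain ⟨DB⟩ : Nonempty (Sylow p ↥(Subgroup.centralizer ({g} : Set G))) := inferInstance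
  set DBm := (DB : Subgroup ↥(Subgroup.centralizer ({g} : Set G))).map
    (Subgroup.centralizer ({g} : Set G)).subtype with hDBm
  have hDBdef : IsDefectGroup p M B DBm := ⟨g, hg, DB, rfl⟩
  -- first inequality
  obtain ⟨x, Q, hQ⟩ := (Cfsg.Agent.S0911.result p M hM B hB g hg DB xi).2 ⟨ψ, hψ, h1⟩
  -- second inequality
  obtain ⟨a, ha⟩ := Cfsg.Agent.Lib.Helper78.exists_isPPart p xj⁻¹
  set w := a⁻¹ * xj⁻¹ with hw
  have hcongr := sum_block_int_mul_congr p M hM B hB T hT n hn xj⁻¹ a ha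
  have hbc : ¬ MemLocalIdeal M (blockCoeff B w⁻¹) := by
    intro hmem
    apply h2
    have h3 : MemLocalIdeal M
        (((Nat.card G / p ^ (Nat.card G).factorization p : ℕ) : ℂ) * blockCoeff B w⁻¹) :=
      memLocalIdeal_mul_left (memLocalRing_natCast hMtop _) hmem
    have := memLocalIdeal_add hcongr h3
    rwa [sub_add_cancel] at this
  have hbr : MemLocalRing M (blockCoeff B w⁻¹) := Cfsg.Agent.S0913.result p M hM B hB w⁻¹
  obtain ⟨x', Q', hQ'⟩ := (Cfsg.Agent.S0911.result p M hM B hB g hg DB w⁻¹).1 hbr hbc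
  -- cardinalities
  obtain ⟨Si, hSi⟩ := hDi
  obtain ⟨Sj, hSj⟩ := hDj
  have hcDi : Nat.card D = p ^ (Nat.card (Subgroup.centralizer ({xi} : Set G))).factorization p := by
    rw [← hSi, card_sylow_map]
  have hcDj : Nat.card D = p ^ (Nat.card (Subgroup.centralizer ({xj} : Set G))).factorization p := by
    rw [← hSj, card_sylow_map]
  have hwz : w⁻¹ ∈ Subgroup.zpowers xj := by
    have h1 : a ∈ Subgroup.zpowers xj⁻¹ := Cfsg.Agent.Lib.Helper78.isPPart_mem_zpowers ha
    rw [Subgroup.zpowers_inv] at h1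
    apply Subgroup.inv_mem
    rw [hw]
    exact Subgroup.mul_mem _ (Subgroup.inv_mem _ h1)
      (Subgroup.inv_mem _ (Subgroup.mem_zpowers xj))
  have hle : Subgroup.centralizer ({xj} : Set G) ≤ Subgroup.centralizer ({w⁻¹} : Set G) :=
    centralizer_le_of_mem_zpowers hwz
  have hfac : (Nat.card (Subgroup.centralizer ({xj} : Set G))).factorization p ≤
      (Nat.card (Subgroup.centralizer ({w⁻¹} : Set G))).factorization p :=
    (Nat.factorization_le_iff_dvd Nat.card_pos.ne' Nat.card_pos.ne').mpr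
      (Subgroup.card_dvd_of_le hle) p
  have hc1 : Nat.card DBm ≤ Nat.card D := by
    rw [hcDi, ← card_sylow_map Q, ← card_map_conj DBm x]
    exact Subgroup.card_le_of_le hQ
  have hc2 : Nat.card D ≤ Nat.card DBm := by
    calc Nat.card D = p ^ (Nat.card (Subgroup.centralizer ({xj} : Set G))).factorization p := hcDj
      _ ≤ p ^ (Nat.card (Subgroup.centralizer ({w⁻¹} : Set G))).factorization p :=
        Nat.pow_le_pow_right hp.pos hfac
      _ = Nat.card ((Q' : Subgroup ↥(Subgroup.centralizer ({w⁻¹} : Set G))).map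
          (Subgroup.centralizer ({w⁻¹} : Set G)).subtype) := (card_sylow_map Q').symm
      _ ≤ Nat.card (DBm.map (MulAut.conj x').toMonoidHom) := Subgroup.card_le_of_le hQ'
      _ = Nat.card DBm := card_map_conj DBm x'
  have hcard : Nat.card DBm = Nat.card D := le_antisymm hc1 hc2
  -- conjugacy
  set Tm := DBm.map (MulAut.conj x).toMonoidHom with hTm
  have hTle : Tm ≤ Subgroup.centralizer ({xi} : Set G) := by
    intro y hy
    obtain ⟨c, _, rfl⟩ := hQ hy
    exact c.2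
  have hTcard : Nat.card Tm = Nat.card D := by rw [hTm, card_map_conj, hcard]
  have hTp : IsPGroup p Tm := by
    apply IsPGroup.of_card (n := (Nat.card (Subgroup.centralizer ({xi} : Set G))).factorization p)
    rw [hTcard, hcDi]
  obtain ⟨z, _, hz⟩ := exists_conj_sylow_map_ge (Subgroup.centralizer ({xi} : Set G)) Si Tm hTp hTle
  rw [hSi] at hz
  have hTz : Tm = D.map (MulAut.conj z).toMonoidHom :=
    Subgroup.eq_of_le_of_card_ge hz (by rw [card_map_conj, hTcard])
  have hD : D = DBm.map (MulAut.conj (z⁻¹ * x)).toMonoidHom := by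
    rw [← map_conj_map_conj, ← hTm, hTz, map_conj_map_conj]
    ext y
    rw [mem_map_conj_iff]
    have : (z⁻¹ * z)⁻¹ * y * (z⁻¹ * z) = y := by group
    rw [this]
  rw [hD]
  exact Cfsg.Agent.S4433.isDefectGroup_conj p M B DBm hDBdef (z⁻¹ * x)

end Cfsg.Agent.Lib.Helper79
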