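import Cfsg.Agent.Lib.Helper79.PElemChar
import Cfsg.Agent.Lib.Helper81.BrauerPerm

/-!
# A class-multiplication identity for classes separated by `p`-elements (helper79)
-/

set_option autoImplicit false

namespace Cfsg.Agent.Lib.Helper79

open Cfsg
open scoped ComplexConjugate

variable {G : Type*} [Group G] [Fintype G]

/-- number of pairs of conjugators of `x` giving the same conjugate -/
theorem card_conj_eq_self (x : G)
    [DecidablePred (fun ab : G × G => ab.1 * x * ab.1⁻¹ = ab.2 * x * ab.2⁻¹)] :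
    (Finset.univ.filter (fun ab : G × G => ab.1 * x * ab.1⁻¹ = ab.2 * x * ab.2⁻¹)).card =
      Nat.card G * Nat.card (Subgroup.centralizer ({x} : Set G)) := by
  classical
  rw [← Fintype.card_subtype, ← Nat.card_eq_fintype_card]
  have e := Equiv.subtypeProdEquivSigmaSubtype
    (fun a b : G => a * x * a⁻¹ = b * x * b⁻¹)
  rw [Nat.card_congr e, Nat.card_sigma]
  have h : ∀ a : G, Nat.card {b : G // a * x * a⁻¹ = b * x * b⁻¹} =
      Nat.card (Subgroup.centralizer ({x} : Set G)) := by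
    intro a
    have hc : IsConj x (a * x * a⁻¹) := isConj_iff.mpr ⟨a, rfl⟩
    rw [← Cfsg.Agent.Lib.Helper81.card_conjugators_of_isConj hc]
    exact Nat.card_congr (Equiv.subtypeEquivRight (fun b => eq_comm))
  simp only [h, Finset.sum_const, Finset.card_univ, smul_eq_mul, Nat.card_eq_fintype_card]

/-- the key identity: if no quotient of a conjugate of `x` by a conjugate of `y` is a nontrivial
`p`-element, then a weighted character sum counts the pairs of equal conjugates. -/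
theorem sep_identity [DecidableEq G] (p : ℕ) [Fact p.Prime] (x y : G)
    (hsep : ∀ a b : G, (∃ k : ℕ, orderOf (a * x * a⁻¹ * (b * y * b⁻¹)⁻¹) = p ^ k) →
      a * x * a⁻¹ = b * y * b⁻¹)
    (n : IrrCharacter G → ℤ) (hn : ∀ χ : IrrCharacter G,
      classInner (pElemFun p G) (χ : G → ℂ) = n χ) :
    (Nat.card G : ℂ) * ((p ^ (Nat.card G).factorization p : ℕ) : ℂ) *
      ∑ χ : IrrCharacter G, (n χ : ℂ) * ((χ : G → ℂ) x * (χ : G → ℂ) y⁻¹ / (χ : G → ℂ) 1) =
    ((Finset.univ.filter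
      (fun ab : G × G => ab.1 * x * ab.1⁻¹ = ab.2 * y * ab.2⁻¹)).card : ℂ) := by
  classical
  set s := Finset.univ.filter (fun ab : G × G => ab.1 * x * ab.1⁻¹ = ab.2 * y * ab.2⁻¹) with hs
  set t := Finset.univ.filter (fun u : G => ∃ k : ℕ, orderOf u = p ^ k) with ht
  set f : G × G → G := fun ab => ab.1 * x * ab.1⁻¹ * (ab.2 * y⁻¹ * ab.2⁻¹) with hf
  have hinv : ∀ b : G, (b * y * b⁻¹)⁻¹ = b * y⁻¹ * b⁻¹ := by intro b; group
  have hmaps : ∀ ab ∈ s, f ab ∈ t := by
    intro ab hab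
    rw [hs, Finset.mem_filter] at hab
    rw [ht, Finset.mem_filter]
    refine ⟨Finset.mem_univ _, 0, ?_⟩
    rw [hf]
    simp only
    rw [hab.2, ← hinv, mul_inv_cancel, orderOf_one, pow_zero]
  have h1 : s.card = ∑ u ∈ t, (s.filter (fun ab => f ab = u)).card :=
    Finset.card_eq_sum_card_fiberwise hmaps
  have h2 : ∀ u ∈ t, s.filter (fun ab => f ab = u) =
      Finset.univ.filter (fun ab : G × G => ab.1 * x * ab.1⁻¹ * (ab.2 * y⁻¹ * ab.2⁻¹) = u) := by
    intro u hu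
    rw [ht, Finset.mem_filter] at hu
    ext ab
    simp only [hs, Finset.mem_filter, Finset.mem_univ, true_and, hf]
    constructor
    · exact fun h => h.2
    · intro h
      refine ⟨?_, h⟩
      apply hsep
      rw [hinv, h]
      exact hu.2
  have h3 : ∀ u ∈ t, ((Finset.univ.filter
      (fun ab : G × G => ab.1 * x * ab.1⁻¹ * (ab.2 * y⁻¹ * ab.2⁻¹) = u)).card : ℂ) =
      (Nat.card G : ℂ) * ∑ χ : IrrCharacter G,
          (χ : G → ℂ) x * (χ : G → ℂ) y⁻¹ * (χ : G → ℂ) u⁻¹ / (χ : G → ℂ) 1 :=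
    fun u _ => card_conj_pairs x y⁻¹ u
  have hcard : (s.card : ℂ) = ∑ u ∈ t, (Nat.card G : ℂ) * ∑ χ : IrrCharacter G,
          (χ : G → ℂ) x * (χ : G → ℂ) y⁻¹ * (χ : G → ℂ) u⁻¹ / (χ : G → ℂ) 1 := by
    rw [h1]
    push_cast
    apply Finset.sum_congr rfl
    intro u hu
    rw [h2 u hu]
    exact h3 u hu
  rw [hcard, ← Finset.mul_sum, Finset.sum_comm, mul_assoc]
  congr 1
  rw [Finset.mul_sum]
  apply Finset.sum_congr rfl
  intro χ _
  have h4 := sum_pElem_inv p χ (n χ) (hn χ)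
  rw [← ht] at h4
  have h5 : ∑ u ∈ t, (χ : G → ℂ) x * (χ : G → ℂ) y⁻¹ * (χ : G → ℂ) u⁻¹ / (χ : G → ℂ) 1 =
      (χ : G → ℂ) x * (χ : G → ℂ) y⁻¹ / (χ : G → ℂ) 1 * ∑ u ∈ t, (χ : G → ℂ) u⁻¹ := by
    rw [Finset.mul_sum]
    apply Finset.sum_congr rfl
    intro u _
    ring
  rw [h5, h4]
  ring

end Cfsg.Agent.Lib.Helper79
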