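import Cfsg.Agent.Lib.Helper78.CharMore
import Cfsg.Agent.Lib.Helper75.Clifford

/-!
# Invariant characters of `p'`-degree (helper79)

* `dvd_sum_not_fixed`: weighted fixed-point congruence.
* `exists_invariant_irr_of_pow_index`: if `N ⊴ H` has `p`-power index and `p ∣ |N|`, then `N` has a
  nontrivial `H`-invariant irreducible character of degree prime to `p`.
-/

open Cfsg

namespace Cfsg.Agent.Lib.Helper79

/-- Weighted fixed-point congruence: if all nontrivial orbits have size divisible by `p` and `f`
is constant on orbits, then the sum of `f` over the non-fixed points is divisible by `p`. -/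
theorem dvd_sum_not_fixed {H X : Type*} [Group H] [MulAction H X] [Fintype X] (p : ℕ)
    (hH : ∀ x : X, x ∉ MulAction.fixedPoints H X → p ∣ Nat.card (MulAction.orbit H x))
    (f : X → ℕ) (hf : ∀ (h : H) (x : X), f (h • x) = f x)
    [DecidablePred (fun x : X => x ∈ MulAction.fixedPoints H X)] :
    p ∣ ∑ x ∈ Finset.univ.filter (fun x : X => x ∉ MulAction.fixedPoints H X), f x := by
  classical
  set S := Finset.univ.filter (fun x : X => x ∉ MulAction.fixedPoints H X) with hS
  let g : X → MulAction.orbitRel.Quotient H X := Quotient.mk''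
  rw [← Finset.sum_fiberwise_of_maps_to (s := S) (t := S.image g) (g := g)
    (fun i hi => Finset.mem_image_of_mem g hi) f]
  apply Finset.dvd_sum
  intro q hq
  obtain ⟨x₀, hx₀S, rfl⟩ := Finset.mem_image.mp hq
  have hx₀ : x₀ ∉ MulAction.fixedPoints H X := (Finset.mem_filter.mp hx₀S).2
  -- the fibre is the orbit of `x₀`
  have hfib : S.filter (fun x => g x = g x₀) = (MulAction.orbit H x₀).toFinset := by
    ext x
    simp only [Finset.mem_filter, Set.mem_toFinset]
    constructor
    · rintro ⟨_, hx⟩
      exact (MulAction.orbitRel_apply).mp (Quotient.exact' hx)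
    · intro hx
      refine ⟨?_, Quotient.sound' ((MulAction.orbitRel_apply).mpr hx)⟩
      rw [hS, Finset.mem_filter]
      refine ⟨Finset.mem_univ _, fun hfix => hx₀ ?_⟩
      obtain ⟨h, rfl⟩ := hx
      -- `h • x₀` fixed implies `x₀` fixed
      intro k
      have := hfix (h * k * h⁻¹)
      rw [mul_smul, mul_smul, inv_smul_smul] at this
      exact smul_left_cancel h this
  rw [hfib]
  have hconst : ∀ x ∈ (MulAction.orbit H x₀).toFinset, f x = f x₀ := by
    intro x hx
    rw [Set.mem_toFinset] at hx
    obtain ⟨h, rfl⟩ := hx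
    exact hf h x₀
  rw [Finset.sum_congr rfl hconst, Finset.sum_const, smul_eq_mul]
  apply Dvd.dvd.mul_right
  have := hH x₀ hx₀
  rwa [Nat.card_eq_fintype_card, ← Set.toFinset_card] at this

section Inv

universe u

variable {H : Type u} [Group H] (N : Subgroup H) [hN : N.Normal]

open Cfsg.Agent.Lib.Helper75 Cfsg.Agent.Lib.Helper78

/-- The conjugation action of `H` on the irreducible characters of a normal subgroup. -/
@[reducible] noncomputable def irrConjAction : MulAction H (IrrCharacter N) where
  smul h θ := ⟨conjFun N h⁻¹ (θ : N → ℂ), isIrrCharacter_conjFun N θ.2 h⁻¹⟩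
  one_smul θ := by
    apply Subtype.ext
    show conjFun N (1 : H)⁻¹ (θ : N → ℂ) = θ
    rw [inv_one, conjFun_one]
  mul_smul g h θ := by
    apply Subtype.ext
    show conjFun N (g * h)⁻¹ (θ : N → ℂ) = conjFun N g⁻¹ (conjFun N h⁻¹ (θ : N → ℂ))
    rw [mul_inv_rev, conjFun_mul]

theorem irrConjAction_smul_coe (h : H) (θ : IrrCharacter N) :
    (((irrConjAction N).smul h θ : IrrCharacter N) : N → ℂ) = conjFun N h⁻¹ (θ : N → ℂ) := rfl

/-- If `N ⊴ H` has `p`-power index and `p ∣ |N|`, then `N` has a nontrivial `H`-invariant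
irreducible character of degree prime to `p`. -/
theorem exists_invariant_irr_of_pow_index [Finite H] (p : ℕ) (hp : p.Prime) (k : ℕ)
    (hidx : N.index = p ^ k) (hpN : p ∣ Nat.card N) :
    ∃ θ : IrrCharacter N, (θ : N → ℂ) ≠ (fun _ => (1 : ℂ)) ∧
      (∀ h : H, conjFun N h (θ : N → ℂ) = θ) ∧ ¬ p ∣ charDegree (θ : N → ℂ) := by
  classical
  letI : Fintype N := Fintype.ofFinite N
  letI : MulAction H (IrrCharacter N) := irrConjAction N
  have hsmul : ∀ (h : H) (θ : IrrCharacter N), ((h • θ : IrrCharacter N) : N → ℂ)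
      = conjFun N h⁻¹ (θ : N → ℂ) := fun h θ => rfl
  -- degrees are invariant
  have hdeg : ∀ (h : H) (θ : IrrCharacter N),
      charDegree ((h • θ : IrrCharacter N) : N → ℂ) ^ 2 = charDegree (θ : N → ℂ) ^ 2 := by
    intro h θ
    have : ((h • θ : IrrCharacter N) : N → ℂ) 1 = (θ : N → ℂ) 1 := by
      rw [hsmul, conjFun_apply]
      congr 1
      simp
      rfl
    unfold charDegree
    rw [this]
  -- fixed points are the invariant characters
  have hfix : ∀ θ : IrrCharacter N, θ ∈ MulAction.fixedPoints H (IrrCharacter N) ↔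
      ∀ h : H, conjFun N h (θ : N → ℂ) = θ := by
    intro θ
    constructor
    · intro hθ h
      have := congrArg Subtype.val (hθ h⁻¹)
      rw [hsmul, inv_inv] at this
      exact this
    · intro hθ h
      apply Subtype.ext
      rw [hsmul]
      exact hθ h⁻¹
  -- nontrivial orbits have size divisible by `p`
  have horb : ∀ θ : IrrCharacter N, θ ∉ MulAction.fixedPoints H (IrrCharacter N) →
      p ∣ Nat.card (MulAction.orbit H θ) := by
    intro θ hθ
    rw [Nat.card_coe_set_eq, ← MulAction.index_stabilizer]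
    have hle : N ≤ MulAction.stabilizer H θ := by
      intro n hn
      rw [MulAction.mem_stabilizer_iff]
      apply Subtype.ext
      rw [hsmul]
      exact conjFun_of_mem N (IsCharacter.isClassFunction (IsIrrCharacter.isCharacter θ.2))
        (⟨n, hn⟩⁻¹ : N)
    have hdvd : (MulAction.stabilizer H θ).index ∣ p ^ k := by
      rw [← hidx]; exact Subgroup.index_dvd_of_le hle
    obtain ⟨i, _, hi⟩ := (Nat.dvd_prime_pow hp).mp hdvd
    rcases Nat.eq_zero_or_pos i with h0 | hpos
    · exfalso
      apply hθ
      rw [h0, pow_zero, Subgroup.index_eq_one] at hi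
      intro h
      have : h ∈ MulAction.stabilizer H θ := by rw [hi]; exact Subgroup.mem_top h
      exact this
    · rw [hi]
      exact dvd_pow_self p hpos.ne'
  have hnf := dvd_sum_not_fixed (H := H) (X := IrrCharacter N) p horb
    (fun θ => charDegree (θ : N → ℂ) ^ 2) hdeg
  have hall : ∑ θ : IrrCharacter N, charDegree (θ : N → ℂ) ^ 2 = Nat.card N :=
    sum_irr_charDegree_sq
  have hsplit := Finset.sum_filter_add_sum_filter_not (Finset.univ : Finset (IrrCharacter N))
    (fun θ => θ ∈ MulAction.fixedPoints H (IrrCharacter N))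
    (fun θ => charDegree (θ : N → ℂ) ^ 2)
  rw [hall] at hsplit
  have hfixdvd : p ∣ ∑ θ ∈ Finset.univ.filter
      (fun θ : IrrCharacter N => θ ∈ MulAction.fixedPoints H (IrrCharacter N)),
      charDegree (θ : N → ℂ) ^ 2 := by
    have := (Nat.dvd_add_left hnf).mp (hsplit ▸ hpN)
    exact this
  -- the trivial character
  set triv : IrrCharacter N := ⟨fun _ => (1 : ℂ), isIrrCharacter_one⟩ with htriv
  have htrivfix : triv ∈ MulAction.fixedPoints H (IrrCharacter N) := by
    rw [hfix]
    intro h
    rfl
  have htrivdeg : charDegree (triv : N → ℂ) = 1 := by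
    simp [htriv, charDegree]
  by_contra hno
  push Not at hno
  -- every fixed nontrivial character has degree divisible by `p`
  have hrest : p ∣ ∑ θ ∈ (Finset.univ.filter
      (fun θ : IrrCharacter N => θ ∈ MulAction.fixedPoints H (IrrCharacter N))).erase triv,
      charDegree (θ : N → ℂ) ^ 2 := by
    apply Finset.dvd_sum
    intro θ hθ
    rw [Finset.mem_erase, Finset.mem_filter] at hθ
    have hne : (θ : N → ℂ) ≠ fun _ => (1 : ℂ) := by
      intro h
      apply hθ.1
      apply Subtype.ext
      exact h
    exact Dvd.dvd.pow (hno θ hne ((hfix θ).mp hθ.2.2)) two_ne_zero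
  have hmem : triv ∈ Finset.univ.filter
      (fun θ : IrrCharacter N => θ ∈ MulAction.fixedPoints H (IrrCharacter N)) :=
    Finset.mem_filter.mpr ⟨Finset.mem_univ _, htrivfix⟩
  rw [← Finset.add_sum_erase _ _ hmem, htrivdeg, one_pow] at hfixdvd
  have : p ∣ 1 := (Nat.dvd_add_left hrest).mp hfixdvd
  exact hp.one_lt.ne' (Nat.dvd_one.mp this)

end Inv

end Cfsg.Agent.Lib.Helper79
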