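import Cfsg.Agent.Lib.Helper79.ThompsonK
import Cfsg.Agent.Lib.Helper79.ThompsonInv
import Cfsg.Agent.Lib.Helper15.DetChar
import Cfsg.Agent.S0863

/-!
# Thompson's theorem on character degrees: the perfect minimal normal subgroup case (helper79)

`false_of_perfect_normal`: under `ThompsonHyp p G`, a perfect normal subgroup has order prime
to `p`.
-/

open Cfsg

namespace Cfsg.Agent.Lib.Helper79

universe u

section B2

variable {G : Type u} [Group G] [Fintype G]

open Cfsg.Agent.Lib.Helper78 Cfsg.Agent.Lib.Helper75 Cfsg.Agent.Lib.Helper77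

/-- The determinantal character of a character of a perfect group is trivial. -/
theorem detChar_eq_one_of_perfect {N : Type*} [Group N] [Finite N] (hperf : commutator N = ⊤)
    {θ : N → ℂ} (hθ : IsCharacter N θ) (n : N) : detChar θ n = 1 := by
  obtain ⟨δ, hδ⟩ := Cfsg.Agent.Lib.Helper15.exists_detHom hθ
  rw [hδ]
  have hker : commutator N ≤ δ.ker := Abelianization.commutator_subset_ker δ
  have : n ∈ δ.ker := hker (hperf ▸ Subgroup.mem_top n)
  rw [MonoidHom.mem_ker.mp this]
  rfl

/-- Under `ThompsonHyp p G`, a perfect normal subgroup has order prime to `p`. -/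
theorem not_dvd_card_of_perfect_normal (p : ℕ) (hp : p.Prime) (hyp : ThompsonHyp p G)
    (M : Subgroup G) [hM : M.Normal] (hperf : ⁅M, M⁆ = M) : ¬ p ∣ Nat.card M := by
  classical
  intro hpM
  have : Fact p.Prime := ⟨hp⟩
  obtain P : Sylow p G := default
  set U : Subgroup G := M ⊔ (P : Subgroup G) with hU
  have hMU : M ≤ U := le_sup_left
  have hPU : (P : Subgroup G) ≤ U := le_sup_right
  have hUidx : ¬ p ∣ U.index := fun h =>
    P.not_dvd_index (dvd_trans h (Subgroup.index_dvd_of_le hPU))
  set N : Subgroup U := M.subgroupOf U with hN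
  have hNn : N.Normal := inferInstance
  -- the index of `N` in `U` is a power of `p`
  have hidx : ∃ k : ℕ, N.index = p ^ k := by
    have h1 : N.index = M.relIndex (P : Subgroup G) := by
      rw [hN, ← Subgroup.relIndex, hU, Subgroup.relIndex_sup_left]
    obtain ⟨a, ha⟩ := IsPGroup.iff_card.mp P.2
    have h2 : M.relIndex (P : Subgroup G) ∣ p ^ a := by
      rw [← ha]
      exact Subgroup.index_dvd_card _
    obtain ⟨k, _, hk⟩ := (Nat.dvd_prime_pow hp).mp h2
    exact ⟨k, h1.trans hk⟩
  obtain ⟨k, hk⟩ := hidx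
  have hcardN : Nat.card N = Nat.card M :=
    Nat.card_congr (Subgroup.subgroupOfEquivOfLe hMU).toEquiv
  -- `N` is perfect
  have hNperf : commutator N = ⊤ := by
    have h1 : (N.map U.subtype) = M := by
      rw [hN, Subgroup.subgroupOf_map_subtype, inf_eq_left.mpr hMU]
    have h2 : ⁅N, N⁆ = N := by
      apply Subgroup.map_injective U.subtype_injective
      rw [Subgroup.map_commutator, h1, hperf]
    apply Subgroup.map_injective N.subtype_injective
    rw [Subgroup.map_subtype_commutator, h2, ← MonoidHom.range_eq_map, Subgroup.range_subtype]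
  -- an invariant character of `p'`-degree
  obtain ⟨θ, hθne, hθinv, hθdeg⟩ :=
    exists_invariant_irr_of_pow_index N p hp k hk (hcardN ▸ hpM)
  have hθchar : IsCharacter N (θ : N → ℂ) := IsIrrCharacter.isCharacter θ.2
  -- it extends to `U`
  have hsolv : Group.IsSolvable (U ⧸ N) := by
    have hpg : IsPGroup p (U ⧸ N) := IsPGroup.of_card (n := k) (by rw [← hk]; rfl)
    have : Group.IsNilpotent (U ⧸ N) := hpg.isNilpotent
    infer_instance
  have hext := (Cfsg.Agent.S0863.result N hsolv (θ : N → ℂ) θ.2
    (fun g n => congrFun (hθinv g) n) (charDegree (θ : N → ℂ))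
    (IsCharacter.apply_one_eq_charDegree hθchar)
    (hk ▸ Nat.Coprime.pow_left k ((Nat.Prime.coprime_iff_not_dvd hp).mpr hθdeg))).mpr
    ⟨fun _ => 1, IsIrrCharacter.isCharacter isIrrCharacter_one, rfl,
      fun n => (detChar_eq_one_of_perfect hNperf hθchar n).symm⟩
  obtain ⟨χ, hχ, hχθ⟩ := hext
  set φ : IrrCharacter U := ⟨χ, hχ⟩ with hφ
  have hφdeg : ¬ p ∣ charDegree (φ : U → ℂ) := by
    have h1 : (φ : U → ℂ) 1 = (θ : N → ℂ) 1 := hχθ 1
    have : charDegree (φ : U → ℂ) = charDegree (θ : N → ℂ) := by
      unfold charDegree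
      rw [h1]
    rw [this]; exact hθdeg
  apply hθne
  funext n
  rw [← hχθ n]
  have hn : ((n : U) : G) ∈ commutator G := by
    have h1 : ((n : U) : G) ∈ M := n.2
    rw [← hperf] at h1
    rw [_root_.commutator_def]
    exact Subgroup.commutator_mono le_top le_top h1
  exact lemmaK_commutator p hp hyp U hUidx φ hφdeg (n : U) hn

end B2

end Cfsg.Agent.Lib.Helper79
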