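import Cfsg.Agent.Lib.Helper78.CharMore
import Cfsg.Agent.Lib.Helper75.Clifford
import Cfsg.Agent.Lib.Helper77.Linear
import Cfsg.Agent.S0148

/-!
# Thompson's theorem on character degrees: the key character-theoretic lemma (helper79)

`ThompsonHyp p G`: `p` divides the degree of every nonlinear irreducible character of `G`.

* `lemmaK`: under `ThompsonHyp p G`, if `U ≤ G` has index prime to `p` and `φ ∈ Irr(U)` has degree
  prime to `p`, then `φ` is the restriction of a linear character of `G`.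
* `lemmaK_commutator`: hence `φ u = 1` for `u ∈ U ∩ G'`.
-/

open Cfsg

namespace Cfsg.Agent.Lib.Helper79

universe u

/-- `p` divides the degree of every nonlinear irreducible character. -/
def ThompsonHyp (p : ℕ) (G : Type u) [Group G] : Prop :=
  ∀ χ : IrrCharacter G, charDegree (χ : G → ℂ) ≠ 1 → p ∣ charDegree (χ : G → ℂ)

section LemmaK

variable {G : Type u} [Group G] [Fintype G]

open Cfsg.Agent.Lib.Helper78 Cfsg.Agent.Lib.Helper75 Cfsg.Agent.Lib.Helper77

/-- A character of degree one restricted to a subgroup is an irreducible character. -/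
theorem isIrrCharacter_res_of_degree_one (U : Subgroup G) {χ : G → ℂ} (hχ : IsCharacter G χ)
    (h1 : χ 1 = 1) : IsIrrCharacter U (fun u : U => χ u) := by
  obtain ⟨φ, hφ⟩ := exists_monoidHom_of_degree_one hχ h1
  have := isIrrCharacter_of_monoidHom (φ.comp U.subtype)
  convert this using 1
  funext u
  rw [hφ]
  rfl

/-- **Lemma K.** -/
theorem lemmaK (p : ℕ) (hp : p.Prime) (hyp : ThompsonHyp p G) (U : Subgroup G)
    (hU : ¬ p ∣ U.index) (φ : IrrCharacter U) (hφ : ¬ p ∣ charDegree (φ : U → ℂ)) :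
    ∃ χ : IrrCharacter G, (χ : G → ℂ) 1 = 1 ∧ ∀ u : U, (χ : G → ℂ) u = (φ : U → ℂ) u := by
  classical
  letI : Fintype U := Fintype.ofFinite U
  set Φ : G → ℂ := indFun U (φ : U → ℂ) with hΦdef
  have hΦ : IsCharacter G Φ := Cfsg.Agent.S0148.result U _ (IsIrrCharacter.isCharacter φ.2)
  have hΦ1 : Φ 1 = (U.index : ℂ) * (charDegree (φ : U → ℂ) : ℂ) := by
    rw [hΦdef, indFun_one, IsCharacter.apply_one_eq_charDegree (IsIrrCharacter.isCharacter φ.2)]
  obtain ⟨m, hm⟩ := (isCharacter_iff_exists_nat_combination Φ).mp hΦ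
  have hcoef : ∀ ψ : IrrCharacter G, classInner Φ (ψ : G → ℂ) = (m ψ : ℂ) := by
    intro ψ
    rw [hm]
    exact classInner_nat_combination (fun φ => (m φ : ℂ)) ψ
  have hdeg : U.index * charDegree (φ : U → ℂ)
      = ∑ ψ : IrrCharacter G, m ψ * charDegree (ψ : G → ℂ) := by
    have h1 : Φ 1 = ∑ ψ : IrrCharacter G, (m ψ : ℂ) * (charDegree (ψ : G → ℂ) : ℂ) := by
      conv_lhs => rw [hm]
      rw [Finset.sum_apply]
      refine Finset.sum_congr rfl (fun ψ _ => ?_)
      rw [Pi.smul_apply, smul_eq_mul,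
        IsCharacter.apply_one_eq_charDegree (IsIrrCharacter.isCharacter ψ.2)]
    rw [hΦ1] at h1
    exact_mod_cast h1
  have hex : ∃ ψ : IrrCharacter G, ¬ p ∣ m ψ * charDegree (ψ : G → ℂ) := by
    by_contra hall
    push Not at hall
    have : p ∣ U.index * charDegree (φ : U → ℂ) := by
      rw [hdeg]
      exact Finset.dvd_sum (fun ψ _ => hall ψ)
    rcases (Nat.Prime.dvd_mul hp).mp this with h | h
    · exact hU h
    · exact hφ h
  obtain ⟨χ, hχ⟩ := hex
  have hm0 : m χ ≠ 0 := by
    intro h0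
    apply hχ
    rw [h0, zero_mul]
    exact dvd_zero p
  have hpdeg : ¬ p ∣ charDegree (χ : G → ℂ) := fun h => hχ (Dvd.dvd.mul_left h _)
  have hdeg1 : charDegree (χ : G → ℂ) = 1 := by
    by_contra hne
    exact hpdeg (hyp χ hne)
  have hχ1 : (χ : G → ℂ) 1 = 1 := by
    rw [IsCharacter.apply_one_eq_charDegree (IsIrrCharacter.isCharacter χ.2), hdeg1]
    simp
  refine ⟨χ, hχ1, ?_⟩
  have hres : IsIrrCharacter U (fun u : U => (χ : G → ℂ) u) :=
    isIrrCharacter_res_of_degree_one U (IsIrrCharacter.isCharacter χ.2) hχ1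
  have hfr := frobenius_reciprocity U (φ : U → ℂ)
    (IsCharacter.isClassFunction (IsIrrCharacter.isCharacter χ.2))
  rw [← hΦdef, hcoef χ] at hfr
  have hne : classInner (φ : U → ℂ) (fun u : U => (χ : G → ℂ) u) ≠ 0 := by
    rw [← hfr]
    exact_mod_cast hm0
  rw [classInner_irr φ.2 hres] at hne
  have heq : (φ : U → ℂ) = fun u : U => (χ : G → ℂ) u := by
    by_contra h
    rw [if_neg h] at hne
    exact hne rfl
  intro u
  rw [heq]

/-- Under `ThompsonHyp`, a `p'`-degree irreducible character of a subgroup of `p'`-index is trivial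
on the intersection with the commutator subgroup. -/
theorem lemmaK_commutator (p : ℕ) (hp : p.Prime) (hyp : ThompsonHyp p G) (U : Subgroup G)
    (hU : ¬ p ∣ U.index) (φ : IrrCharacter U) (hφ : ¬ p ∣ charDegree (φ : U → ℂ))
    (u : U) (hu : (u : G) ∈ commutator G) : (φ : U → ℂ) u = 1 := by
  obtain ⟨χ, hχ1, hχ⟩ := lemmaK p hp hyp U hU φ hφ
  rw [← hχ u]
  exact linear_character_eq_one_of_mem_commutator χ hχ1 _ hu

end LemmaK

end Cfsg.Agent.Lib.Helper79
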